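import Cfsg.Agent.Fusion.Basic
import Cfsg.Agent.EvenType.StronglyEmbedded

/-!
# Transport of essential subgroups along isomorphisms of the system
-/

set_option autoImplicit false
set_option linter.style.haveILetI false

namespace CfsgLib.FusionRankThree

open Cfsg Cfsg.FusionSystem CfsgLib.Fusion

variable {p : ℕ} [Fact p.Prime]

theorem stronglyPEmbedded_map {A B : Type*} [Group A] [Group B] [Finite A] (e : A ≃* B)
    {Y : Subgroup A} (hY : IsStronglyPEmbedded p Y) :
    IsStronglyPEmbedded p (Y.map e.toMonoidHom) := by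
  haveI : Finite B := Finite.of_equiv A e.toEquiv
  obtain ⟨hdvd, htop, P, hP⟩ := hY
  refine ⟨Nat.card_congr e.toEquiv ▸ hdvd, fun h => htop ?_, P.mapSurjective (f := e.toMonoidHom)
    e.surjective, iSup_le ?_⟩
  · exact Subgroup.map_injective (f := e.toMonoidHom) e.injective
      (h.trans (Subgroup.map_top_of_surjective _ e.surjective).symm)
  rintro ⟨R, hRP, hR⟩ x hx
  have hR' : R.map e.symm.toMonoidHom ≤ (P : Subgroup A) := by
    rintro _ ⟨r, hr, rfl⟩
    obtain ⟨a, ha, har⟩ := hRP hr
    rw [show e.symm.toMonoidHom r = a by rw [← har]; exact e.symm_apply_apply a]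
    exact ha
  have hne : R.map e.symm.toMonoidHom ≠ ⊥ := by
    rw [ne_eq, Subgroup.map_eq_bot_iff_of_injective _ e.symm.injective]
    rintro rfl
    apply hR
    intro Q _ _
    rw [Subgroup.eq_bot_of_subsingleton Q, Subgroup.card_bot]
    exact Nat.one_le_pow _ _ (Fact.out : p.Prime).pos
  refine ⟨e.symm x, hP (EvenType.normalizer_le_kGeneratedCore_one P.isPGroup' hR' hne ?_),
    e.apply_symm_apply x⟩
  refine Subgroup.mem_normalizer_iff.2 fun z => ?_
  have hmem : ∀ z, z ∈ R.map e.symm.toMonoidHom ↔ e z ∈ R := fun z => by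
    refine ⟨?_, fun hz => ⟨_, hz, e.symm_apply_apply z⟩⟩
    rintro ⟨w, hw, rfl⟩
    exact (e.apply_symm_apply w).symm ▸ hw
  rw [hmem, hmem, Subgroup.mem_normalizer_iff.1 hx]
  simp

variable {Ω : Type*} [Group Ω] {S : Subgroup Ω} [Finite S] {F : FusionSystem S}
  {E E' : Subgroup Ω}

/-- A fully normalized conjugate of an essential subgroup is essential. -/
theorem isEssential_of_iso {e : E ≃* E'} (he : IsIso F e) (hE : F.IsEssential p E)
    (hn : F.IsFullyNormalized E') : F.IsEssential p E' := by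
  obtain ⟨hnorm, Y, hY⟩ := hE.2.2
  haveI := hnorm
  haveI := finite_of_le hE.1.1
  let f : F.autGroup E ≃* F.autGroup E' :=
    ((MulAut.congr e).subgroupMap (F.autGroup E)).trans (MulEquiv.subgroupCongr (map_autGroup he))
  have hf : ∀ α : F.autGroup E, (f α : MulAut E') = MulAut.congr e (α : MulAut E) := fun α => rfl
  have hInn : ∀ β : MulAut E, MulAut.congr e β ∈ Inn E' ↔ β ∈ Inn E := by
    intro β
    constructor
    · rintro ⟨w, hw⟩
      refine ⟨e.symm w, (MulAut.congr e).injective ?_⟩
      rw [← hw]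
      refine MulEquiv.ext fun z => ?_
      show e (e.symm w * e.symm z * (e.symm w)⁻¹) = w * z * w⁻¹
      rw [map_mul, map_mul, map_inv, e.apply_symm_apply, e.apply_symm_apply]
    · rintro ⟨w, rfl⟩
      refine ⟨e w, MulEquiv.ext fun z => ?_⟩
      show e w * z * (e w)⁻¹ = e (w * e.symm z * w⁻¹)
      rw [map_mul, map_mul, map_inv, e.apply_symm_apply]
  have hmap : ((Inn E).subgroupOf (F.autGroup E)).map f.toMonoidHom =
      (Inn E').subgroupOf (F.autGroup E') := by
    ext β
    constructor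
    · rintro ⟨α, hα, rfl⟩
      exact Subgroup.mem_subgroupOf.2 ((hInn α).2 (Subgroup.mem_subgroupOf.1 hα))
    · intro hβ
      obtain ⟨α, rfl⟩ := f.surjective β
      exact ⟨α, Subgroup.mem_subgroupOf.2 ((hInn α).1 (hf α ▸ Subgroup.mem_subgroupOf.1 hβ)), rfl⟩
  have hn' : ((Inn E').subgroupOf (F.autGroup E')).Normal :=
    hmap ▸ Subgroup.Normal.map inferInstance _ f.surjective
  haveI := hn'
  exact ⟨isCentric_of_isConj hE.1 he.isConj, hn, hn', _,
    stronglyPEmbedded_map (QuotientGroup.congr _ _ f hmap) hY⟩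

end CfsgLib.FusionRankThree
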