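import Cfsg.Agent.FusionRankThree.Frame

/-!
# Computing in `N_S(E)` with coordinates
-/

set_option autoImplicit false
set_option linter.style.haveILetI false

namespace CfsgLib.FusionRankThree

open Cfsg Cfsg.FusionSystem CfsgLib.Fusion Matrix
open scoped commutatorElement

variable {p : ℕ} [hp : Fact p.Prime]

theorem sum_pow_eq {M : M3 p} (h : (M - 1) ^ 3 = 0) (n : ℕ) :
    (∑ i ∈ Finset.range n, M ^ i) = (n : ZMod p) • (1 : M3 p) +
      (n.choose 2 : ZMod p) • (M - 1) + (n.choose 3 : ZMod p) • ((M - 1) * (M - 1)) := by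
  have hpow : ∀ i : ℕ, M ^ i = 1 + (i : ZMod p) • (M - 1) +
      (i.choose 2 : ZMod p) • ((M - 1) * (M - 1)) := by
    intro i
    induction i with
    | zero => simp
    | succ i ih =>
      rw [pow_succ, ih, Nat.choose_succ_succ' i 1, Nat.choose_one_right]
      have h3 : (M - 1) * (M - 1) * M = (M - 1) * (M - 1) := by
        calc (M - 1) * (M - 1) * M
            = (M - 1) ^ 3 + (M - 1) * (M - 1) := by
              rw [pow_succ, pow_two, mul_sub ((M - 1) * (M - 1)) M 1, mul_one, sub_add_cancel]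
          _ = _ := by rw [h, zero_add]
      have h2 : (M - 1) * M = (M - 1) + (M - 1) * (M - 1) := by
        rw [mul_sub (M - 1) M 1, mul_one]; abel
      rw [add_mul, add_mul, one_mul, smul_mul_assoc, smul_mul_assoc, h3, h2, Nat.cast_succ,
        Nat.cast_add, add_smul, add_smul, one_smul, smul_add]
      abel
  induction n with
  | zero => simp
  | succ n ih =>
    rw [Finset.sum_range_succ, ih, hpow n, Nat.choose_succ_succ' n 1, Nat.choose_succ_succ' n 2,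
      Nat.choose_one_right, Nat.cast_succ, Nat.cast_add, Nat.cast_add, add_smul, add_smul,
      add_smul, one_smul]
    abel

theorem choose_cast_eq_zero {k : ℕ} (hk : k ≠ 0) (hkp : k < p) :
    (p.choose k : ZMod p) = 0 :=
  (ZMod.natCast_eq_zero_iff _ _).2 (hp.out.dvd_choose_self hk hkp)

variable {Ω : Type*} [Group Ω] {S : Subgroup Ω} {F : FusionSystem S} {E : Subgroup Ω}

namespace Frame

variable (d : Frame F p E)

theorem q_one : d.q 1 = 0 := by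
  have h := d.mul 1 E.one_mem 1 E.one_mem
  rwa [mul_one, left_eq_add] at h

theorem q_inv {a : Ω} (ha : a ∈ E) : d.q a⁻¹ = -d.q a := by
  have h := d.mul a ha a⁻¹ (E.inv_mem ha)
  rw [mul_inv_cancel, d.q_one] at h
  exact eq_neg_of_add_eq_zero_right h.symm

theorem q_pow {a : Ω} (ha : a ∈ E) (n : ℕ) : d.q (a ^ n) = (n : ZMod p) • d.q a := by
  induction n with
  | zero => simp [d.q_one]
  | succ n ih => rw [pow_succ, d.mul _ (E.pow_mem ha n) a ha, ih, Nat.cast_succ, add_smul, one_smul]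

theorem q_conj_self {a e : Ω} (ha : a ∈ E) (he : e ∈ E) : d.q (e * a * e⁻¹) = d.q a := by
  rw [d.mul _ (E.mul_mem he ha) _ (E.inv_mem he), d.mul _ he _ ha, d.q_inv he]
  abel

theorem q_comm {a b : Ω} (ha : a ∈ E) (hb : b ∈ E) : d.q ⁅a, b⁆ = 0 := by
  rw [commutatorElement_def, d.mul _ (E.mul_mem (E.mul_mem ha hb) (E.inv_mem ha)) _ (E.inv_mem hb),
    d.q_conj_self hb ha, d.q_inv hb, add_neg_cancel]

/-- The preimage in `E` of a subgroup of coordinates. -/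
def pre (W : AddSubgroup (V3 p)) : Subgroup Ω where
  carrier := {a | a ∈ E ∧ d.q a ∈ W}
  one_mem' := ⟨E.one_mem, by rw [d.q_one]; exact W.zero_mem⟩
  mul_mem' := fun {a b} ha hb =>
    ⟨E.mul_mem ha.1 hb.1, by rw [d.mul a ha.1 b hb.1]; exact W.add_mem ha.2 hb.2⟩
  inv_mem' := fun {a} ha => ⟨E.inv_mem ha.1, by rw [d.q_inv ha.1]; exact W.neg_mem ha.2⟩

theorem mem_pre {W : AddSubgroup (V3 p)} {a : Ω} : a ∈ d.pre W ↔ a ∈ E ∧ d.q a ∈ W := Iff.rfl

theorem pre_le (W : AddSubgroup (V3 p)) : d.pre W ≤ E := fun _ h => h.1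

/-- The Frattini subgroup of `E`. -/
def D : Subgroup Ω := d.pre ⊥

theorem mem_D {a : Ω} : a ∈ d.D ↔ a ∈ E ∧ d.q a = 0 := Iff.rfl

theorem D_le_pre (W : AddSubgroup (V3 p)) : d.D ≤ d.pre W := fun a h =>
  ⟨h.1, by rw [show d.q a = 0 from h.2]; exact W.zero_mem⟩

theorem pow_mem_D {a : Ω} (ha : a ∈ E) : a ^ p ∈ d.D :=
  ⟨E.pow_mem ha p, by rw [d.q_pow ha, ZMod.natCast_self, zero_smul]; exact AddSubgroup.zero_mem _⟩

theorem comm_mem_D {a b : Ω} (ha : a ∈ E) (hb : b ∈ E) : ⁅a, b⁆ ∈ d.D :=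
  ⟨E.mul_mem (E.mul_mem (E.mul_mem ha hb) (E.inv_mem ha)) (E.inv_mem hb), d.q_comm ha hb⟩

theorem conj_mem {g a : Ω} (hg : g ∈ normalizerIn S E) (ha : a ∈ E) : g * a * g⁻¹ ∈ E :=
  (Subgroup.mem_normalizer_iff.1 hg.2 a).1 ha

theorem xpow_mem (n : ℕ) : d.x ^ n ∈ normalizerIn S E := (normalizerIn S E).pow_mem d.xN n

theorem q_conj_xpow {a : Ω} (ha : a ∈ E) (n : ℕ) :
    d.q (d.x ^ n * a * (d.x ^ n)⁻¹) = (d.X : M3 p) ^ n *ᵥ d.q a := by
  induction n with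
  | zero => simp
  | succ n ih =>
    rw [pow_succ' (d.X : M3 p), ← mulVec_mulVec, ← ih, ← d.conjx _ (conj_mem (d.xpow_mem n) ha),
      pow_succ']
    congr 1
    group

/-- The index of an element of `N_S(E)`. -/
theorem exists_form {g : Ω} (hg : g ∈ normalizerIn S E) :
    ∃ n : ℕ, ∃ e ∈ E, g = d.x ^ n * e := by
  obtain ⟨n, hn⟩ := d.gen g hg
  exact ⟨n, _, hn, (mul_inv_cancel_left _ _).symm⟩

theorem q_conj_form {a e : Ω} (ha : a ∈ E) (he : e ∈ E) (n : ℕ) :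
    d.q (d.x ^ n * e * a * (d.x ^ n * e)⁻¹) = (d.X : M3 p) ^ n *ᵥ d.q a := by
  rw [← d.q_conj_self ha he, ← d.q_conj_xpow (E.mul_mem (E.mul_mem he ha) (E.inv_mem he))]
  congr 1
  group

/-- The coordinates of a commutator of two elements of `N_S(E)`. -/
theorem comm_form {e f : Ω} (he : e ∈ E) (hf : f ∈ E) (i j : ℕ) :
    ⁅d.x ^ i * e, d.x ^ j * f⁆ ∈ E ∧
      d.q ⁅d.x ^ i * e, d.x ^ j * f⁆ =
        (d.X : M3 p) ^ i *ᵥ d.q e + (d.X : M3 p) ^ (i + j) *ᵥ (d.q f - d.q e) -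
          (d.X : M3 p) ^ j *ᵥ d.q f := by
  have e0 : ⁅d.x ^ i * e, d.x ^ j * f⁆ = d.x ^ i * e * (d.x ^ i)⁻¹ *
      (d.x ^ (i + j) * (f * e⁻¹) * (d.x ^ (i + j))⁻¹) * (d.x ^ j * f⁻¹ * (d.x ^ j)⁻¹) := by
    rw [commutatorElement_def]; group
  have h1 := conj_mem (d.xpow_mem i) he
  have h2 := conj_mem (d.xpow_mem (i + j)) (E.mul_mem hf (E.inv_mem he))
  have h3 := conj_mem (d.xpow_mem j) (E.inv_mem hf)
  rw [e0]
  refine ⟨E.mul_mem (E.mul_mem h1 h2) h3, ?_⟩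
  rw [d.mul _ (E.mul_mem h1 h2) _ h3, d.mul _ h1 _ h2, d.q_conj_xpow he,
    d.q_conj_xpow (E.mul_mem hf (E.inv_mem he)), d.q_conj_xpow (E.inv_mem hf), d.q_inv hf,
    d.mul _ hf _ (E.inv_mem he), d.q_inv he, mulVec_neg]
  abel

theorem cube : ((d.X : M3 p) - 1) ^ 3 = 0 :=
  cube_of_pow_eq_one (m := 1) (by rw [pow_one]; exact d.Xp)

/-- `p`-th powers of elements of `N_S(E)`. -/
theorem pow_form (hp5 : 5 ≤ p) {e : Ω} (he : e ∈ E) (j : ℕ) :
    (d.x ^ j * e) ^ p * (d.x ^ (j * p))⁻¹ ∈ d.D := by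
  have h : ∀ n : ℕ, (d.x ^ j * e) ^ n * (d.x ^ (j * n))⁻¹ ∈ E ∧
      d.q ((d.x ^ j * e) ^ n * (d.x ^ (j * n))⁻¹) =
        ((d.X : M3 p) ^ j * ∑ i ∈ Finset.range n, ((d.X : M3 p) ^ j) ^ i) *ᵥ d.q e := by
    intro n
    induction n with
    | zero => simp [d.q_one]
    | succ n ih =>
      have e0 : (d.x ^ j * e) ^ (n + 1) * (d.x ^ (j * (n + 1)))⁻¹ =
          ((d.x ^ j * e) ^ n * (d.x ^ (j * n))⁻¹) *
            (d.x ^ (j * (n + 1)) * e * (d.x ^ (j * (n + 1)))⁻¹) := by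
        rw [pow_succ, mul_add j n 1, mul_one]; group
      have h2 := conj_mem (d.xpow_mem (j * (n + 1))) he
      rw [e0]
      refine ⟨E.mul_mem ih.1 h2, ?_⟩
      rw [d.mul _ ih.1 _ h2, ih.2, d.q_conj_xpow he, ← add_mulVec, Finset.sum_range_succ,
        show (d.X : M3 p) ^ (j * (n + 1)) = (d.X : M3 p) ^ j * ((d.X : M3 p) ^ j) ^ n by
          rw [← pow_mul, ← pow_add]; ring_nf, mul_add]
  refine ⟨(h p).1, ?_⟩
  have hc : (((d.X : M3 p) ^ j) - 1) ^ 3 = 0 := by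
    rw [← Units.val_pow_eq_pow_val]
    exact cube_of_pow_eq_one (m := 1) (by rw [pow_one, ← pow_mul, mul_comm, pow_mul, d.Xp, one_pow])
  rw [(h p).2, sum_pow_eq hc, ZMod.natCast_self, choose_cast_eq_zero (by norm_num) (by omega),
    choose_cast_eq_zero (by norm_num) (by omega)]
  simp

theorem q_xp_fixed : (d.X : M3 p) *ᵥ d.q (d.x ^ p) = d.q (d.x ^ p) := by
  rw [← d.conjx _ d.xp]
  congr 1
  group

theorem dvd_of_xpow_mem {i : ℕ} (h : d.x ^ i ∈ E) : p ∣ i := by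
  by_contra hi
  obtain ⟨a, b, hab⟩ := (Int.isCoprime_iff_gcd_eq_one.2
    (show Int.gcd (i : ℤ) p = 1 by
      rw [Int.gcd_natCast_natCast, Nat.gcd_comm]
      exact (hp.out.coprime_iff_not_dvd.2 hi)) : IsCoprime (i : ℤ) p)
  refine d.xE ?_
  rw [← zpow_one d.x, ← hab, _root_.zpow_add, mul_comm a, mul_comm b, _root_.zpow_mul,
    _root_.zpow_mul, zpow_natCast,
    zpow_natCast]
  exact E.mul_mem (E.zpow_mem h a) (E.zpow_mem d.xp b)

/-- The coordinate homomorphism on `E`. -/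
def qE : E →* Multiplicative (V3 p) :=
  MonoidHom.mk' (fun a => Multiplicative.ofAdd (d.q a)) fun a b =>
    congrArg Multiplicative.ofAdd (d.mul a a.2 b b.2)

theorem qE_surjective : Function.Surjective d.qE := fun w => by
  obtain ⟨a, ha, e⟩ := d.surj w.toAdd
  exact ⟨⟨a, ha⟩, congrArg Multiplicative.ofAdd e⟩

theorem qE_ker : d.qE.ker = frattini E := by
  ext a
  rw [MonoidHom.mem_ker]
  exact ofAdd_eq_one.trans (d.ker a a.2)

theorem D_eq : d.D = (frattini E).map E.subtype := by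
  ext a
  constructor
  · intro h
    exact ⟨⟨a, h.1⟩, (d.ker a h.1).1 h.2, rfl⟩
  · rintro ⟨⟨b, hb⟩, h, rfl⟩
    exact ⟨hb, (d.ker b hb).2 h⟩

variable [Finite S]

/-- The extension to `N_S(E)` of an automorphism normalizing the Sylow subgroup. -/
theorem exists_ext (hS : IsPGroup p S) (hF : F.IsSaturated p) (hE : F.IsEssential p E) {M : GL3 p}
    (hM : M ∈ d.G) {k : ℕ} (hMX : M * d.X = d.X ^ k * M) :
    ∃ ψ ∈ F.autGroup (normalizerIn S E),
      (∀ a : normalizerIn S E, (a : Ω) ∈ E →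
        (ψ a : Ω) ∈ E ∧ d.q (ψ a : Ω) = (M : M3 p) *ᵥ d.q a) ∧
      (d.x ^ k)⁻¹ * (ψ ⟨d.x, d.xN⟩ : Ω) ∈ E := by
  classical
  haveI := finite_of_le (normalizerIn_le S E)
  let N := normalizerIn S E
  obtain ⟨-, hrec⟩ := automized_receptive hS hF hE.2.1
  obtain ⟨α, hα, -, hαq⟩ := d.act M hM
  obtain ⟨φ, hφ, hφα⟩ := FusionSub.exists_extension_normalizerIn (p := p) hrec hα
    (d.norm α hα M k hαq hMX)
  have hEN : E ≤ N := le_normalizerIn d.le
  have hsmul : ∀ y : N, φ y ∈ N := by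
    intro y
    refine ⟨apply_mem hφ y, Subgroup.mem_normalizer_iff.2 fun z => ?_⟩
    have himg : ∀ z, z ∈ E → φ y * z * (φ y)⁻¹ ∈ E := by
      intro z hz
      obtain ⟨w, hw⟩ := α.surjective ⟨z, hz⟩
      have hz' : φ ⟨w, hEN w.2⟩ = z := by rw [hφα w (hEN w.2), hw]
      have hc : (y : Ω) * w * (y : Ω)⁻¹ ∈ E := conj_mem y.2 w.2
      have h1 : φ ⟨(y : Ω) * w * (y : Ω)⁻¹, hEN hc⟩ ∈ E := by
        rw [hφα ⟨_, hc⟩ (hEN hc)]; exact (α _).2
      rw [← hz', ← map_inv, ← map_mul, ← map_mul]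
      exact h1
    refine ⟨himg z, fun hz => ?_⟩
    haveI := finite_of_le d.le
    let f : E → E := fun w => ⟨φ y * w * (φ y)⁻¹, himg w w.2⟩
    have hf : Function.Injective f := fun a b h => by
      have h1 := congrArg Subtype.val h
      simp only [f, mul_left_inj, mul_right_inj] at h1
      exact Subtype.ext h1
    obtain ⟨w, hw⟩ := Finite.surjective_of_injective hf ⟨_, hz⟩
    have h1 := congrArg Subtype.val hw
    simp only [f, mul_left_inj, mul_right_inj] at h1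
    exact h1 ▸ w.2
  have hr : φ.range = N := Subgroup.eq_of_le_of_card_ge (by rintro _ ⟨y, rfl⟩; exact hsmul y)
    (Nat.card_congr (MonoidHom.ofInjective (F.injective_of_mem hφ)).toEquiv).le
  obtain ⟨ψ, hψ, hψv⟩ := exists_iso hφ hr
  refine ⟨ψ, hψ.mem_autGroup, ?_, ?_⟩
  · intro a ha
    have h1 : (ψ a : Ω) = α ⟨a, ha⟩ := (hψv a).trans (hφα ⟨a, ha⟩ a.2)
    rw [h1]
    exact ⟨(α _).2, hαq ⟨a, ha⟩⟩
  · obtain ⟨n, f, hf, hnf⟩ := d.exists_form (ψ ⟨d.x, d.xN⟩).2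
    have heq : ∀ w : V3 p,
        ((M * d.X : GL3 p) : M3 p) *ᵥ w = ((d.X ^ n * M : GL3 p) : M3 p) *ᵥ w := by
      intro w
      obtain ⟨a, ha, rfl⟩ := d.surj w
      have hc : d.x * a * d.x⁻¹ ∈ E := conj_mem d.xN ha
      have h1 : (ψ ⟨d.x * a * d.x⁻¹, hEN hc⟩ : Ω) =
          (ψ ⟨d.x, d.xN⟩ : Ω) * (α ⟨a, ha⟩ : Ω) * (ψ ⟨d.x, d.xN⟩ : Ω)⁻¹ := by
        rw [show (⟨d.x * a * d.x⁻¹, hEN hc⟩ : N) =
          ⟨d.x, d.xN⟩ * ⟨a, hEN ha⟩ * ⟨d.x, d.xN⟩⁻¹ from rfl, map_mul, map_mul, map_inv]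
        simp only [Subgroup.coe_mul, Subgroup.coe_inv, hψv ⟨a, hEN ha⟩, hφα ⟨a, ha⟩ (hEN ha)]
      rw [hψv, hφα ⟨_, hc⟩ (hEN hc), hnf] at h1
      have h2 := congrArg d.q h1
      rw [hαq ⟨_, hc⟩, d.conjx a ha, d.q_conj_form (α ⟨a, ha⟩).2 hf, hαq ⟨a, ha⟩,
        mulVec_mulVec, mulVec_mulVec] at h2
      rw [Units.val_mul, Units.val_mul, Units.val_pow_eq_pow_val]
      exact h2
    have hpow : d.X ^ k = d.X ^ n := mul_right_cancel (hMX.symm.trans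
      (Units.ext (Matrix.ext_of_mulVec_single fun i => heq _)))
    have hX1 : d.X ≠ 1 := d.X1
    rw [hnf]
    obtain ⟨c, hc⟩ : (p : ℤ) ∣ (n : ℤ) - k := by
      rw [← ZMod.intCast_eq_intCast_iff_dvd_sub, Int.cast_natCast, Int.cast_natCast,
        ZMod.natCast_eq_natCast_iff, ← orderOf_eq_prime d.Xp hX1]
      exact pow_eq_pow_iff_modEq.1 hpow
    have e1 : (d.x ^ k)⁻¹ * (d.x ^ n * f) = (d.x ^ p) ^ c * f := by
      rw [← mul_assoc, ← zpow_natCast d.x k, ← zpow_natCast d.x n, ← _root_.zpow_neg, ← _root_.zpow_add,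
        ← zpow_natCast d.x p, ← _root_.zpow_mul, ← hc, neg_add_eq_sub]
    rw [e1]
    exact E.mul_mem (E.zpow_mem d.xp c) hf

end Frame

end CfsgLib.FusionRankThree
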