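import Cfsg.Agent.FusionRankThree.CaseRBase

/-!
# The regular case: contradiction
-/

set_option autoImplicit false
set_option linter.style.haveILetI false

namespace CfsgLib.FusionRankThree

open Cfsg Cfsg.FusionSystem CfsgLib.Fusion Matrix
open scoped commutatorElement

variable {p : ℕ} [hp : Fact p.Prime] {Ω : Type*} [Group Ω] {S : Subgroup Ω}
  {F : FusionSystem S} {E : Subgroup Ω} {d : Frame F p E} [Finite S]

namespace Frame

/-- The crucial relation between `[v, c]` and `v ^ p` when `x ^ p ∉ Φ(E)`. -/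
theorem Regular.exists_relation (hp5 : 5 ≤ p) (hS : IsPGroup p S)
    (hr : SectionalPRankLE p 3 S) (h : d.Regular) {v c z : Ω} (hv : v ∈ E) (hc : c ∈ E)
    (hz : z ∈ E) (hcd : c = ⁅d.x, v⁆) (hzd : z = ⁅d.x, c⁆) (hqv : d.q v = ![1, 0, 0])
    (hqc : d.q c = ![0, 1, 0]) (hqz : d.q z = ![0, 0, 1]) {a : ZMod p} (ha : a ≠ 0)
    (hxp : d.q (d.x ^ p) = ![0, 0, a]) :
    ⁅v, c⁆ * (v ^ p) ^ (a⁻¹).val ∈
      ⁅powSub p (normalizerIn S E), normalizerIn S E⁆ ⊔
        powSub p (powSub p (normalizerIn S E)) := by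
  classical
  haveI := finite_of_le d.le
  set N := normalizerIn S E
  have hEN : E ≤ N := le_normalizerIn d.le
  set M := powSub p N with hM
  set M₁ := ⁅M, N⁆ ⊔ powSub p M with hM₁
  have hDpow := h.D_eq_powSub hS hr
  have hDM : d.D ≤ M := hDpow.trans_le (powSub_mono hEN)
  have hxpM : d.x ^ p ∈ M := pow_mem_powSub d.xN
  have hzM : z ∈ M := by
    have hb : ((d.x ^ p) ^ a⁻¹.val)⁻¹ * z ∈ d.D := by
      refine ⟨E.mul_mem (E.inv_mem (E.pow_mem d.xp _)) hz, ?_⟩
      rw [d.mul _ (E.inv_mem (E.pow_mem d.xp _)) _ hz, d.q_inv (E.pow_mem d.xp _), d.q_pow d.xp,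
        hxp, hqz]
      show _ = (0 : V3 p)
      funext i
      fin_cases i <;> simp [inv_mul_cancel₀ ha]
    have h1 := M.mul_mem (M.pow_mem hxpM a⁻¹.val) (hDM hb)
    rwa [mul_inv_cancel_left] at h1
  set D₁ := powSub p d.D ⊔ ⁅d.D, E⁆ with hD₁
  have hD₁M₁ : D₁ ≤ M₁ :=
    sup_le ((powSub_mono hDM).trans le_sup_right)
      ((Subgroup.commutator_mono hDM hEN).trans le_sup_left)
  have hD₁D : D₁ ≤ d.D := sup_le powSub_le (Subgroup.commutator_le.2 fun t ht y hy =>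
    d.comm_mem_D ht.1 hy)
  haveI hn : (D₁.subgroupOf E).Normal := ⟨fun n hn g => by
    rw [Subgroup.mem_subgroupOf] at hn ⊢
    have h1 : ⁅(n : Ω), (g : Ω)⁆ ∈ D₁ :=
      Subgroup.mem_sup_right (Subgroup.commutator_mem_commutator (hD₁D hn) g.2)
    have h2 := D₁.mul_mem (D₁.inv_mem h1) hn
    rw [commutatorElement_inv, commutatorElement_def, inv_mul_cancel_right] at h2
    exact h2⟩
  let π := QuotientGroup.mk' (D₁.subgroupOf E)
  have hπ : ∀ t : E, π t = 1 ↔ (t : Ω) ∈ D₁ := fun t =>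
    (QuotientGroup.eq_one_iff t).trans Subgroup.mem_subgroupOf
  have hcen : ∀ t : E, (t : Ω) ∈ d.D → ∀ y : E, Commute (π t) (π y) := fun t ht y => by
    refine commutatorElement_eq_one_iff_commute.1 ?_
    rw [← map_commutatorElement, hπ]
    exact Subgroup.mem_sup_right (Subgroup.commutator_mem_commutator ht y.2)
  have hexp : ∀ t : E, (t : Ω) ∈ d.D → π t ^ p = 1 := fun t ht => by
    rw [← map_pow, hπ]
    exact Subgroup.mem_sup_left (Subgroup.subset_closure ⟨_, ht, rfl⟩)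
  have hcomm : ∀ s t : E, ((⁅s, t⁆ : E) : Ω) ∈ d.D := fun s t => d.comm_mem_D s.2 t.2
  have hppow : ∀ s t : E, π (s * t) ^ p = π s ^ p * π t ^ p := by
    intro s t
    set w := (π t)⁻¹ * (π s)⁻¹ * π t * π s with hw
    have hwe : w = π ⁅t⁻¹, s⁻¹⁆ := by
      rw [hw, map_commutatorElement, commutatorElement_def, map_inv, map_inv, inv_inv, inv_inv]
    have h1 : π t * π s = π s * π t * w := by rw [hw]; group
    rw [map_mul, FusionRankTwo.mul_pow_comm h1 (hwe ▸ hcen _ (hcomm _ _) s)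
      (hwe ▸ hcen _ (hcomm _ _) t)]
    obtain ⟨e, he⟩ := hp.out.dvd_choose_self (k := 2) (by norm_num) (by omega)
    rw [he, pow_mul, hwe, hexp _ (hcomm _ _), one_pow, mul_one]
  let P : E →* E ⧸ D₁.subgroupOf E := MonoidHom.mk' (fun s => π s ^ p) fun s t => by
    show π (s * t) ^ p = _
    exact hppow s t
  have hPD : ∀ s t : E, d.q (s : Ω) = d.q (t : Ω) → P s = P t := fun s t hst => by
    conv_lhs => rw [← mul_inv_cancel_left t s]
    rw [map_mul, mul_eq_left]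
    refine hexp _ ⟨(t⁻¹ * s : E).2, ?_⟩
    rw [Subgroup.coe_mul, Subgroup.coe_inv, d.mul _ (E.inv_mem t.2) _ s.2, d.q_inv t.2, hst,
      neg_add_cancel]
    exact AddSubgroup.zero_mem _
  choose lift hlift using fun w => (d.surj w)
  let L : V3 p → E ⧸ D₁.subgroupOf E := fun w => P ⟨lift w, (hlift w).1⟩
  have hLq : ∀ s : E, L (d.q (s : Ω)) = P s := fun s => hPD _ _ (hlift _).2
  have hLadd : ∀ u w, L (u + w) = L u * L w := fun u w => by
    rw [← (hlift u).2, ← (hlift w).2, ← d.mul _ (hlift u).1 _ (hlift w).1]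
    exact (hLq (⟨lift u, (hlift u).1⟩ * ⟨lift w, (hlift w).1⟩)).trans
      ((map_mul P _ _).trans (congrArg₂ (· * ·) (hLq _).symm (hLq _).symm))
  have hL0 : L 0 = 1 := by
    have := hLadd 0 0
    rwa [add_zero, left_eq_mul] at this
  let LH : Multiplicative (V3 p) →* E ⧸ D₁.subgroupOf E :=
    MonoidHom.mk' (fun w => L w.toAdd) fun u w => hLadd _ _
  have hrange : ∀ t : E, (t : Ω) ∈ d.D → ∃ w, π t = L w := by
    intro t ht
    rw [hDpow] at ht
    have hle : powSub p E ≤ ((P.range).comap π).map E.subtype := by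
      refine (Subgroup.closure_le _).2 ?_
      rintro _ ⟨s, hs, rfl⟩
      exact ⟨⟨s, hs⟩ ^ p, ⟨⟨s, hs⟩, (map_pow π _ p).symm⟩, rfl⟩
    obtain ⟨t', ⟨s, hs⟩, htt⟩ := hle ht
    obtain rfl : t' = t := Subtype.ext htt
    exact ⟨d.q (s : Ω), hs ▸ (hLq s).symm⟩
  have hπvp : π ⟨v ^ p, E.pow_mem hv p⟩ = L ![1, 0, 0] := by
    rw [show (⟨v ^ p, E.pow_mem hv p⟩ : E) = ⟨v, hv⟩ ^ p from rfl, map_pow, ← hqv]
    exact (hLq ⟨v, hv⟩).symm
  set n := (a⁻¹).val with hn'
  have hnc : (n : ZMod p) = a⁻¹ := ZMod.natCast_zmod_val _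
  let m : E := ⁅(⟨v, hv⟩ : E), ⟨c, hc⟩⁆ * (⟨v ^ p, E.pow_mem hv p⟩ : E) ^ n
  show (m : Ω) ∈ M₁
  have hmD : (m : Ω) ∈ d.D := d.D.mul_mem (hcomm _ _) (d.D.pow_mem (d.pow_mem_D hv) n)
  -- reduction to the first coordinate
  suffices hcoord : ∃ w : V3 p, w 0 = 0 ∧ π m = L w by
    obtain ⟨w, hw0, hw⟩ := hcoord
    let C : E := ⟨c, hc⟩
    let Z : E := ⟨z, hz⟩
    have hcp : c ^ p ∈ M₁ := by
      have h1 : ⁅v ^ p, d.x⁆ ∈ M₁ := Subgroup.mem_sup_left
        (Subgroup.commutator_mem_commutator (hDM (d.pow_mem_D hv)) d.xN)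
      have hxv : ⁅d.x, v ^ p⁆ ∈ E :=
        E.mul_mem (conj_mem d.xN (E.pow_mem hv p)) (E.inv_mem (E.pow_mem hv p))
      have h2 : π ⟨_, hxv⟩ = π (C ^ p) := by
        let V' : E := ⟨d.x * v * d.x⁻¹, conj_mem d.xN hv⟩
        rw [show (⟨_, hxv⟩ : E) = V' ^ p * (⟨v, hv⟩ ^ p)⁻¹ from Subtype.ext (by
          simp only [Subgroup.coe_mul, Subgroup.coe_inv, SubmonoidClass.coe_pow, V']
          rw [commutatorElement_def, conj_pow]), map_mul, map_inv, map_pow, map_pow, map_pow,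
          mul_inv_eq_iff_eq_mul]
        show P V' = P C * P ⟨v, hv⟩
        rw [← map_mul]
        refine hPD _ _ ?_
        show d.q (d.x * v * d.x⁻¹) = d.q (c * v)
        rw [d.conjx v hv, d.mul c hc v hv, h.mulVec_one, hqv, hqc]
        funext i
        fin_cases i <;> simp
      have h3 : (⟨_, hxv⟩ : E)⁻¹ * C ^ p ∈ D₁.subgroupOf E :=
        (QuotientGroup.eq (s := D₁.subgroupOf E)).1 h2
      have h3' : ⁅d.x, v ^ p⁆⁻¹ * c ^ p ∈ M₁ := hD₁M₁ (Subgroup.mem_subgroupOf.1 h3)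
      have h4 := M₁.mul_mem (M₁.inv_mem h1) h3'
      rwa [commutatorElement_inv, mul_inv_cancel_left] at h4
    have hzp : z ^ p ∈ M₁ := Subgroup.mem_sup_right (pow_mem_powSub hzM)
    have hm' : π m = π ((C ^ p) ^ (w 1).val * (Z ^ p) ^ (w 2).val) := by
      rw [hw, map_mul, map_pow, map_pow, map_pow, map_pow]
      show _ = P C ^ (w 1).val * P Z ^ (w 2).val
      rw [← map_pow, ← map_pow, ← map_mul, ← hLq]
      congr 1
      show _ = d.q (c ^ (w 1).val * z ^ (w 2).val)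
      rw [d.mul _ (E.pow_mem hc _) _ (E.pow_mem hz _), d.q_pow hc, d.q_pow hz, hqc, hqz]
      funext i
      fin_cases i <;> simp [hw0]
    have h3 := Subgroup.mem_subgroupOf.1 ((QuotientGroup.eq (s := D₁.subgroupOf E)).1 hm'.symm)
    have h3' : ((c ^ p) ^ (w 1).val * (z ^ p) ^ (w 2).val)⁻¹ * (m : Ω) ∈ M₁ := hD₁M₁ h3
    have h4 := M₁.mul_mem (M₁.mul_mem (M₁.pow_mem hcp (w 1).val) (M₁.pow_mem hzp (w 2).val)) h3'
    rwa [mul_inv_cancel_left] at h4
  by_cases hinj : Function.Injective L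
  swap
  · -- the `p`-th power map is trivial
    let W : AddSubgroup (V3 p) :=
      { carrier := {w | L w = 1}
        zero_mem' := hL0
        add_mem' := fun {u w} hu hw => by
          show L (u + w) = 1
          rw [hLadd, hu, hw, one_mul]
        neg_mem' := fun {u} hu => by
          have h1 := hLadd (-u) u
          rw [neg_add_cancel, hL0, show L u = 1 from hu, mul_one] at h1
          exact h1.symm }
    have hne : W.toZModSubmodule p ≠ ⊥ := by
      intro hb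
      refine hinj fun u w huw => sub_eq_zero.1 ((Submodule.mem_bot (ZMod p)).1 (hb ▸ ?_))
      show L (u - w) = 1
      have h1 := hLadd (u - w) w
      rw [sub_add_cancel, huw, right_eq_mul] at h1
      exact h1
    have htop := h.2 _ hne (by
      intro M' hM' w hw
      obtain ⟨α, -, -, hα⟩ := d.act M' hM'
      have hD₁α : ∀ t : E, (t : Ω) ∈ D₁ → (α t : Ω) ∈ D₁ := by
        have hDα : ∀ t : E, (t : Ω) ∈ d.D → (α t : Ω) ∈ d.D := fun t ht =>
          ⟨(α t).2, by rw [hα t, show d.q (t : Ω) = 0 from ht.2, mulVec_zero]; exact rfl⟩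
        have hle : D₁ ≤ ((D₁.subgroupOf E).comap α.toMonoidHom).map E.subtype := by
          refine sup_le ((Subgroup.closure_le _).2 ?_) (Subgroup.commutator_le.2 ?_)
          · rintro _ ⟨t, ht, rfl⟩
            refine ⟨(⟨t, ht.1⟩ : E) ^ p, ?_, rfl⟩
            show ((α (⟨t, ht.1⟩ ^ p) : E) : Ω) ∈ D₁
            rw [map_pow]
            exact Subgroup.mem_sup_left (Subgroup.subset_closure ⟨_, hDα _ ht, rfl⟩)
          · intro t ht y hy
            refine ⟨⁅(⟨t, ht.1⟩ : E), ⟨y, hy⟩⁆, ?_, rfl⟩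
            show ((α ⁅(⟨t, ht.1⟩ : E), ⟨y, hy⟩⁆ : E) : Ω) ∈ D₁
            rw [map_commutatorElement]
            exact Subgroup.mem_sup_right
              (Subgroup.commutator_mem_commutator (hDα _ ht) (α _).2)
        intro t ht
        obtain ⟨t', ht', htt⟩ := hle ht
        obtain rfl : t' = t := Subtype.ext htt
        exact ht'
      show L _ = 1
      obtain ⟨hlw, hlq⟩ := hlift w
      rw [← hlq, ← hα ⟨lift w, hlw⟩, hLq]
      have h1 : P ⟨lift w, hlw⟩ = 1 := hw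
      show π (α ⟨lift w, hlw⟩) ^ p = 1
      rw [← map_pow, ← map_pow, hπ]
      refine hD₁α _ ((hπ _).1 ?_)
      rw [map_pow]
      exact h1)
    obtain ⟨w, hw⟩ := hrange m hmD
    refine ⟨0, rfl, ?_⟩
    rw [hw, hL0]
    exact (htop ▸ Submodule.mem_top : w ∈ W.toZModSubmodule p)
  -- the pairing of `D / D₁`
  let β : E → E → E ⧸ D₁.subgroupOf E := fun s t => π ⁅s, t⁆
  have hβe : ∀ s t, β s t = ⁅π s, π t⁆ := fun s t => map_commutatorElement π s t
  have hβc : ∀ s t y, Commute (β s t) (π y) := fun s t y => hcen _ (hcomm s t) y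
  have hmul : ∀ s t y, β (s * t) y = β s y * β t y := fun s t y => by
    rw [hβe, hβe, map_mul, show ⁅π s * π t, π y⁆ = π s * ⁅π t, π y⁆ * (π s)⁻¹ * ⁅π s, π y⁆ by
      rw [commutatorElement_def, commutatorElement_def, commutatorElement_def]; group,
      ← hβe t y, ← (hβc t y s).eq, mul_inv_cancel_right]
    have h1 := (hβc t y ⁅s, y⁆).eq
    rwa [map_commutatorElement] at h1
  have hswap : ∀ s t, β s t = (β t s)⁻¹ := fun s t => by
    show π _ = (π _)⁻¹
    rw [← map_inv, commutatorElement_inv]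
  have hmulr : ∀ s t y, β s (t * y) = β s t * β s y := fun s t y => by
    rw [hswap, hmul, _root_.mul_inv_rev, ← hswap, ← hswap]
    exact (hcen _ (hcomm s y) ⁅s, t⁆).eq
  have hself : ∀ s, β s s = 1 := fun s => by
    show π _ = 1
    rw [commutatorElement_self, map_one]
  have hpow : ∀ (s t : E) (k : ℕ), β (s ^ k) t = β s t ^ k := fun s t k => by
    induction k with
    | zero => show π _ = _; rw [pow_zero, pow_zero, commutatorElement_one_left, map_one]
    | succ k ih => rw [pow_succ, hmul, ih, pow_succ]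
  have hDkill : ∀ t y : E, d.q (t : Ω) = 0 → β t y = 1 := fun t y ht =>
    (hπ _).2 (Subgroup.mem_sup_right (Subgroup.commutator_mem_commutator ⟨t.2, ht⟩ y.2))
  have hcongr : ∀ s s' y : E, d.q (s : Ω) = d.q (s' : Ω) → β s y = β s' y := fun s s' y hs => by
    conv_lhs => rw [← mul_inv_cancel_left s' s]
    rw [hmul, hDkill (s'⁻¹ * s) y ?_, mul_one]
    rw [Subgroup.coe_mul, Subgroup.coe_inv, d.mul _ (E.inv_mem s'.2) _ s.2, d.q_inv s'.2, hs,
      neg_add_cancel]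
  have hcongr₂ : ∀ s s' t t' : E, d.q (s : Ω) = d.q (s' : Ω) → d.q (t : Ω) = d.q (t' : Ω) →
      β s t = β s' t' := fun s s' t t' hs ht => by
    rw [hcongr s s' t hs, hswap, hcongr t t' s' ht, ← hswap]
  -- conjugation by `x`
  let σ : MulAut E := E.normalizerMonoidHom ⟨d.x, d.xN.2⟩
  have hσq : ∀ s : E, d.q (σ s : Ω) = (d.X : M3 p) *ᵥ d.q (s : Ω) := fun s => d.conjx s s.2
  have hσD₁ : ∀ t : E, (t : Ω) ∈ D₁ → (σ t : Ω) ∈ D₁ := by
    have hDσ : ∀ t ∈ d.D, d.x * t * d.x⁻¹ ∈ d.D := fun t ht =>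
      ⟨conj_mem d.xN ht.1, by rw [d.conjx t ht.1, show d.q t = 0 from ht.2, mulVec_zero]; rfl⟩
    have hle : D₁ ≤ D₁.comap (MulAut.conj d.x).toMonoidHom := by
      refine sup_le ((Subgroup.closure_le _).2 ?_) (Subgroup.commutator_le.2 ?_)
      · rintro _ ⟨t, ht, rfl⟩
        show d.x * t ^ p * d.x⁻¹ ∈ D₁
        rw [← conj_pow]
        exact Subgroup.mem_sup_left (Subgroup.subset_closure ⟨_, hDσ t ht, rfl⟩)
      · intro t ht y hy
        show d.x * ⁅t, y⁆ * d.x⁻¹ ∈ D₁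
        rw [show d.x * ⁅t, y⁆ * d.x⁻¹ = ⁅d.x * t * d.x⁻¹, d.x * y * d.x⁻¹⁆ by
          rw [commutatorElement_def, commutatorElement_def]; group]
        exact Subgroup.mem_sup_right
          (Subgroup.commutator_mem_commutator (hDσ t ht) (conj_mem d.xN hy))
    exact fun t ht => hle ht
  have hσπ : ∀ (t : E) (w : V3 p), π t = L w → π (σ t) = L ((d.X : M3 p) *ᵥ w) := by
    intro t w htw
    have h1 : (((⟨lift w, (hlift w).1⟩ : E) ^ p)⁻¹ * t : E) ∈ D₁.subgroupOf E :=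
      (QuotientGroup.eq (s := D₁.subgroupOf E)).1 ((map_pow π _ p).trans htw.symm)
    have h2 : π (σ (((⟨lift w, (hlift w).1⟩ : E) ^ p)⁻¹ * t)) = 1 :=
      (hπ _).2 (hσD₁ _ (Subgroup.mem_subgroupOf.1 h1))
    rw [map_mul, map_mul, map_inv, map_inv, map_pow, inv_mul_eq_one, map_pow] at h2
    rw [← h2]
    have h3 : d.q (σ ⟨lift w, (hlift w).1⟩ : Ω) = (d.X : M3 p) *ᵥ w :=
      (hσq ⟨lift w, (hlift w).1⟩).trans (congrArg _ (hlift w).2)
    rw [← h3]
    exact (hLq _).symm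
  let V : E := ⟨v, hv⟩
  let C : E := ⟨c, hc⟩
  let Z : E := ⟨z, hz⟩
  have hXv : d.q (σ V : Ω) = d.q ((V * C : E) : Ω) := by
    rw [hσq, h.mulVec_one]
    show _ = d.q (v * c)
    rw [d.mul v hv c hc]
    funext i; fin_cases i <;> simp [V, hqv, hqc]
  have hXc : d.q (σ C : Ω) = d.q ((C * Z : E) : Ω) := by
    rw [hσq, h.mulVec_one]
    show _ = d.q (c * z)
    rw [d.mul c hc z hz]
    funext i; fin_cases i <;> simp [C, hqc, hqz]
  have hXz : d.q (σ Z : Ω) = d.q (Z : Ω) := by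
    rw [hσq, h.mulVec_one]; funext i; fin_cases i <;> simp [Z, hqz]
  obtain ⟨w01, h01⟩ := hrange _ (hcomm V C)
  obtain ⟨w02, h02⟩ := hrange _ (hcomm V Z)
  obtain ⟨w12, h12⟩ := hrange _ (hcomm C Z)
  have e02 : (d.X : M3 p) *ᵥ w02 = w02 + w12 := hinj (by
    rw [← hσπ _ _ h02, map_commutatorElement, hLadd, ← h02, ← h12]
    exact (hcongr₂ _ _ _ _ hXv hXz).trans (hmul V C Z))
  have e01 : (d.X : M3 p) *ᵥ w01 = w01 + w02 + w12 := hinj (by
    rw [← hσπ _ _ h01, map_commutatorElement, hLadd, hLadd, ← h01, ← h02, ← h12]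
    refine (hcongr₂ _ _ _ _ hXv hXc).trans ?_
    rw [hmul, hmulr, hmulr, hself, one_mul])
  -- conjugation by `x ^ p`
  obtain ⟨w, hw⟩ := hrange (σ Z * Z⁻¹) ⟨(σ Z * Z⁻¹).2, by
    rw [Subgroup.coe_mul, Subgroup.coe_inv, d.mul _ (σ Z).2 _ (E.inv_mem hz), hXz, d.q_inv hz,
      add_neg_cancel]; exact AddSubgroup.zero_mem _⟩
  have hq' : ∀ k : ℕ, π (σ (Z ^ k)) * (π (Z ^ k))⁻¹ = L ((k : ZMod p) • w) := by
    intro k
    have hd : ∀ y, Commute (π (σ Z * Z⁻¹)) (π y) := fun y => hcen _ ⟨(σ Z * Z⁻¹).2, by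
      rw [Subgroup.coe_mul, Subgroup.coe_inv, d.mul _ (σ Z).2 _ (E.inv_mem hz), hXz, d.q_inv hz,
        add_neg_cancel]; exact AddSubgroup.zero_mem _⟩ y
    rw [map_pow, map_pow, map_pow, show π (σ Z) = π (σ Z * Z⁻¹) * π Z by
      rw [← map_mul, inv_mul_cancel_right], (hd Z).mul_pow, mul_inv_cancel_right, hw,
      Nat.cast_smul_eq_nsmul]
    exact (map_pow LH (Multiplicative.ofAdd w) k).symm
  set K : M3 p := (d.X : M3 p) - 1
  let δ : ℕ → E := fun k => ⟨d.x ^ k * c * (d.x ^ k)⁻¹ * c⁻¹,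
    E.mul_mem (conj_mem (d.xpow_mem k) hc) (E.inv_mem hc)⟩
  have hδ : ∀ k : ℕ, π (δ k * (Z ^ k)⁻¹) = L ((k.choose 2 : ZMod p) • w +
      (k.choose 3 : ZMod p) • (K *ᵥ w) + (k.choose 4 : ZMod p) • (K *ᵥ (K *ᵥ w))) := by
    intro k
    induction k with
    | zero =>
      rw [show (δ 0 : E) = 1 from Subtype.ext (by simp [δ])]
      simp [hL0]
    | succ k ih =>
      have e0 : δ (k + 1) * (Z ^ (k + 1))⁻¹ =
          σ (δ k * (Z ^ k)⁻¹) * (σ (Z ^ k) * (Z ^ k)⁻¹) := by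
        have e1 : δ (k + 1) = σ (δ k) * Z := Subtype.ext (by
          show d.x ^ (k + 1) * c * (d.x ^ (k + 1))⁻¹ * c⁻¹ =
            d.x * (d.x ^ k * c * (d.x ^ k)⁻¹ * c⁻¹) * d.x⁻¹ * z
          rw [pow_succ', hzd, commutatorElement_def]; group)
        rw [e1, map_mul, map_inv, pow_succ', _root_.mul_inv_rev]
        simp [mul_assoc]
        rw [← mul_assoc Z, (Commute.self_pow Z k).inv_right.eq, mul_assoc, mul_inv_cancel, mul_one]
      rw [e0, map_mul, hσπ _ _ ih, map_mul π (σ (Z ^ k)), map_inv π (Z ^ k), hq', ← hLadd]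
      refine congrArg L ?_
      have hK3 : K *ᵥ (K *ᵥ (K *ᵥ w)) = 0 := by
        rw [mulVec_mulVec, mulVec_mulVec, ← pow_two, ← pow_succ, d.cube, zero_mulVec]
      rw [show (d.X : M3 p) = K + 1 from (sub_add_cancel _ _).symm, add_mulVec, one_mulVec,
        mulVec_add, mulVec_add, mulVec_smul, mulVec_smul, mulVec_smul, hK3, smul_zero,
        Nat.choose_succ_succ' k 1, Nat.choose_succ_succ' k 2, Nat.choose_succ_succ' k 3,
        Nat.choose_one_right]
      simp only [Nat.cast_add, add_smul]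
      abel
  have hβxp : β ⟨d.x ^ p, d.xp⟩ C = L ![0, 0, 1] := by
    have h1 := hδ p
    rw [choose_cast_eq_zero (by norm_num) (by omega), choose_cast_eq_zero (by norm_num) (by omega),
      choose_cast_eq_zero (by norm_num) (by omega), zero_smul, zero_smul, zero_smul, add_zero,
      add_zero, hL0, map_mul, map_inv, mul_inv_eq_one] at h1
    show π ⁅(⟨d.x ^ p, d.xp⟩ : E), C⁆ = _
    rw [show ⁅(⟨d.x ^ p, d.xp⟩ : E), C⁆ = δ p from Subtype.ext rfl, h1, map_pow, ← hqz]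
    exact (hLq Z).symm
  have e12 : a • w12 = -![0, 0, 1] := hinj (by
    have h1 : β ⟨d.x ^ p, d.xp⟩ C = β Z C ^ a.val := by
      rw [← hpow]
      refine hcongr _ _ _ ?_
      show d.q (d.x ^ p) = d.q (z ^ a.val)
      rw [hxp, d.q_pow hz, hqz, ZMod.natCast_zmod_val]
      funext i; fin_cases i <;> simp
    rw [h1, hswap, inv_pow] at hβxp
    have h2 : L (-![0, 0, 1]) = (L ![0, 0, 1])⁻¹ := map_inv LH (Multiplicative.ofAdd _)
    rw [h2, ← hβxp, inv_inv]
    show L (a • w12) = π ⁅C, Z⁆ ^ a.val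
    rw [h12, ← ZMod.natCast_zmod_val a, Nat.cast_smul_eq_nsmul, ZMod.natCast_zmod_val]
    exact map_pow LH (Multiplicative.ofAdd w12) a.val)
  refine ⟨w01 + a⁻¹ • ![1, 0, 0], ?_, ?_⟩
  · rw [h.mulVec_one] at e02 e01
    have x12 := congrFun e12 2
    have y12 := congrFun e12 1
    have z12 := congrFun e12 0
    have a1 := congrFun e02 1
    have a2 := congrFun e02 2
    have b1 := congrFun e01 1
    simp at x12 y12 z12 a1 a2 b1
    simp only [Pi.add_apply, Pi.smul_apply, smul_eq_mul]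
    simp
    have z12' : w12 0 = 0 := z12.resolve_left ha
    have y12' : w12 1 = 0 := y12.resolve_left ha
    field_simp
    linear_combination a * b1 + a * a2 + x12 + a * y12'
  · rw [map_mul, map_pow, h01, hπvp, hLadd, ← hnc, Nat.cast_smul_eq_nsmul]
    exact congrArg _ (map_pow LH (Multiplicative.ofAdd _) n).symm

end Frame

end CfsgLib.FusionRankThree
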