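import Cfsg.Agent.FusionRankThree.Pairing

/-!
# The regular case: characteristic subgroups of `N_S(E)`
-/

set_option autoImplicit false
set_option linter.style.haveILetI false

namespace CfsgLib.FusionRankThree

open Cfsg Cfsg.FusionSystem CfsgLib.Fusion Matrix
open scoped commutatorElement

/-- The subgroup generated by `p`-th powers. -/
def powSub {Ω : Type*} [Group Ω] (p : ℕ) (H : Subgroup Ω) : Subgroup Ω :=
  Subgroup.closure {y | ∃ a ∈ H, a ^ p = y}

theorem pow_mem_powSub {Ω : Type*} [Group Ω] {p : ℕ} {H : Subgroup Ω} {a : Ω} (ha : a ∈ H) :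
    a ^ p ∈ powSub p H :=
  Subgroup.subset_closure ⟨a, ha, rfl⟩

theorem powSub_map {Ω : Type*} [Group Ω] {p : ℕ} {H : Subgroup Ω} (f : Ω →* Ω) :
    (powSub p H).map f = powSub p (H.map f) := by
  rw [powSub, powSub, MonoidHom.map_closure]
  congr 1
  ext y
  constructor
  · rintro ⟨_, ⟨a, ha, rfl⟩, rfl⟩
    exact ⟨f a, ⟨a, ha, rfl⟩, (map_pow f a p).symm⟩
  · rintro ⟨_, ⟨a, ha, rfl⟩, rfl⟩
    exact ⟨_, ⟨a, ha, rfl⟩, map_pow f a p⟩

theorem powSub_mono {Ω : Type*} [Group Ω] {p : ℕ} {H K : Subgroup Ω} (h : H ≤ K) :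
    powSub p H ≤ powSub p K :=
  Subgroup.closure_mono fun _ ⟨a, ha, e⟩ => ⟨a, h ha, e⟩

theorem powSub_le {Ω : Type*} [Group Ω] {p : ℕ} {H : Subgroup Ω} : powSub p H ≤ H :=
  (Subgroup.closure_le _).2 fun _ ⟨_, ha, e⟩ => e ▸ H.pow_mem ha p

variable {p : ℕ} [hp : Fact p.Prime] {Ω : Type*} [Group Ω] {S : Subgroup Ω}
  {F : FusionSystem S} {E : Subgroup Ω}

namespace Frame

variable (d : Frame F p E)

/-- Hypothesis: the coordinates are those of the regular case. -/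
def Regular : Prop :=
  (d.X : M3 p) = !![1, 0, 0; 1, 1, 0; 0, 1, 1] ∧
    ∀ W : Submodule (ZMod p) (V3 p), W ≠ ⊥ →
      (∀ h ∈ d.G, ∀ w ∈ W, (h : M3 p) *ᵥ w ∈ W) → W = ⊤

/-- Coordinates vectors whose first entry vanishes. -/
def planeC : AddSubgroup (V3 p) where
  carrier := {w | w 0 = 0}
  zero_mem' := rfl
  add_mem' := fun {a b} ha hb => by
    show a 0 + b 0 = 0
    rw [show a 0 = 0 from ha, show b 0 = 0 from hb, add_zero]
  neg_mem' := fun {a} ha => by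
    show -a 0 = 0
    rw [show a 0 = 0 from ha, neg_zero]

/-- Coordinates vectors whose first two entries vanish. -/
def lineC : AddSubgroup (V3 p) where
  carrier := {w | w 0 = 0 ∧ w 1 = 0}
  zero_mem' := ⟨rfl, rfl⟩
  add_mem' := fun {a b} ha hb => ⟨by
    show a 0 + b 0 = 0
    rw [ha.1, hb.1, add_zero], by
    show a 1 + b 1 = 0
    rw [ha.2, hb.2, add_zero]⟩
  neg_mem' := fun {a} ha => ⟨by
    show -a 0 = 0
    rw [ha.1, neg_zero], by
    show -a 1 = 0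
    rw [ha.2, neg_zero]⟩

variable {d}

theorem Regular.pow (h : d.Regular) (n : ℕ) :
    (d.X : M3 p) ^ n = !![1, 0, 0; (n : ZMod p), 1, 0; (n.choose 2 : ℕ), (n : ZMod p), 1] := by
  rw [← Units.val_pow_eq_pow_val]
  exact coe_regular_pow h.1 n

theorem Regular.mulVec (h : d.Regular) (n : ℕ) (w : V3 p) :
    (d.X : M3 p) ^ n *ᵥ w =
      ![w 0, (n : ZMod p) * w 0 + w 1, (n.choose 2 : ZMod p) * w 0 + (n : ZMod p) * w 1 + w 2] := by
  rw [h.pow]
  funext i
  fin_cases i <;> simp [Matrix.mulVec, dotProduct, Fin.sum_univ_three]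

theorem Regular.mulVec_one (h : d.Regular) (w : V3 p) :
    (d.X : M3 p) *ᵥ w = ![w 0, w 0 + w 1, w 1 + w 2] := by
  rw [← pow_one (d.X : M3 p), h.mulVec]
  funext i
  fin_cases i <;> simp

theorem Regular.xp_coord (h : d.Regular) :
    d.q (d.x ^ p) 0 = 0 ∧ d.q (d.x ^ p) 1 = 0 := by
  have h1 := d.q_xp_fixed
  rw [h.mulVec_one] at h1
  have e1 := congrFun h1 1
  have e2 := congrFun h1 2
  simp at e1 e2
  exact ⟨e1, e2⟩

theorem Regular.exists_c_z (h : d.Regular) :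
    ∃ v c z : Ω, v ∈ E ∧ c ∈ E ∧ z ∈ E ∧ c = ⁅d.x, v⁆ ∧ z = ⁅d.x, c⁆ ∧
      d.q v = ![1, 0, 0] ∧ d.q c = ![0, 1, 0] ∧ d.q z = ![0, 0, 1] := by
  obtain ⟨v, hv, hqv⟩ := d.surj ![1, 0, 0]
  have step : ∀ a ∈ E, ⁅d.x, a⁆ ∈ E ∧ d.q ⁅d.x, a⁆ = (d.X : M3 p) *ᵥ d.q a - d.q a := by
    intro a ha
    refine ⟨E.mul_mem (conj_mem d.xN ha) (E.inv_mem ha), ?_⟩
    rw [commutatorElement_def, d.mul _ (conj_mem d.xN ha) _ (E.inv_mem ha), d.conjx a ha,
      d.q_inv ha, sub_eq_add_neg]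
  obtain ⟨hc, hqc⟩ := step v hv
  rw [hqv, h.mulVec_one] at hqc
  have hqc' : d.q ⁅d.x, v⁆ = ![0, 1, 0] := by rw [hqc]; funext i; fin_cases i <;> simp
  obtain ⟨hz, hqz⟩ := step _ hc
  rw [hqc', h.mulVec_one] at hqz
  exact ⟨v, _, _, hv, hc, hz, rfl, rfl, hqv, hqc', by rw [hqz]; funext i; fin_cases i <;> simp⟩

theorem exists_decomp {v c z : Ω} (hv : v ∈ E) (hc : c ∈ E) (hz : z ∈ E)
    (hqv : d.q v = ![1, 0, 0]) (hqc : d.q c = ![0, 1, 0]) (hqz : d.q z = ![0, 0, 1]) {a : Ω}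
    (ha : a ∈ E) :
    ∃ t ∈ d.D, a = v ^ (d.q a 0).val * c ^ (d.q a 1).val * z ^ (d.q a 2).val * t := by
  have hb : v ^ (d.q a 0).val * c ^ (d.q a 1).val * z ^ (d.q a 2).val ∈ E :=
    E.mul_mem (E.mul_mem (E.pow_mem hv _) (E.pow_mem hc _)) (E.pow_mem hz _)
  refine ⟨_, ⟨E.mul_mem (E.inv_mem hb) ha, ?_⟩, (mul_inv_cancel_left _ _).symm⟩
  rw [d.mul _ (E.inv_mem hb) _ ha, d.q_inv hb,
    d.mul _ (E.mul_mem (E.pow_mem hv _) (E.pow_mem hc _)) _ (E.pow_mem hz _),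
    d.mul _ (E.pow_mem hv _) _ (E.pow_mem hc _), d.q_pow hv, d.q_pow hc, d.q_pow hz, hqv, hqc, hqz]
  show _ = (0 : V3 p)
  funext i
  fin_cases i <;> simp

variable [Finite S] (hS : IsPGroup p S) (hr : SectionalPRankLE p 3 S)
include hS hr

theorem Regular.pair_eq_one (h : d.Regular) (a b : E) : pair (p := p) a b = 1 := by
  classical
  haveI := finite_of_le d.le
  obtain ⟨v, c, z, hv, hc, hz, -, -, hqv, hqc, hqz⟩ := h.exists_c_z
  let V : E := ⟨v, hv⟩
  let C : E := ⟨c, hc⟩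
  let Z : E := ⟨z, hz⟩
  have hcz : pair (p := p) C Z = 1 := by
    have h1 := d.pair_conjx hS hr V Z (V * C) Z (by
      rw [h.mulVec_one]; show d.q (v * c) = _
      rw [d.mul v hv c hc]; funext i; fin_cases i <;> simp [V, hqv, hqc]) (by
      rw [h.mulVec_one]; funext i; fin_cases i <;> simp [Z, hqz])
    rwa [pair_mul_left, mul_eq_left] at h1
  have hvz : pair (p := p) V Z = 1 := by
    have h1 := d.pair_conjx hS hr V C (V * C) (C * Z) (by
      rw [h.mulVec_one]; show d.q (v * c) = _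
      rw [d.mul v hv c hc]; funext i; fin_cases i <;> simp [V, hqv, hqc]) (by
      rw [h.mulVec_one]; show d.q (c * z) = _
      rw [d.mul c hc z hz]; funext i; fin_cases i <;> simp [C, hqc, hqz])
    rw [pair_mul_left, pair_mul_right, pair_mul_right, pair_self, one_mul, hcz, mul_one,
      mul_eq_left] at h1
    exact h1
  have hR : ∀ y : E, pair (p := p) Z y = 1 := by
    intro y
    obtain ⟨t, ht, hy⟩ := exists_decomp hv hc hz hqv hqc hqz y.2
    have he : y = V ^ (d.q y 0).val * C ^ (d.q y 1).val * Z ^ (d.q y 2).val * ⟨t, ht.1⟩ :=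
      Subtype.ext hy
    rw [pair_swap, he, pair_mul_left, pair_mul_left, pair_mul_left, pair_pow_left, pair_pow_left,
      pair_pow_left, hvz, hcz, pair_self, d.pair_frattini hS (t := ⟨t, ht.1⟩) ht.2]
    simp
  let W : AddSubgroup (V3 p) :=
    { carrier := {w | ∃ e : E, d.q (e : Ω) = w ∧ ∀ y : E, pair (p := p) e y = 1}
      zero_mem' := ⟨1, d.q_one, fun y => by
        rw [pair, commutatorElement_one_left, map_one]⟩
      add_mem' := by
        rintro _ _ ⟨e, rfl, he⟩ ⟨e', rfl, he'⟩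
        exact ⟨e * e', d.mul _ e.2 _ e'.2, fun y => by rw [pair_mul_left, he, he', one_mul]⟩
      neg_mem' := by
        rintro _ ⟨e, rfl, he⟩
        refine ⟨e⁻¹, d.q_inv e.2, fun y => ?_⟩
        have h1 := pair_mul_left (p := p) e⁻¹ e y
        rw [inv_mul_cancel, he, mul_one] at h1
        rw [← h1, pair, commutatorElement_one_left, map_one] }
  have hne : W.toZModSubmodule p ≠ ⊥ := by
    intro hb
    have h1 : d.q z ∈ W.toZModSubmodule p := ⟨Z, rfl, hR⟩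
    rw [hb, Submodule.mem_bot, hqz] at h1
    simpa using congrFun h1 2
  have htop := h.2 _ hne (by
    rintro M hM _ ⟨e, rfl, he⟩
    obtain ⟨α, -, -, hα⟩ := d.act M hM
    refine ⟨α e, hα e, fun y => ?_⟩
    obtain ⟨y, rfl⟩ := α.surjective y
    show QuotientGroup.mk' _ ⁅α e, α y⁆ = 1
    rw [← map_commutatorElement α]
    refine (QuotientGroup.eq_one_iff _).2 ?_
    have h1 : ⁅e, y⁆ ∈ kSub p E := (QuotientGroup.eq_one_iff _).1 (he y)
    exact (Subgroup.characteristic_iff_map_eq.1 kSub_characteristic α).le ⟨_, h1, rfl⟩)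
  obtain ⟨e, he, hey⟩ : d.q (a : Ω) ∈ W.toZModSubmodule p := by rw [htop]; trivial
  rw [d.pair_congr hS he.symm b]
  exact hey b

/-- In the regular case `Φ(E) = ℧(E)`. -/
theorem Regular.D_eq_powSub (h : d.Regular) : d.D = powSub p E :=
  le_antisymm (d.D_le_closure_pow hS (h.pair_eq_one hS hr))
    ((Subgroup.closure_le _).2 fun _ ⟨_, ha, e⟩ => e ▸ d.pow_mem_D ha)

end Frame

end CfsgLib.FusionRankThree
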