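import Cfsg.Agent.FusionRankThree.CaseR

/-!
# The regular case does not occur unless `E` is normal
-/

set_option autoImplicit false
set_option linter.style.haveILetI false

namespace CfsgLib.FusionRankThree

open Cfsg Cfsg.FusionSystem CfsgLib.Fusion Matrix
open scoped commutatorElement

variable {p : ℕ} [hp : Fact p.Prime] {Ω : Type*} [Group Ω] {S : Subgroup Ω}
  {F : FusionSystem S} {E : Subgroup Ω} {d : Frame F p E} [Finite S]

/-- The image of a commutator under conjugation. -/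
theorem commutator_map_conj {g : Ω} {H K H' K' : Subgroup Ω}
    (hH : H.map (MulAut.conj g).toMonoidHom ≤ H') (hK : K.map (MulAut.conj g).toMonoidHom ≤ K') :
    (⁅H, K⁆).map (MulAut.conj g).toMonoidHom ≤ ⁅H', K'⁆ := by
  rw [Subgroup.map_commutator]
  exact Subgroup.commutator_mono hH hK

/-- In the regular case no element of `S` outside `N_S(E)` normalizes `N_S(E)`. -/
theorem Frame.Regular.mem_normalizer (hp5 : 5 ≤ p) (hS : IsPGroup p S)
    (hr : SectionalPRankLE p 3 S) (h : d.Regular) {g : Ω} (hgS : g ∈ S)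
    (hgN : g ∈ Subgroup.normalizer (normalizerIn S E : Set Ω)) : g ∈ normalizerIn S E := by
  classical
  by_contra hgE
  haveI := finite_of_le d.le
  set N := normalizerIn S E with hN
  have hEN : E ≤ N := le_normalizerIn d.le
  set cg := (MulAut.conj g).toMonoidHom with hcg
  have hNmap : N.map cg ≤ N := by
    rintro _ ⟨y, hy, rfl⟩
    exact (Subgroup.mem_normalizer_iff.1 hgN y).1 hy
  obtain ⟨v, c, z, hv, hc, hz, hcd, hzd, hqv, hqc, hqz⟩ := h.exists_c_z
  obtain ⟨hx0, hx1⟩ := h.xp_coord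
  -- `p`-th powers lie on the fixed line
  have hpowN : powSub p N ≤ d.pre Frame.lineC := by
    refine (Subgroup.closure_le _).2 ?_
    rintro _ ⟨y, hy, rfl⟩
    obtain ⟨j, e, he, rfl⟩ := d.exists_form hy
    have h1 : d.x ^ (j * p) ∈ d.pre Frame.lineC := by
      rw [mul_comm, pow_mul]
      exact (d.pre Frame.lineC).pow_mem ⟨d.xp, hx0, hx1⟩ j
    have h2 := (d.pre Frame.lineC).mul_mem (d.D_le_pre Frame.lineC (d.pow_form hp5 he j)) h1
    rwa [inv_mul_cancel_right] at h2
  set A := ⁅N, N⁆ ⊔ powSub p N with hA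
  have hAle : A ≤ d.pre Frame.planeC := by
    refine sup_le ?_ (hpowN.trans fun y hy => ⟨hy.1, hy.2.1⟩)
    rw [Subgroup.commutator_le]
    intro y hy w hw
    obtain ⟨i, e, he, rfl⟩ := d.exists_form hy
    obtain ⟨j, f, hf, rfl⟩ := d.exists_form hw
    obtain ⟨h1, h2⟩ := d.comm_form he hf i j
    refine ⟨h1, ?_⟩
    show d.q _ 0 = 0
    rw [h2, h.mulVec, h.mulVec, h.mulVec]
    simp
  have hDA : d.D ≤ A := (h.D_eq_powSub hS hr).trans_le ((powSub_mono hEN).trans le_sup_right)
  have hcA : c ∈ A := hcd ▸ Subgroup.mem_sup_left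
    (Subgroup.commutator_mem_commutator d.xN (hEN hv))
  have hzA : z ∈ A := hzd ▸ Subgroup.mem_sup_left
    (Subgroup.commutator_mem_commutator d.xN (hEN hc))
  have hleA : d.pre Frame.planeC ≤ A := by
    intro y hy
    obtain ⟨t, ht, he⟩ := Frame.exists_decomp hv hc hz hqv hqc hqz hy.1
    have h0 : d.q y 0 = 0 := hy.2
    rw [he, h0, ZMod.val_zero, pow_zero, one_mul]
    exact A.mul_mem (A.mul_mem (A.pow_mem hcA _) (A.pow_mem hzA _)) (hDA ht)
  have hpowmap : (powSub p N).map cg ≤ powSub p N := by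
    rw [powSub_map]; exact powSub_mono hNmap
  have hAmap : A.map cg ≤ A := by
    rw [hA, Subgroup.map_sup]
    exact sup_le_sup (commutator_map_conj hNmap hNmap) hpowmap
  have hgA : ∀ y ∈ d.pre Frame.planeC, g * y * g⁻¹ ∈ d.pre Frame.planeC := fun y hy =>
    hAle (hAmap ⟨y, hleA hy, rfl⟩)
  -- `g v g⁻¹ ∉ E`
  have hgv : g * v * g⁻¹ ∉ E := by
    intro hgv
    refine hgE ⟨hgS, ?_⟩
    have hmap : E.map cg ≤ E := by
      rintro _ ⟨y, hy, rfl⟩
      obtain ⟨t, ht, he⟩ := Frame.exists_decomp hv hc hz hqv hqc hqz hy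
      have h1 : ∀ w ∈ d.pre Frame.planeC, cg w ∈ E := fun w hw => (hgA w hw).1
      rw [he, map_mul, map_mul, map_mul, map_pow, map_pow, map_pow]
      exact E.mul_mem (E.mul_mem (E.mul_mem (E.pow_mem hgv _)
        (E.pow_mem (h1 c ⟨hc, by show d.q c 0 = 0; rw [hqc]; rfl⟩) _))
        (E.pow_mem (h1 z ⟨hz, by show d.q z 0 = 0; rw [hqz]; rfl⟩) _))
        (h1 t (d.D_le_pre _ ht))
    refine Subgroup.mem_normalizer_iff.2 fun y => ?_
    refine ⟨fun hy => hmap ⟨y, hy, rfl⟩, fun hy => ?_⟩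
    have heq : E.map cg = E := Subgroup.eq_of_le_of_card_ge hmap
      (Subgroup.card_map_of_injective (MulAut.conj g).injective).ge
    rw [← heq] at hy
    obtain ⟨w, hw, hwy⟩ := hy
    exact (MulAut.conj g).injective hwy ▸ hw
  obtain ⟨j, e, he, hje⟩ := d.exists_form ((Subgroup.mem_normalizer_iff.1 hgN v).1 (hEN hv))
  have hj : (j : ZMod p) ≠ 0 := by
    intro hj
    obtain ⟨k, rfl⟩ := (ZMod.natCast_eq_zero_iff j p).1 hj
    refine hgv ?_
    rw [hje, pow_mul]
    exact E.mul_mem (E.pow_mem d.xp k) he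
  by_cases ha : d.q (d.x ^ p) 2 = 0
  · -- `x ^ p ∈ Φ(E)`
    have hxD : d.x ^ p ∈ d.D := ⟨d.xp, funext fun i => by fin_cases i <;> assumption⟩
    have hND : powSub p N ≤ d.D := by
      refine (Subgroup.closure_le _).2 ?_
      rintro _ ⟨y, hy, rfl⟩
      obtain ⟨i, f, hf, rfl⟩ := d.exists_form hy
      have h2 := d.D.mul_mem (d.pow_form hp5 hf i) (show d.x ^ (i * p) ∈ d.D by
        rw [mul_comm, pow_mul]; exact d.D.pow_mem hxD i)
      rwa [inv_mul_cancel_right] at h2
    have hDeq : d.D = powSub p N :=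
      le_antisymm ((h.D_eq_powSub hS hr).trans_le (powSub_mono hEN)) hND
    have hginv : g⁻¹ * c * g ∈ E := by
      have heq : A.map cg = A := by
        haveI := finite_of_le (hAle.trans ((d.pre_le _).trans d.le))
        exact Subgroup.eq_of_le_of_card_ge hAmap
          (Subgroup.card_map_of_injective (MulAut.conj g).injective).ge
      obtain ⟨w, hw, hwc⟩ : c ∈ A.map cg := heq.symm ▸ hcA
      rw [show g⁻¹ * c * g = w by rw [← hwc]; simp [hcg, mul_assoc]]
      exact (hAle hw).1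
    have h3 : g * ⁅v, g⁻¹ * c * g⁆ * g⁻¹ ∈ d.D := by
      have := hDeq ▸ d.comm_mem_D hv hginv
      exact hDeq ▸ hpowmap ⟨_, this, rfl⟩
    rw [show g * ⁅v, g⁻¹ * c * g⁆ * g⁻¹ = ⁅d.x ^ j * e, d.x ^ 0 * c⁆ by
      rw [← hje, pow_zero, one_mul, commutatorElement_def, commutatorElement_def]; group] at h3
    have h4 := h3.2
    rw [(d.comm_form he hc j 0).2, add_zero, h.mulVec, h.mulVec, h.mulVec] at h4
    have h5 := congrFun (show _ = (0 : V3 p) from h4) 2
    simp [hqc] at h5
    exact hj (by linear_combination h5)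
  · -- `x ^ p ∉ Φ(E)`
    set a := d.q (d.x ^ p) 2 with hadef
    have hxp : d.q (d.x ^ p) = ![0, 0, a] := funext fun i => by
      fin_cases i <;> simp [hx0, hx1, hadef]
    have hrel := h.exists_relation hp5 hS hr hv hc hz hcd hzd hqv hqc hqz ha hxp
    set M₁ := ⁅powSub p N, N⁆ ⊔ powSub p (powSub p N)
    have hM₁map : M₁.map cg ≤ M₁ := by
      rw [Subgroup.map_sup]
      refine sup_le_sup (commutator_map_conj hpowmap hNmap) ?_
      rw [powSub_map]; exact powSub_mono hpowmap
    have hM₁D : M₁ ≤ d.D := by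
      refine sup_le (Subgroup.commutator_le.2 fun m hm y hy => ?_)
        ((powSub_mono hpowN).trans ((Subgroup.closure_le _).2
          fun _ ⟨w, hw, e⟩ => e ▸ d.pow_mem_D hw.1))
      obtain ⟨hmE, hm0, hm1⟩ := hpowN hm
      obtain ⟨i, f, hf, rfl⟩ := d.exists_form hy
      have h1 := d.comm_form hmE hf 0 i
      rw [pow_zero, one_mul, pow_zero, one_mulVec, zero_add, mulVec_sub] at h1
      refine ⟨h1.1, ?_⟩
      show d.q _ = 0
      rw [h1.2, h.mulVec i (d.q m), h.mulVec i (d.q f)]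
      funext k
      fin_cases k <;> simp [Matrix.vecHead, Matrix.vecTail, hm0, hm1]
    obtain ⟨hc'E, hc'0⟩ := hgA c ⟨hc, by show d.q c 0 = 0; rw [hqc]; rfl⟩
    set c' := g * c * g⁻¹ with hc'
    set s := d.q c' 1 with hs
    -- the character on `A / ℧(N)` is trivial
    have hs1 : s = 1 := by
      have hiter : ∀ k : ℕ, g ^ k * c * (g ^ k)⁻¹ ∈ d.pre Frame.planeC ∧
          d.q (g ^ k * c * (g ^ k)⁻¹) 1 = s ^ k := by
        intro k
        induction k with
        | zero => exact ⟨by simpa using ⟨hc, by show d.q c 0 = 0; rw [hqc]; rfl⟩, by simp [hqc]⟩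
        | succ k ih =>
          set y := g ^ k * c * (g ^ k)⁻¹
          have hy : g ^ (k + 1) * c * (g ^ (k + 1))⁻¹ = g * y * g⁻¹ := by
            rw [pow_succ']; simp only [y]; group
          rw [hy]
          refine ⟨hgA y ih.1, ?_⟩
          obtain ⟨t, ht, he'⟩ := Frame.exists_decomp hv hc hz hqv hqc hqz ih.1.1
          rw [show d.q y 0 = 0 from ih.1.2, ZMod.val_zero, pow_zero, one_mul] at he'
          have hw : z ^ (d.q y 2).val * t ∈ powSub p N := by
            have hb : ((d.x ^ p) ^ ((d.q y 2) * a⁻¹).val)⁻¹ * (z ^ (d.q y 2).val * t) ∈ d.D := by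
              have h1 := E.pow_mem d.xp ((d.q y 2) * a⁻¹).val
              refine ⟨E.mul_mem (E.inv_mem h1) (E.mul_mem (E.pow_mem hz _) ht.1), ?_⟩
              show d.q _ = 0
              rw [d.mul _ (E.inv_mem h1) _ (E.mul_mem (E.pow_mem hz _) ht.1), d.q_inv h1,
                d.q_pow d.xp, d.mul _ (E.pow_mem hz _) _ ht.1, d.q_pow hz,
                show d.q t = 0 from ht.2, hxp, hqz]
              funext k
              fin_cases k <;> simp [mul_assoc, inv_mul_cancel₀ ha]
            have h2 := (powSub p N).mul_mem ((powSub p N).pow_mem (pow_mem_powSub d.xN)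
              ((d.q y 2) * a⁻¹).val)
              ((h.D_eq_powSub hS hr).trans_le (powSub_mono hEN) hb)
            rwa [mul_inv_cancel_left] at h2
          obtain ⟨hwE, -, hw1⟩ := hpowN (hpowmap ⟨_, hw, rfl⟩)
          have h6 : g * y * g⁻¹ = c' ^ (d.q y 1).val * cg (z ^ (d.q y 2).val * t) := by
            conv_lhs => rw [he']
            rw [hc', conj_pow]
            simp only [hcg, MulEquiv.coe_toMonoidHom, MulAut.conj_apply]
            group
          rw [h6, d.mul _ (E.pow_mem hc'E _) _ hwE, d.q_pow hc'E, Pi.add_apply, hw1, add_zero,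
            Pi.smul_apply, smul_eq_mul, ZMod.natCast_zmod_val, ← hs, ih.2, pow_succ]
      obtain ⟨k, hk⟩ := hS ⟨g, hgS⟩
      have h7 := (hiter (p ^ k)).2
      rw [show g ^ p ^ k = 1 by simpa using congrArg Subtype.val hk] at h7
      simp [hqc] at h7
      exact h7.symm
    have h3 : g * (⁅v, c⁆ * (v ^ p) ^ (a⁻¹).val) * g⁻¹ ∈ d.D :=
      hM₁D (hM₁map ⟨_, hrel, rfl⟩)
    rw [show g * (⁅v, c⁆ * (v ^ p) ^ (a⁻¹).val) * g⁻¹ =
        ⁅d.x ^ j * e, d.x ^ 0 * c'⁆ *
          (((d.x ^ j * e) ^ p * (d.x ^ (j * p))⁻¹) * (d.x ^ p) ^ j) ^ (a⁻¹).val by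
      rw [← pow_mul d.x p j, mul_comm p j, inv_mul_cancel_right, ← hje, pow_zero, one_mul,
        conj_pow, conj_pow, hc', commutatorElement_def, commutatorElement_def]
      group] at h3
    obtain ⟨hE1, hq1⟩ := d.comm_form he hc'E j 0
    obtain ⟨hE2, hq2⟩ := d.pow_form hp5 he j
    have h4 := h3.2
    rw [d.mul _ hE1 _ (E.pow_mem (E.mul_mem hE2 (E.pow_mem d.xp j)) _), hq1,
      d.q_pow (E.mul_mem hE2 (E.pow_mem d.xp j)), d.mul _ hE2 _ (E.pow_mem d.xp j),
      show d.q _ = 0 from hq2, d.q_pow d.xp, hxp, add_zero, h.mulVec, h.mulVec, h.mulVec] at h4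
    have h5 := congrFun (show _ = (0 : V3 p) from h4) 2
    have hc'0' : d.q c' 0 = 0 := hc'0
    simp [hc'0', ← hs, hs1, ha] at h5
    have h2 : ((2 : ℕ) : ZMod p) * j = 0 := by
      push_cast
      field_simp at h5
      linear_combination h5
    rcases mul_eq_zero.1 h2 with h6 | h6
    · rw [ZMod.natCast_eq_zero_iff] at h6
      have := Nat.le_of_dvd (by norm_num) h6
      omega
    · exact hj h6

end CfsgLib.FusionRankThree
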