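import Cfsg.Agent.FusionRankThree.CaseTBase

/-!
# The transvection case: the action of automorphisms of `N_S(E)` on a quotient of order `p ^ 2`
-/

set_option autoImplicit false
set_option linter.style.haveILetI false

namespace CfsgLib.FusionRankThree

open Cfsg Cfsg.FusionSystem CfsgLib.Fusion Matrix
open scoped commutatorElement

variable {p : ℕ} [hp : Fact p.Prime] {Ω : Type*} [Group Ω] {S : Subgroup Ω}
  {F : FusionSystem S} {E : Subgroup Ω}

/-- The transvection case together with what `N_S(E)` needs. -/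
structure Frame.TData (d : Frame F p E) : Prop where
  hp5 : 5 ≤ p
  tv : d.Transvection
  xpD : d.x ^ p ∈ d.D
  D_eq : d.D = powSub p (normalizerIn S E) ⊔
    ⁅⁅normalizerIn S E, normalizerIn S E⁆, normalizerIn S E⁆
  line_eq : d.pre Frame.lineC = ⁅normalizerIn S E, normalizerIn S E⁆ ⊔ d.D

namespace Frame

variable {d : Frame F p E} [Finite S]

theorem TData.mk' (hp5 : 5 ≤ p) (hS : IsPGroup p S) (hF : F.IsSaturated p)
    (hE : F.IsEssential p E) (hr : SectionalPRankLE p 3 S) (h : d.Transvection) : d.TData := by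
  have hx := h.xp_mem hp5 hS hF hE
  exact ⟨hp5, h, hx, h.D_eq hp5 hx hS hr, h.line_eq hp5 hx hS hr⟩

/-- The elements of `N_S(E)` whose image under `ψ` stays in `H`. -/
def keep (ψ : MulAut (normalizerIn S E)) (H : Subgroup Ω) : Subgroup Ω :=
  (H.comap ((normalizerIn S E).subtype.comp ψ.toMonoidHom)).map (normalizerIn S E).subtype

theorem mem_keep {ψ : MulAut (normalizerIn S E)} {H : Subgroup Ω} (y : normalizerIn S E) :
    (y : Ω) ∈ keep ψ H ↔ (ψ y : Ω) ∈ H := by
  constructor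
  · rintro ⟨w, hw, e⟩
    exact (Subtype.ext e : w = y) ▸ hw
  · exact fun h => ⟨y, h, rfl⟩

theorem TData.apply_mem_D (h : d.TData) (ψ : MulAut (normalizerIn S E)) (y : normalizerIn S E)
    (hy : (y : Ω) ∈ d.D) : (ψ y : Ω) ∈ d.D := by
  let N := normalizerIn S E
  have hNN : ⁅N, N⁆ ≤ keep ψ ⁅N, N⁆ := by
    rw [Subgroup.commutator_le]
    intro a ha b hb
    refine (mem_keep (ψ := ψ) ⁅(⟨a, ha⟩ : N), ⟨b, hb⟩⁆).2 ?_
    rw [map_commutatorElement]
    exact Subgroup.commutator_mem_commutator (ψ _).2 (ψ _).2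
  have hD : d.D ≤ keep ψ d.D := by
    conv_lhs => rw [h.D_eq]
    refine sup_le ((Subgroup.closure_le _).2 ?_) (Subgroup.commutator_le.2 ?_)
    · rintro _ ⟨a, ha, rfl⟩
      refine (mem_keep (ψ := ψ) ((⟨a, ha⟩ : N) ^ p)).2 ?_
      rw [map_pow, h.D_eq]
      exact Subgroup.mem_sup_left (pow_mem_powSub (ψ _).2)
    · intro a ha b hb
      obtain ⟨a', ha', rfl⟩ := hNN ha
      refine (mem_keep (ψ := ψ) ⁅a', (⟨b, hb⟩ : N)⁆).2 ?_
      rw [map_commutatorElement, h.D_eq]
      exact Subgroup.mem_sup_right (Subgroup.commutator_mem_commutator ha' (ψ _).2)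
  exact (mem_keep y).1 (hD hy)

theorem TData.apply_mem_line (h : d.TData) (ψ : MulAut (normalizerIn S E))
    (y : normalizerIn S E) (hy : (y : Ω) ∈ d.pre Frame.lineC) :
    (ψ y : Ω) ∈ d.pre Frame.lineC := by
  let N := normalizerIn S E
  have hle : d.pre Frame.lineC ≤ keep ψ (d.pre Frame.lineC) := by
    conv_lhs => rw [h.line_eq]
    refine sup_le (Subgroup.commutator_le.2 fun a ha b hb => ?_) fun a ha => ?_
    · refine (mem_keep (ψ := ψ) ⁅(⟨a, ha⟩ : N), ⟨b, hb⟩⁆).2 ?_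
      rw [map_commutatorElement]
      exact h.tv.comm_mem_line (ψ _).2 (ψ _).2
    · have haN : a ∈ N := le_normalizerIn d.le ha.1
      exact (mem_keep (ψ := ψ) ⟨a, haN⟩).2 (d.D_le_pre _ (h.apply_mem_D ψ ⟨a, haN⟩ ha))
  exact (mem_keep y).1 (hle hy)

theorem TData.apply_mem_plane (h : d.TData) (ψ : MulAut (normalizerIn S E))
    (y : normalizerIn S E) (hy : (y : Ω) ∈ d.pre Frame.planeC) :
    (ψ y : Ω) ∈ d.pre Frame.planeC := by
  refine h.tv.mem_plane (ψ y).2 fun w hw => ?_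
  obtain ⟨w', hw'⟩ := ψ.surjective ⟨w, hw⟩
  have h1 := h.apply_mem_D ψ ⁅y, w'⁆ (h.tv.plane_comm_mem_D hy w'.2)
  rwa [map_commutatorElement, hw'] at h1

/-- The index modulo `E`. -/
noncomputable def jdx (d : Frame F p E) (y : normalizerIn S E) : ℕ := (d.exists_form y.2).choose

theorem jdx_mem (d : Frame F p E) (y : normalizerIn S E) :
    (d.x ^ d.jdx y)⁻¹ * (y : Ω) ∈ E := by
  obtain ⟨e, he, hy⟩ := (d.exists_form y.2).choose_spec
  rw [show (d.x ^ d.jdx y)⁻¹ * (y : Ω) = e from by rw [hy]; exact inv_mul_cancel_left _ _]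
  exact he

/-- Coordinates on `N_S(E)`. -/
noncomputable def chi (d : Frame F p E) (y : normalizerIn S E) : Fin 2 → ZMod p :=
  ![(d.jdx y : ZMod p), d.q ((d.x ^ d.jdx y)⁻¹ * (y : Ω)) 0]

theorem TData.chi_eq (h : d.TData) {i : ℕ} {e : Ω} (he : e ∈ E) {y : normalizerIn S E}
    (hy : (y : Ω) = d.x ^ i * e) : d.chi y = ![(i : ZMod p), d.q e 0] := by
  set n := d.jdx y
  have h1 := d.jdx_mem y
  rw [hy] at h1
  have hm : (d.x ^ n)⁻¹ * d.x ^ i ∈ E := by
    have := E.mul_mem h1 (E.inv_mem he)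
    rwa [mul_assoc, mul_inv_cancel_right] at this
  have hdvd : (i : ZMod p) = n := by
    rcases le_total n i with hle | hle
    · obtain ⟨k, rfl⟩ := Nat.exists_eq_add_of_le hle
      rw [pow_add, inv_mul_cancel_left] at hm
      rw [Nat.cast_add, (ZMod.natCast_eq_zero_iff k p).2 (d.dvd_of_xpow_mem hm), add_zero]
    · obtain ⟨k, hk⟩ := Nat.exists_eq_add_of_le hle
      rw [hk, pow_add, _root_.mul_inv_rev, mul_assoc, inv_mul_cancel, mul_one, inv_mem_iff] at hm
      rw [hk, Nat.cast_add, (ZMod.natCast_eq_zero_iff k p).2 (d.dvd_of_xpow_mem hm), add_zero]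
  obtain ⟨c, hc⟩ : (p : ℤ) ∣ (i : ℤ) - n := by
    rw [← ZMod.intCast_eq_intCast_iff_dvd_sub, Int.cast_natCast, Int.cast_natCast, hdvd]
  have hD : (d.x ^ n)⁻¹ * d.x ^ i ∈ d.D := by
    rw [← zpow_natCast d.x n, ← zpow_natCast d.x i, ← _root_.zpow_neg, ← _root_.zpow_add,
      neg_add_eq_sub, hc, _root_.zpow_mul, zpow_natCast]
    exact d.D.zpow_mem h.xpD c
  show ![(n : ZMod p), d.q ((d.x ^ n)⁻¹ * (y : Ω)) 0] = _
  rw [hy, ← mul_assoc, d.mul _ hD.1 _ he, show d.q _ = 0 from hD.2, zero_add, hdvd]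

theorem TData.chi_mul (h : d.TData) (a b : normalizerIn S E) :
    d.chi (a * b) = d.chi a + d.chi b := by
  obtain ⟨i, e, he, ha⟩ := d.exists_form a.2
  obtain ⟨j, f, hf, hb⟩ := d.exists_form b.2
  have hce : (d.x ^ j)⁻¹ * e * d.x ^ j ∈ E := by
    have := conj_mem ((normalizerIn S E).inv_mem (d.xpow_mem j)) he
    rwa [inv_inv] at this
  have hq : d.q ((d.x ^ j)⁻¹ * e * d.x ^ j) 0 = d.q e 0 := by
    have h1 := d.q_conj_xpow hce j
    rw [show d.x ^ j * ((d.x ^ j)⁻¹ * e * d.x ^ j) * (d.x ^ j)⁻¹ = e by group,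
      h.tv.mulVec] at h1
    exact (congrFun h1 0).symm
  rw [h.chi_eq he ha, h.chi_eq hf hb, h.chi_eq (E.mul_mem hce hf) (i := i + j) (by
    rw [Subgroup.coe_mul, ha, hb, pow_add]; group), d.mul _ hce _ hf]
  funext k
  fin_cases k <;> simp [hq]

/-- The coordinates as a homomorphism. -/
noncomputable def TData.chiHom (h : d.TData) :
    normalizerIn S E →* Multiplicative (Fin 2 → ZMod p) :=
  MonoidHom.mk' (fun y => Multiplicative.ofAdd (d.chi y)) fun a b =>
    congrArg Multiplicative.ofAdd (h.chi_mul a b)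

theorem TData.chi_pow (h : d.TData) (a : normalizerIn S E) (n : ℕ) :
    d.chi (a ^ n) = (n : ZMod p) • d.chi a := by
  rw [Nat.cast_smul_eq_nsmul]
  exact congrArg Multiplicative.toAdd (map_pow h.chiHom a n)

theorem TData.chi_of_mem (h : d.TData) {y : normalizerIn S E} (hy : (y : Ω) ∈ E) :
    d.chi y = ![0, d.q y 0] := by
  rw [h.chi_eq hy (i := 0) (by rw [pow_zero, one_mul]), Nat.cast_zero]

theorem TData.mem_of_chi (h : d.TData) {y : normalizerIn S E} (hy : d.chi y 0 = 0) :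
    (y : Ω) ∈ E := by
  obtain ⟨i, e, he, hye⟩ := d.exists_form y.2
  rw [h.chi_eq he hye] at hy
  obtain ⟨k, rfl⟩ := (ZMod.natCast_eq_zero_iff i p).1 hy
  rw [hye, pow_mul]
  exact E.mul_mem (E.pow_mem d.xp k) he

theorem TData.chi_zero_iff (h : d.TData) {y : normalizerIn S E} :
    d.chi y = 0 ↔ (y : Ω) ∈ d.pre Frame.planeC := by
  constructor
  · intro hy
    have hyE := h.mem_of_chi (congrFun hy 0)
    refine ⟨hyE, ?_⟩
    rw [h.chi_of_mem hyE] at hy
    exact congrFun hy 1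
  · rintro ⟨hyE, hy0⟩
    rw [h.chi_of_mem hyE, show d.q y 0 = 0 from hy0]
    funext k; fin_cases k <;> rfl

/-- Fixed representatives. -/
noncomputable def vRep (d : Frame F p E) : normalizerIn S E :=
  ⟨(d.surj ![1, 0, 0]).choose, le_normalizerIn d.le (d.surj ![1, 0, 0]).choose_spec.1⟩

theorem vRep_spec (d : Frame F p E) :
    (d.vRep : Ω) ∈ E ∧ d.q (d.vRep : Ω) = ![1, 0, 0] :=
  (d.surj ![1, 0, 0]).choose_spec

theorem TData.chi_vRep (h : d.TData) : d.chi d.vRep = ![0, 1] := by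
  rw [h.chi_of_mem d.vRep_spec.1, d.vRep_spec.2]
  rfl

/-- The element `x` in `N_S(E)`. -/
def xRep (d : Frame F p E) : normalizerIn S E := ⟨d.x, d.xN⟩

theorem TData.chi_xRep (h : d.TData) : d.chi d.xRep = ![1, 0] := by
  rw [h.chi_eq E.one_mem (i := 1) (y := d.xRep) (by rw [pow_one, mul_one]; rfl), d.q_one,
    Nat.cast_one]
  rfl

/-- The matrix of an automorphism of `N_S(E)`. -/
noncomputable def actM (d : Frame F p E) (ψ : MulAut (normalizerIn S E)) :
    Matrix (Fin 2) (Fin 2) (ZMod p) :=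
  Matrix.of fun r s => ![d.chi (ψ d.xRep), d.chi (ψ d.vRep)] s r

theorem TData.chi_apply (h : d.TData) (ψ : MulAut (normalizerIn S E)) (y : normalizerIn S E) :
    d.chi (ψ y) = d.actM ψ *ᵥ d.chi y := by
  set w := (d.xRep ^ (d.chi y 0).val * d.vRep ^ (d.chi y 1).val)⁻¹ * y with hw
  have hy : y = d.xRep ^ (d.chi y 0).val * d.vRep ^ (d.chi y 1).val * w :=
    (mul_inv_cancel_left _ _).symm
  have hw0 : d.chi w = 0 := by
    have h1 : d.chi y = d.chi (d.xRep ^ (d.chi y 0).val * d.vRep ^ (d.chi y 1).val) + d.chi w := by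
      rw [← h.chi_mul, ← hy]
    rw [h.chi_mul, h.chi_pow, h.chi_pow, h.chi_xRep, h.chi_vRep, ZMod.natCast_zmod_val,
      ZMod.natCast_zmod_val] at h1
    funext k
    have h2 := congrFun h1 k
    fin_cases k <;> simpa using h2
  have hψw : d.chi (ψ w) = 0 :=
    h.chi_zero_iff.2 (h.apply_mem_plane ψ w (h.chi_zero_iff.1 hw0))
  conv_lhs => rw [hy]
  rw [map_mul, map_mul, map_pow, map_pow, h.chi_mul, h.chi_mul, hψw, add_zero, h.chi_pow,
    h.chi_pow, ZMod.natCast_zmod_val, ZMod.natCast_zmod_val]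
  funext k
  simp [actM, Matrix.mulVec, dotProduct, Fin.sum_univ_two, mul_comm]

theorem TData.actM_mul (h : d.TData) (ψ φ : MulAut (normalizerIn S E)) :
    d.actM (ψ * φ) = d.actM ψ * d.actM φ := by
  ext r s
  fin_cases s
  · show d.chi ((ψ * φ) d.xRep) r = _
    rw [MulAut.mul_apply, h.chi_apply]
    simp [Matrix.mul_apply, Matrix.mulVec, dotProduct, actM]
  · show d.chi ((ψ * φ) d.vRep) r = _
    rw [MulAut.mul_apply, h.chi_apply]
    simp [Matrix.mul_apply, Matrix.mulVec, dotProduct, actM]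

theorem TData.actM_one (h : d.TData) : d.actM 1 = 1 := by
  ext r s
  fin_cases s
  · show d.chi d.xRep r = _
    rw [h.chi_xRep]; fin_cases r <;> simp
  · show d.chi d.vRep r = _
    rw [h.chi_vRep]; fin_cases r <;> simp

/-- The action on the quotient of order `p ^ 2`. -/
noncomputable def TData.act2 (h : d.TData) :
    MulAut (normalizerIn S E) →* GL (Fin 2) (ZMod p) :=
  (⟨⟨d.actM, h.actM_one⟩, h.actM_mul⟩ :
    MulAut (normalizerIn S E) →* Matrix (Fin 2) (Fin 2) (ZMod p)).toHomUnits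

theorem TData.coe_act2 (h : d.TData) (ψ : MulAut (normalizerIn S E)) :
    ((h.act2 ψ : GL (Fin 2) (ZMod p)) : Matrix (Fin 2) (Fin 2) (ZMod p)) = d.actM ψ := rfl

theorem TData.actM_inner (h : d.TData) {ψ : MulAut (normalizerIn S E)}
    (hψ : ψ ∈ Inn (normalizerIn S E)) : d.actM ψ = 1 := by
  obtain ⟨n, rfl⟩ := hψ
  have hc : ∀ y, d.chi (n * y * n⁻¹) = d.chi y := fun y => by
    have h1 := h.chi_mul (n * y * n⁻¹) n
    rw [inv_mul_cancel_right, h.chi_mul n y] at h1
    exact add_right_cancel (h1.symm.trans (add_comm _ _))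
  ext r s
  fin_cases s
  · show d.chi (n * d.xRep * n⁻¹) r = _
    rw [hc, h.chi_xRep]; fin_cases r <;> simp
  · show d.chi (n * d.vRep * n⁻¹) r = _
    rw [hc, h.chi_vRep]; fin_cases r <;> simp

/-- Automorphisms fixing the point `(0, 1)` up to a scalar stabilize `E`. -/
theorem TData.apply_mem_E (h : d.TData) {ψ : MulAut (normalizerIn S E)}
    (hψ : d.actM ψ 0 1 = 0) {y : normalizerIn S E} (hy : (y : Ω) ∈ E) : (ψ y : Ω) ∈ E := by
  refine h.mem_of_chi ?_
  rw [h.chi_apply, h.chi_of_mem hy]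
  simp [Matrix.mulVec, dotProduct, Fin.sum_univ_two, hψ]

end Frame

end CfsgLib.FusionRankThree
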