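import Cfsg.Agent.FusionRankThree.CaseRBase

/-!
# The transvection case: structure of `N_S(E)`
-/

set_option autoImplicit false
set_option linter.style.haveILetI false

namespace CfsgLib.FusionRankThree

open Cfsg Cfsg.FusionSystem CfsgLib.Fusion Matrix
open scoped commutatorElement

variable {p : ℕ} [hp : Fact p.Prime]

theorem exists_scalar (hp5 : 5 ≤ p) :
    ∃ l : ZMod p, l ≠ 0 ∧ l ^ 2 ≠ 1 ∧ l ^ 3 ≠ 1 ∧ l ^ 5 ≠ 1 := by
  obtain ⟨g, hg⟩ := IsCyclic.exists_ofOrder_eq_natCard (α := (ZMod p)ˣ)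
  rw [Nat.card_eq_fintype_card, ZMod.card_units] at hg
  have h : ∀ n : ℕ, 0 < n → n ≤ 5 → n ≠ 4 → ((g : ZMod p) ^ n = 1 → False) := by
    intro n hn hn5 hn4 he
    have hd := orderOf_dvd_of_pow_eq_one (x := g) (n := n) (Units.ext (by simpa using he))
    rw [hg] at hd
    have := Nat.le_of_dvd hn hd
    obtain rfl : n = 5 := by omega
    rcases (Nat.dvd_prime (by norm_num : Nat.Prime 5)).1 hd with h1 | h1
    · omega
    · have h6 : p = 6 := by omega
      exact absurd hp.out (h6 ▸ by norm_num)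
  exact ⟨g, g.ne_zero, h 2 (by norm_num) (by norm_num) (by norm_num),
    h 3 (by norm_num) (by norm_num) (by norm_num), h 5 (by norm_num) le_rfl (by norm_num)⟩

variable {Ω : Type*} [Group Ω] {S : Subgroup Ω} {F : FusionSystem S} {E : Subgroup Ω}

/-- The transvection case, in adapted coordinates. -/
structure Frame.Transvection (d : Frame F p E) : Prop where
  shape : (d.X : M3 p) = !![1, 0, 0; 0, 1, 0; 1, 0, 1]
  opp : ∃ a : ZMod p, a ≠ 0 ∧ ∃ w ∈ d.G, w ^ p = 1 ∧ (w : M3 p) = !![1, 0, a; 0, 1, 0; 0, 0, 1]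
  torus : ∀ l : ZMod p, l ≠ 0 → ∃ t ∈ d.G, (t : M3 p) = !![l⁻¹, 0, 0; 0, 1, 0; 0, 0, l]

namespace Frame.Transvection

variable {d : Frame F p E}

theorem pow (h : d.Transvection) (n : ℕ) :
    (d.X : M3 p) ^ n = !![1, 0, 0; 0, 1, 0; (n : ZMod p), 0, 1] := by
  induction n with
  | zero => simp [Matrix.one_fin_three]
  | succ n ih =>
    rw [pow_succ, ih, h.shape]
    ext i j
    fin_cases i <;> fin_cases j <;> simp [Matrix.mul_apply, Fin.sum_univ_three]

theorem mulVec (h : d.Transvection) (n : ℕ) (w : V3 p) :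
    (d.X : M3 p) ^ n *ᵥ w = ![w 0, w 1, (n : ZMod p) * w 0 + w 2] := by
  rw [h.pow]
  funext i
  fin_cases i <;> simp [Matrix.mulVec, dotProduct, Fin.sum_univ_three]

theorem mulVec_one (h : d.Transvection) (w : V3 p) :
    (d.X : M3 p) *ᵥ w = ![w 0, w 1, w 0 + w 2] := by
  rw [← pow_one (d.X : M3 p), h.mulVec]
  simp

variable [Finite S]

theorem exists_torus_ext (hS : IsPGroup p S) (hF : F.IsSaturated p) (hE : F.IsEssential p E)
    (h : d.Transvection) {l : ZMod p} (hl : l ≠ 0) :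
    ∃ ψ ∈ F.autGroup (normalizerIn S E),
      (∀ a : normalizerIn S E, (a : Ω) ∈ E →
        (ψ a : Ω) ∈ E ∧ d.q (ψ a : Ω) = ![l⁻¹ * d.q a 0, d.q a 1, l * d.q a 2]) ∧
      (d.x ^ (l * l).val)⁻¹ * (ψ ⟨d.x, d.xN⟩ : Ω) ∈ E := by
  obtain ⟨t, ht, htm⟩ := h.torus l hl
  obtain ⟨ψ, hψ, h1, h2⟩ := d.exists_ext hS hF hE ht (k := (l * l).val) (Units.ext (by
    rw [Units.val_mul, Units.val_mul, Units.val_pow_eq_pow_val, h.pow, htm, h.shape,
      ZMod.natCast_zmod_val]
    ext i j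
    fin_cases i <;> fin_cases j <;>
      simp [Matrix.mul_apply, Fin.sum_univ_three, mul_assoc, mul_inv_cancel₀ hl]))
  refine ⟨ψ, hψ, fun a ha => ⟨(h1 a ha).1, ?_⟩, h2⟩
  rw [(h1 a ha).2, htm]
  funext i
  fin_cases i <;> simp [Matrix.mulVec, dotProduct, Fin.sum_univ_three]

theorem xp_mem (hp5 : 5 ≤ p) (hS : IsPGroup p S) (hF : F.IsSaturated p) (hE : F.IsEssential p E)
    (h : d.Transvection) : d.x ^ p ∈ d.D := by
  obtain ⟨l, hl0, hl2, -, -⟩ := exists_scalar (p := p) hp5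
  obtain ⟨ψ, -, h1, h2⟩ := h.exists_torus_ext hS hF hE hl0
  set xN : normalizerIn S E := ⟨d.x, d.xN⟩
  set k := (l * l).val with hk
  set f := (d.x ^ k)⁻¹ * (ψ xN : Ω)
  have hf : f ∈ E := h2
  have e1 : (ψ (xN ^ p) : Ω) = (d.x ^ k * f) ^ p := by
    rw [map_pow, SubmonoidClass.coe_pow, mul_inv_cancel_left]
  obtain ⟨hE1, hq1⟩ := h1 (xN ^ p) d.xp
  obtain ⟨hE2, hq2⟩ := d.pow_form hp5 hf k
  have hkE : d.x ^ (k * p) ∈ E := by rw [mul_comm, pow_mul]; exact E.pow_mem d.xp k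
  rw [e1, ← inv_mul_cancel_right ((d.x ^ k * f) ^ p) (d.x ^ (k * p)), d.mul _ hE2 _ hkE,
    show d.q _ = 0 from hq2, zero_add, mul_comm k p, pow_mul, d.q_pow d.xp, hk,
    ZMod.natCast_zmod_val, SubmonoidClass.coe_pow] at hq1
  have hw := d.q_xp_fixed
  rw [h.mulVec_one] at hw
  have w0 := congrFun hw 2
  simp at w0
  have a1 := congrFun hq1 1
  have a2 := congrFun hq1 2
  simp [xN, Pi.smul_apply, smul_eq_mul] at a1 a2
  refine ⟨d.xp, funext fun i => ?_⟩
  have hl1 : l ≠ 1 := fun e => hl2 (by rw [e, one_pow])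
  fin_cases i
  · exact w0
  · have h3 : (l ^ 2 - 1) * d.q (d.x ^ p) 1 = 0 := by
      first
        | linear_combination a1
        | linear_combination -a1
    exact (mul_eq_zero.1 h3).resolve_left (sub_ne_zero.2 hl2)
  · have h3 : (l * (l - 1)) * d.q (d.x ^ p) 2 = 0 := by
      rcases a2 with a2 | a2
      · linear_combination d.q (d.x ^ p) 2 * a2
      · rw [a2]; ring
    exact (mul_eq_zero.1 h3).resolve_left (mul_ne_zero hl0 (sub_ne_zero.2 hl1))

variable (hp5 : 5 ≤ p) (h : d.Transvection) (hxD : d.x ^ p ∈ d.D)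
include hp5 h hxD

theorem npow_mem (y : Ω) (hy : y ∈ normalizerIn S E) : y ^ p ∈ d.D := by
  obtain ⟨i, f, hf, rfl⟩ := d.exists_form hy
  have h2 := d.D.mul_mem (d.pow_form hp5 hf i) (show d.x ^ (i * p) ∈ d.D by
    rw [mul_comm, pow_mul]; exact d.D.pow_mem hxD i)
  rwa [inv_mul_cancel_right] at h2

omit hp5 hxD in
theorem comm_mem_line {y w : Ω} (hy : y ∈ normalizerIn S E) (hw : w ∈ normalizerIn S E) :
    ⁅y, w⁆ ∈ d.pre Frame.lineC := by
  obtain ⟨i, e, he, rfl⟩ := d.exists_form hy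
  obtain ⟨j, f, hf, rfl⟩ := d.exists_form hw
  obtain ⟨h1, h2⟩ := d.comm_form he hf i j
  refine ⟨h1, ?_⟩
  rw [h2, h.mulVec, h.mulVec, h.mulVec]
  exact ⟨by simp, by simp⟩

omit hp5 hxD in
theorem line_comm_mem_D {y w : Ω} (hy : y ∈ d.pre Frame.lineC) (hw : w ∈ normalizerIn S E) :
    ⁅y, w⁆ ∈ d.D := by
  obtain ⟨hyE, hy0, hy1⟩ := hy
  obtain ⟨i, f, hf, rfl⟩ := d.exists_form hw
  have h1 := d.comm_form hyE hf 0 i
  rw [pow_zero, one_mul, pow_zero, one_mulVec, zero_add, mulVec_sub] at h1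
  refine ⟨h1.1, ?_⟩
  show d.q _ = 0
  rw [h1.2, h.mulVec i (d.q y), h.mulVec i (d.q f)]
  funext k
  fin_cases k <;> simp [Matrix.vecHead, Matrix.vecTail, hy0, hy1]

omit hp5 hxD in
theorem plane_comm_mem_D {y w : Ω} (hy : y ∈ d.pre Frame.planeC) (hw : w ∈ normalizerIn S E) :
    ⁅y, w⁆ ∈ d.D := by
  obtain ⟨hyE, hy0⟩ := hy
  have hy0' : d.q y 0 = 0 := hy0
  obtain ⟨i, f, hf, rfl⟩ := d.exists_form hw
  have h1 := d.comm_form hyE hf 0 i
  rw [pow_zero, one_mul, pow_zero, one_mulVec, zero_add, mulVec_sub] at h1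
  refine ⟨h1.1, ?_⟩
  show d.q _ = 0
  rw [h1.2, h.mulVec i (d.q y), h.mulVec i (d.q f)]
  funext k
  fin_cases k <;> simp [Matrix.vecHead, Matrix.vecTail, hy0']

omit hp5 hxD in
theorem exists_basis : ∃ v c z : Ω, v ∈ E ∧ c ∈ E ∧ z ∈ E ∧ z = ⁅d.x, v⁆ ∧
    d.q v = ![1, 0, 0] ∧ d.q c = ![0, 1, 0] ∧ d.q z = ![0, 0, 1] := by
  obtain ⟨v, hv, hqv⟩ := d.surj ![1, 0, 0]
  obtain ⟨c, hc, hqc⟩ := d.surj ![0, 1, 0]
  refine ⟨v, c, _, hv, hc, E.mul_mem (conj_mem d.xN hv) (E.inv_mem hv), rfl, hqv, hqc, ?_⟩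
  rw [d.mul _ (conj_mem d.xN hv) _ (E.inv_mem hv), d.conjx v hv,
    d.q_inv hv, hqv, h.mulVec_one]
  funext i
  fin_cases i <;> simp

variable (hS : IsPGroup p S) (hr : SectionalPRankLE p 3 S)
include hS hr

theorem D_eq :
    d.D = powSub p (normalizerIn S E) ⊔
      ⁅⁅normalizerIn S E, normalizerIn S E⁆, normalizerIn S E⁆ := by
  classical
  haveI := finite_of_le d.le
  set N := normalizerIn S E
  have hEN : E ≤ N := le_normalizerIn d.le
  set L := powSub p N ⊔ ⁅⁅N, N⁆, N⁆ with hL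
  have hLD : L ≤ d.D := sup_le ((Subgroup.closure_le _).2 fun _ ⟨y, hy, e⟩ =>
      e ▸ npow_mem hp5 h hxD y hy)
    (Subgroup.commutator_le.2 fun y hy w hw => line_comm_mem_D h
      (Subgroup.commutator_le.2 (fun a ha b hb => comm_mem_line h ha hb) hy) hw)
  refine le_antisymm ?_ hLD
  have hLn : ∀ e ∈ N, L.map (MulAut.conj e).toMonoidHom ≤ L := by
    intro e he
    have hN : N.map (MulAut.conj e).toMonoidHom ≤ N := by
      rintro _ ⟨y, hy, rfl⟩
      exact N.mul_mem (N.mul_mem he hy) (N.inv_mem he)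
    rw [hL, Subgroup.map_sup, powSub_map, Subgroup.map_commutator, Subgroup.map_commutator]
    exact sup_le_sup (powSub_mono hN)
      (Subgroup.commutator_mono (Subgroup.commutator_mono hN hN) hN)
  haveI : (L.subgroupOf E).Normal := ⟨fun n hn g => by
    rw [Subgroup.mem_subgroupOf] at hn ⊢
    exact hLn g (hEN g.2) ⟨n, hn, rfl⟩⟩
  obtain ⟨v, c, z, hv, hc, hz, hzd, hqv, hqc, hqz⟩ := exists_basis h
  let V : E := ⟨v, hv⟩
  let C : E := ⟨c, hc⟩
  let Z : E := ⟨z, hz⟩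
  have hK : kSub p E ≤ L.subgroupOf E := by
    refine sup_le ((Subgroup.closure_le _).2 ?_) (Subgroup.commutator_le.2 ?_)
    · rintro _ ⟨a, rfl⟩
      exact Subgroup.mem_subgroupOf.2 (Subgroup.mem_sup_left (pow_mem_powSub (hEN a.2)))
    · intro a ha b _
      refine Subgroup.mem_subgroupOf.2 (Subgroup.mem_sup_right
        (Subgroup.commutator_mem_commutator ?_ (hEN b.2)))
      have h1 : (commutator E).map E.subtype ≤ ⁅N, N⁆ := by
        rw [Subgroup.map_subtype_commutator]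
        exact Subgroup.commutator_mono hEN hEN
      exact h1 ⟨a, ha, rfl⟩
  have hpair : ∀ a b : E, pair (p := p) a b = 1 → ⁅a, b⁆ ∈ L.subgroupOf E := fun a b hab =>
    hK ((QuotientGroup.eq_one_iff _).1 hab)
  have hcz : pair (p := p) C Z = 1 := by
    have h1 := d.pair_conjx hS hr V C (V * Z) C (by
      rw [h.mulVec_one]; show d.q (v * z) = _
      rw [d.mul v hv z hz]; funext i; fin_cases i <;> simp [V, hqv, hqz]) (by
      rw [h.mulVec_one]; funext i; fin_cases i <;> simp [C, hqc])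
    rw [pair_mul_left, mul_eq_left] at h1
    rw [pair_swap, h1, inv_one]
  have hcv : pair (p := p) C V = 1 := by
    obtain ⟨a, ha, w, hw, hwp, hwm⟩ := h.opp
    obtain ⟨α, -, hαp, hα⟩ := d.act w hw
    obtain ⟨j, hj⟩ := hαp hwp
    have h1 := d.pair_fixed hS hr hj C Z
    have hC : d.q (α C : Ω) = d.q (C : Ω) := by
      rw [hα, hwm]; funext i; fin_cases i <;> simp [C, hqc, Matrix.mulVec, dotProduct, Fin.sum_univ_three]
    have hZ : d.q (α Z : Ω) = d.q ((Z * V ^ a.val : E) : Ω) := by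
      show _ = d.q (z * v ^ a.val)
      rw [hα, hwm, d.mul z hz _ (E.pow_mem hv _), d.q_pow hv]
      funext i
      fin_cases i <;> simp [Z, hqz, hqv, Matrix.mulVec, dotProduct, Fin.sum_univ_three]
    rw [d.pair_congr₂ hS hC hZ, pair_mul_right, mul_eq_left, pair_swap, pair_pow_left, ← inv_pow,
      ← pair_swap] at h1
    by_contra hne
    have hord : orderOf (pair (p := p) C V) = p := orderOf_eq_prime (by
      rw [pair, ← map_pow]
      exact (QuotientGroup.eq_one_iff _).2 (pow_mem_kSub _)) hne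
    have hd := orderOf_dvd_of_pow_eq_one h1
    rw [hord, ← ZMod.natCast_eq_zero_iff, ZMod.natCast_zmod_val] at hd
    exact ha hd
  have hvz : ⁅V, Z⁆ ∈ L.subgroupOf E := by
    refine Subgroup.mem_subgroupOf.2 ?_
    show ⁅v, z⁆ ∈ L
    rw [← inv_mem_iff (H := L), commutatorElement_inv, hzd]
    exact Subgroup.mem_sup_right (Subgroup.commutator_mem_commutator
      (Subgroup.commutator_mem_commutator d.xN (hEN hv)) (hEN hv))
  let π := QuotientGroup.mk' (L.subgroupOf E)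
  have hcomm : ∀ a b : E, ⁅a, b⁆ ∈ L.subgroupOf E → π a * π b = π b * π a := fun a b hab => by
    rw [← commutatorElement_eq_one_iff_mul_comm, ← map_commutatorElement]
    exact (QuotientGroup.eq_one_iff _).2 hab
  have htop : Subgroup.closure ({V, C, Z} : Set E) = ⊤ := by
    refine frattini_nongenerating (eq_top_iff.2 fun y _ => ?_)
    obtain ⟨t, ht, hy⟩ := Frame.exists_decomp hv hc hz hqv hqc hqz y.2
    rw [show y = V ^ (d.q y 0).val * C ^ (d.q y 1).val * Z ^ (d.q y 2).val * ⟨t, ht.1⟩ from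
      Subtype.ext hy]
    exact mul_mem (mul_mem (mul_mem
      (pow_mem (Subgroup.mem_sup_left (Subgroup.subset_closure (by simp))) _)
      (pow_mem (Subgroup.mem_sup_left (Subgroup.subset_closure (by simp))) _))
      (pow_mem (Subgroup.mem_sup_left (Subgroup.subset_closure (by simp))) _))
      (Subgroup.mem_sup_right ((d.ker t ht.1).1 ht.2))
  have hab : IsMulCommutative (Subgroup.closure (π '' ({V, C, Z} : Set E))) :=
    Subgroup.isMulCommutative_closure (by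
      rintro _ ⟨a, ha, rfl⟩ _ ⟨b, hb, rfl⟩
      rcases ha with rfl | rfl | rfl <;> rcases hb with rfl | rfl | rfl
      all_goals first
        | rfl
        | exact hcomm _ _ hvz
        | exact (hcomm _ _ hvz).symm
        | exact hcomm _ _ (hpair _ _ hcz)
        | exact (hcomm _ _ (hpair _ _ hcz)).symm
        | exact hcomm _ _ (hpair _ _ hcv)
        | exact (hcomm _ _ (hpair _ _ hcv)).symm)
  rw [← MonoidHom.map_closure, htop] at hab
  have hfr : frattini E ≤ L.subgroupOf E := by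
    refine Solvable.frattini_le_of_elementary (p := p) ?_ fun y =>
      Subgroup.mem_subgroupOf.2 (Subgroup.mem_sup_left (pow_mem_powSub (hEN y.2)))
    rw [commutator_def, Subgroup.commutator_le]
    intro a _ b _
    refine (QuotientGroup.eq_one_iff _).1 ?_
    show π ⁅a, b⁆ = 1
    rw [map_commutatorElement, commutatorElement_eq_one_iff_mul_comm]
    exact congrArg Subtype.val (hab.is_comm.comm
      ⟨π a, Subgroup.mem_map_of_mem π (Subgroup.mem_top a)⟩
      ⟨π b, Subgroup.mem_map_of_mem π (Subgroup.mem_top b)⟩)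
  rw [d.D_eq]
  rintro _ ⟨y, hy, rfl⟩
  exact hfr hy

theorem line_eq : d.pre Frame.lineC = ⁅normalizerIn S E, normalizerIn S E⁆ ⊔ d.D := by
  have hEN : E ≤ normalizerIn S E := le_normalizerIn d.le
  refine le_antisymm (fun y hy => ?_) (sup_le
    (Subgroup.commutator_le.2 fun a ha b hb => comm_mem_line h ha hb) (d.D_le_pre _))
  obtain ⟨v, c, z, hv, hc, hz, hzd, hqv, hqc, hqz⟩ := exists_basis h
  obtain ⟨hyE, hy0, hy1⟩ := hy
  obtain ⟨t, ht, he⟩ := Frame.exists_decomp hv hc hz hqv hqc hqz hyE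
  rw [he, hy0, hy1, ZMod.val_zero, pow_zero, one_mul, pow_zero, one_mul]
  refine mul_mem (pow_mem (Subgroup.mem_sup_left ?_) _) (Subgroup.mem_sup_right ht)
  rw [hzd]
  exact Subgroup.commutator_mem_commutator d.xN (hEN hv)

omit hp5 hxD hS hr in
theorem mem_plane {y : Ω} (hy : y ∈ normalizerIn S E)
    (hc : ∀ w ∈ normalizerIn S E, ⁅y, w⁆ ∈ d.D) : y ∈ d.pre Frame.planeC := by
  obtain ⟨v, c, z, hv, -, -, -, hqv, -, -⟩ := exists_basis h
  have hEN : E ≤ normalizerIn S E := le_normalizerIn d.le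
  obtain ⟨i, e, he, rfl⟩ := d.exists_form hy
  have h1 := d.comm_form he hv i 0
  rw [pow_zero, one_mul] at h1
  have h2 := congrFun (show d.q _ = (0 : V3 p) from (hc v (hEN hv)).2) 2
  rw [h1.2, h.mulVec, h.mulVec, h.mulVec, hqv] at h2
  simp at h2
  have hi : p ∣ i := (ZMod.natCast_eq_zero_iff i p).1 (by linear_combination h2)
  have hiE : d.x ^ i ∈ E := by
    obtain ⟨k, rfl⟩ := hi
    rw [pow_mul]
    exact E.pow_mem d.xp k
  have hyE : d.x ^ i * e ∈ E := E.mul_mem hiE he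
  refine ⟨hyE, ?_⟩
  have h3 := hc d.x d.xN
  have e0 : ⁅d.x ^ i * e, d.x⁆ =
      d.x ^ i * e * (d.x * (d.x ^ i * e)⁻¹ * d.x⁻¹) := by
    rw [commutatorElement_def]; group
  have h4 := congrFun (show d.q _ = (0 : V3 p) from h3.2) 2
  rw [e0, d.mul _ hyE _ (conj_mem d.xN (E.inv_mem hyE)), d.conjx _ (E.inv_mem hyE),
    d.q_inv hyE, h.mulVec_one] at h4
  simp at h4
  show d.q _ 0 = 0
  first | linear_combination h4 | linear_combination -h4

end Frame.Transvection

end CfsgLib.FusionRankThree
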