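import Cfsg.Agent.FusionRankThree.CaseTNorm

/-!
# The transvection case: contradiction
-/

set_option autoImplicit false
set_option linter.style.haveILetI false

namespace CfsgLib.FusionRankThree

open Cfsg Cfsg.FusionSystem CfsgLib.Fusion Matrix
open scoped commutatorElement

variable {p : ℕ} [hp : Fact p.Prime] {Ω : Type*} [Group Ω] {S : Subgroup Ω}
  {F : FusionSystem S} {E : Subgroup Ω}

section Powers

variable {Q : Type*} [Group Q] {y : Q}

/-- Powers with exponents modulo `p`. -/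
def zp (y : Q) (r : ZMod p) : Q := y ^ r.val

theorem zp_natCast (hy : y ^ p = 1) (n : ℕ) : zp y (n : ZMod p) = y ^ n :=
  FusionRankTwo.pow_congr hy (by rw [ZMod.natCast_zmod_val])

theorem zp_add (hy : y ^ p = 1) (r s : ZMod p) : zp y (r + s) = zp y r * zp y s := by
  rw [zp, zp, zp, ← pow_add]
  exact FusionRankTwo.pow_congr hy (by
    rw [Nat.cast_add, ZMod.natCast_zmod_val, ZMod.natCast_zmod_val, ZMod.natCast_zmod_val])

theorem zp_pow (hy : y ^ p = 1) (r : ZMod p) (n : ℕ) : zp y r ^ n = zp y ((n : ZMod p) * r) := by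
  rw [zp, zp, ← pow_mul]
  exact FusionRankTwo.pow_congr hy (by
    rw [Nat.cast_mul, ZMod.natCast_zmod_val, ZMod.natCast_zmod_val, mul_comm])

theorem zp_zero : zp y (0 : ZMod p) = 1 := by rw [zp, ZMod.val_zero, pow_zero]

theorem commute_zp {w : Q} (h : Commute w y) (r : ZMod p) : Commute w (zp y r) := h.pow_right _

end Powers

variable {d : Frame F p E} [Finite S]

namespace Frame

/-- In the transvection case no element of `S` outside `N_S(E)` normalizes `N_S(E)`. -/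
theorem TData.mem_normalizer (h : d.TData) (hS : IsPGroup p S) (hF : F.IsSaturated p)
    (hE : F.IsEssential p E) (hr : SectionalPRankLE p 3 S)
    (hNf : F.IsFullyNormalized (normalizerIn S E))
    (hF3 : ∀ φ ∈ F.autGroup (normalizerIn S E), (∃ k : ℕ, φ ^ p ^ k = 1) →
      (∀ y : normalizerIn S E, (y : Ω) ∈ E → (φ y : Ω) ∈ E) → φ ∈ Inn (normalizerIn S E))
    {g : Ω} (hg : g ∈ normalizerIn S (normalizerIn S E)) : g ∈ normalizerIn S E := by
  classical
  by_contra hgE
  haveI := finite_of_le d.le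
  haveI := finite_of_le (normalizerIn_le S E)
  haveI := finite_of_le (normalizerIn_le S (normalizerIn S E))
  have hNS := normalizerIn_le S E
  have hNN2 : normalizerIn S E ≤ normalizerIn S (normalizerIn S E) := le_normalizerIn hNS
  have hEN : E ≤ normalizerIn S E := le_normalizerIn d.le
  -- conjugation
  let cN : normalizerIn S (normalizerIn S E) →* MulAut (normalizerIn S E) :=
    (normalizerIn S E).normalizerMonoidHom.comp (Subgroup.inclusion inf_le_right)
  have hcN : ∀ (γ : normalizerIn S (normalizerIn S E)) (y : normalizerIn S E),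
      (cN γ y : Ω) = γ * y * (γ : Ω)⁻¹ := fun γ y => rfl
  have hcp : ∀ γ, ∃ k : ℕ, cN γ ^ p ^ k = 1 := fun γ => conjAut_pow γ.2 hS
  have hin : ∀ γ : normalizerIn S (normalizerIn S E), d.actM (cN γ) = 1 →
      (γ : Ω) ∈ normalizerIn S E := by
    intro γ hγ
    by_contra hγE
    obtain ⟨a, b, hb, hm⟩ := h.exists_nilpotent hS γ.2 hγE (u := cN γ) rfl
    rw [hγ] at hm
    have := congrFun (congrFun hm 0) 1
    simp at this
    exact hb this.symm
  -- the torus and its extension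
  obtain ⟨l, hl0, hl2, hl3, hl5⟩ := exists_scalar (p := p) h.hp5
  obtain ⟨ψ, hψ, hψE, hψx⟩ := h.tv.exists_torus_ext hS hF hE hl0
  set k : ZMod p := l * l with hk
  have hψnorm := h.conj_autInducedBy hS hF3 hψ
  obtain ⟨-, hrec⟩ := automized_receptive hS hF hNf
  obtain ⟨Ψ, hΨ, hΨv⟩ := FusionSub.exists_extension_normalizerIn (p := p) hrec hψ hψnorm
  have hΨN : ∀ γ, Ψ γ ∈ normalizerIn S (normalizerIn S E) := by
    intro γ
    refine ⟨apply_mem hΨ γ, ?_⟩
    have himg : ∀ z ∈ normalizerIn S E, Ψ γ * z * (Ψ γ)⁻¹ ∈ normalizerIn S E := by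
      intro z hz
      obtain ⟨w, hw⟩ := ψ.surjective ⟨z, hz⟩
      have hz' : Ψ ⟨w, hNN2 w.2⟩ = z := by rw [hΨv w (hNN2 w.2), hw]
      rw [← hz', ← map_inv, ← map_mul, ← map_mul,
        show γ * ⟨(w : Ω), hNN2 w.2⟩ * γ⁻¹ = (⟨_, hNN2 (cN γ w).2⟩ :
          normalizerIn S (normalizerIn S E)) from Subtype.ext rfl, hΨv (cN γ w) (hNN2 (cN γ w).2)]
      exact (ψ _).2
    have heq : (normalizerIn S E).map (MulAut.conj (Ψ γ)).toMonoidHom = normalizerIn S E :=
      Subgroup.eq_of_le_of_card_ge (by rintro _ ⟨z, hz, rfl⟩; exact himg z hz)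
        (Subgroup.card_map_of_injective (MulAut.conj (Ψ γ)).injective).ge
    refine Subgroup.mem_normalizer_iff.2 fun z => ⟨himg z, fun hz => ?_⟩
    obtain ⟨w, hw, hwz⟩ := (SetLike.ext_iff.1 heq _).2 hz
    exact (MulAut.conj (Ψ γ)).injective hwz ▸ hw
  let T₀ : normalizerIn S (normalizerIn S E) →* normalizerIn S (normalizerIn S E) :=
    Ψ.codRestrict _ hΨN
  have hT₀ : ∀ y : normalizerIn S E,
      T₀ (Subgroup.inclusion hNN2 y) = Subgroup.inclusion hNN2 (ψ y) :=
    fun y => Subtype.ext (hΨv y (hNN2 y.2))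
  have hcT : ∀ γ, cN (T₀ γ) = ψ * cN γ * ψ⁻¹ := by
    intro γ
    refine MulEquiv.ext fun y => ?_
    obtain ⟨w, rfl⟩ := ψ.surjective y
    rw [MulAut.mul_apply, MulAut.mul_apply, MulAut.inv_apply_self]
    refine Subtype.ext ?_
    have h1 : ((T₀ (γ * Subgroup.inclusion hNN2 w * γ⁻¹) :
        normalizerIn S (normalizerIn S E)) : Ω) = (ψ (cN γ w) : Ω) := by
      rw [show γ * Subgroup.inclusion hNN2 w * γ⁻¹ = Subgroup.inclusion hNN2 (cN γ w) from
        Subtype.ext rfl, hT₀]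
      rfl
    rw [map_mul, map_mul, map_inv, hT₀] at h1
    exact h1
  -- normalisation of the chosen element
  obtain ⟨a₀, b₀, hb₀, hm₀⟩ := h.exists_nilpotent hS hg hgE (u := cN ⟨g, hg⟩) rfl
  set g₁ : normalizerIn S (normalizerIn S E) := ⟨g, hg⟩ ^ (b₀⁻¹).val with hg₁
  set a := a₀ / b₀ with ha
  have hlin : ∀ n : ℕ, d.actM (cN ⟨g, hg⟩ ^ n) =
      !![1 + n * a₀, n * b₀; n * (-(a₀ * a₀) / b₀), 1 - n * a₀] := by
    intro n
    induction n with
    | zero => simp [h.actM_one, Matrix.one_fin_two]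
    | succ n ih =>
      rw [pow_succ, h.actM_mul, ih, hm₀]
      ext i j
      fin_cases i <;> fin_cases j <;> simp [Matrix.mul_apply, Fin.sum_univ_two] <;> field_simp <;>
        ring
  have hA1 : d.actM (cN g₁) = !![1 + a, 1; -(a * a), 1 - a] := by
    rw [hg₁, map_pow, hlin, ZMod.natCast_zmod_val]
    ext i j
    fin_cases i <;> fin_cases j <;> simp [ha] <;> field_simp
  -- the fixed line
  set x₁ : normalizerIn S E := cN g₁ d.vRep * d.vRep⁻¹ with hx₁
  have hx₁χ : d.chi x₁ = ![1, -a] := by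
    have h1 := h.chi_mul x₁ d.vRep
    rw [hx₁, inv_mul_cancel_right, ← hx₁, h.chi_apply, hA1, h.chi_vRep] at h1
    funext i
    have h2 := congrFun h1 i
    fin_cases i <;> simp [Matrix.mulVec, dotProduct, Fin.sum_univ_two] at h2 ⊢
    · linear_combination -h2
    · linear_combination -h2
  obtain ⟨i₁, e₁, he₁, hx₁e⟩ := d.exists_form x₁.2
  have hi₁ : (i₁ : ZMod p) = 1 := by
    rw [h.chi_eq he₁ hx₁e] at hx₁χ
    exact congrFun hx₁χ 0
  have hqx₁ : ∀ y ∈ E, d.q ((x₁ : Ω) * y * (x₁ : Ω)⁻¹) = ![d.q y 0, d.q y 1, d.q y 0 + d.q y 2] := by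
    intro y hy
    rw [hx₁e, d.q_conj_form hy he₁, h.tv.mulVec, hi₁, one_mul]
  -- the action of the torus
  have hψv : d.chi (ψ d.vRep) = ![0, l⁻¹] := by
    obtain ⟨h1, h2⟩ := hψE d.vRep d.vRep_spec.1
    rw [h.chi_of_mem h1, h2, d.vRep_spec.2]
    simp
  obtain ⟨s, hψxχ⟩ : ∃ s, d.chi (ψ d.xRep) = ![k, s] := by
    refine ⟨d.q ((d.x ^ (l * l).val)⁻¹ * (ψ d.xRep : Ω)) 0,
      (h.chi_eq hψx (i := (l * l).val) (y := ψ d.xRep) (mul_inv_cancel_left _ _).symm).trans ?_⟩
    rw [ZMod.natCast_zmod_val]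
    rfl
  have hAψ : d.actM ψ = !![k, 0; s, l⁻¹] := by
    ext i j
    fin_cases j
    · show d.chi (ψ d.xRep) i = _
      rw [hψxχ]; fin_cases i <;> rfl
    · show d.chi (ψ d.vRep) i = _
      rw [hψv]; fin_cases i <;> rfl
  obtain ⟨r, hr'⟩ := h.conj_actM hS hF3 g₁.2 (u := cN g₁) rfl (a := a) (b := 1) one_ne_zero
    (by rw [hA1, div_one]) hψ
  have hrel : d.actM ψ * (d.actM (cN g₁) - 1) = (r • (d.actM (cN g₁) - 1)) * d.actM ψ := by
    have h1 : d.actM (ψ * cN g₁ * ψ⁻¹) * d.actM ψ = d.actM ψ * d.actM (cN g₁) := by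
      rw [← h.actM_mul, inv_mul_cancel_right, h.actM_mul]
    rw [hr', add_mul, one_mul] at h1
    rw [mul_sub, mul_one, ← h1, add_sub_cancel_left]
  rw [hAψ, hA1] at hrel
  have r01 := congrFun (congrFun hrel 0) 1
  have r11 := congrFun (congrFun hrel 1) 1
  simp [Matrix.mul_apply, Fin.sum_univ_two] at r01 r11
  have hr3 : r = k * l := by
    rw [r01, mul_assoc, inv_mul_cancel₀ hl0, mul_one]
  set K := r.val with hKdef
  have hK : (K : ZMod p) = l ^ 3 := by rw [hKdef, ZMod.natCast_zmod_val, hr3, hk]; ring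
  have hψx₁ : d.chi (ψ x₁) = k • d.chi x₁ := by
    rw [h.chi_apply, hAψ, hx₁χ]
    funext i
    fin_cases i <;> simp [Matrix.mulVec, dotProduct, Fin.sum_univ_two]
    subst hr3
    field_simp at r11 ⊢
    linear_combination r11
  have hshift : ∀ γ : normalizerIn S (normalizerIn S E), d.actM (cN γ) = d.actM (cN g₁) →
      (((γ ^ K)⁻¹ * T₀ γ : normalizerIn S (normalizerIn S E)) : Ω) ∈ normalizerIn S E := by
    intro γ hγ
    refine hin _ ?_
    have hpow : ∀ n : ℕ, d.actM (cN γ ^ n) = 1 + (n : ZMod p) • (d.actM (cN g₁) - 1) := by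
      intro n
      induction n with
      | zero => simp [h.actM_one]
      | succ n ih =>
        rw [pow_succ, h.actM_mul, ih, hγ, hA1]
        ext i j
        fin_cases i <;> fin_cases j <;> simp [Matrix.mul_apply, Fin.sum_univ_two] <;> ring
    have h1 : d.actM (cN γ ^ K) = d.actM (ψ * cN γ * ψ⁻¹) := by
      rw [hpow, h.actM_mul, h.actM_mul, hγ, ← h.actM_mul, ← h.actM_mul, hr', hKdef,
        ZMod.natCast_zmod_val]
    rw [map_mul, map_inv, map_pow, hcT, h.actM_mul, ← h1, ← h.actM_mul, inv_mul_cancel,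
      h.actM_one]
  -- the quotient by `Φ(E)`
  have hDle : d.D ≤ normalizerIn S (normalizerIn S E) := (d.pre_le _).trans (hEN.trans hNN2)
  haveI hDn : (d.D.subgroupOf (normalizerIn S (normalizerIn S E))).Normal := ⟨fun n hn γ => by
    rw [Subgroup.mem_subgroupOf] at hn ⊢
    exact h.apply_mem_D (cN γ) ⟨n, hEN hn.1⟩ hn⟩
  let π := QuotientGroup.mk' (d.D.subgroupOf (normalizerIn S (normalizerIn S E)))
  let πN : normalizerIn S E →*
      normalizerIn S (normalizerIn S E) ⧸ d.D.subgroupOf (normalizerIn S (normalizerIn S E)) :=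
    π.comp (Subgroup.inclusion hNN2)
  let T := QuotientGroup.map (d.D.subgroupOf (normalizerIn S (normalizerIn S E)))
    (d.D.subgroupOf (normalizerIn S (normalizerIn S E))) T₀ (by
      intro y hy
      rw [Subgroup.mem_subgroupOf] at hy
      rw [Subgroup.mem_comap, Subgroup.mem_subgroupOf]
      have h1 := h.apply_mem_D ψ ⟨y, hEN hy.1⟩ hy
      have h2 := hΨv ⟨y, hEN hy.1⟩ y.2
      show Ψ y ∈ d.D
      rw [show Ψ y = _ from h2]
      exact h1)
  have hTπ : ∀ γ, T (π γ) = π (T₀ γ) := fun γ => rfl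
  have hTN : ∀ y, T (πN y) = πN (ψ y) := fun y => (hTπ _).trans (congrArg π (hT₀ y))
  have hker : ∀ y : normalizerIn S E, πN y = 1 ↔ (y : Ω) ∈ d.D := fun y =>
    (QuotientGroup.eq_one_iff _).trans Subgroup.mem_subgroupOf
  have heqE : ∀ y w : normalizerIn S E, (y : Ω) ∈ E → (w : Ω) ∈ E →
      d.q (y : Ω) = d.q (w : Ω) → πN y = πN w := by
    intro y w hy hw hq
    rw [← inv_mul_eq_one, ← map_inv, ← map_mul, hker]
    refine ⟨E.mul_mem (E.inv_mem hy) hw, ?_⟩
    show d.q _ = 0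
    rw [Subgroup.coe_mul, Subgroup.coe_inv, d.mul _ (E.inv_mem hy) _ hw, d.q_inv hy, hq,
      neg_add_cancel]
  set X := πN x₁
  set V := πN d.vRep
  set C := πN d.cRep
  set Z := πN d.zRep
  have hXp : X ^ p = 1 := by
    rw [← map_pow, hker]; exact Transvection.npow_mem h.hp5 h.tv h.xpD _ x₁.2
  have hord : ∀ y : normalizerIn S E, (y : Ω) ∈ E → πN y ^ p = 1 := fun y hy => by
    rw [← map_pow, hker]; exact d.pow_mem_D hy
  have hVp := hord _ d.vRep_spec.1
  have hCp := hord _ d.cRep_spec.1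
  have hZp := hord _ d.zRep_spec.1
  have hqC : ∀ r : ZMod p, d.q ((d.cRep : Ω) ^ r.val) = ![0, r, 0] := fun r => by
    rw [d.q_pow d.cRep_spec.1, d.cRep_spec.2, ZMod.natCast_zmod_val]
    funext i; fin_cases i <;> simp
  have hqZ : ∀ r : ZMod p, d.q ((d.zRep : Ω) ^ r.val) = ![0, 0, r] := fun r => by
    rw [d.q_pow d.zRep_spec.1, d.zRep_spec.2, ZMod.natCast_zmod_val]
    funext i; fin_cases i <;> simp
  have hplane : ∀ y : normalizerIn S E, (y : Ω) ∈ d.pre Frame.planeC →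
      πN y = zp C (d.q y 1) * zp Z (d.q y 2) := by
    intro y hy
    show _ = πN d.cRep ^ _ * πN d.zRep ^ _
    rw [← map_pow, ← map_pow, ← map_mul]
    have hcE := E.pow_mem d.cRep_spec.1 (d.q y 1).val
    have hzE := E.pow_mem d.zRep_spec.1 (d.q y 2).val
    refine heqE _ _ hy.1 (E.mul_mem hcE hzE) ?_
    rw [Subgroup.coe_mul, SubmonoidClass.coe_pow, SubmonoidClass.coe_pow, d.mul _ hcE _ hzE,
      hqC, hqZ]
    have h0 : d.q y 0 = 0 := hy.2
    funext i; fin_cases i <;> simp [h0]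
  have hCZ0 : ∀ r s : ZMod p, zp C r * zp Z s = 1 → r = 0 ∧ s = 0 := by
    intro r s hrs
    rw [show zp C r * zp Z s = πN (d.cRep ^ r.val * d.zRep ^ s.val) by
      rw [map_mul, map_pow, map_pow]; rfl, hker] at hrs
    have h1 := hrs.2
    rw [Subgroup.coe_mul, SubmonoidClass.coe_pow, SubmonoidClass.coe_pow,
      d.mul _ (E.pow_mem d.cRep_spec.1 _) _ (E.pow_mem d.zRep_spec.1 _), hqC, hqZ] at h1
    exact ⟨by simpa using congrFun (show _ = (0 : V3 p) from h1) 1,
      by simpa using congrFun (show _ = (0 : V3 p) from h1) 2⟩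
  -- `N / Φ(E)`
  have hXV : X * V * X⁻¹ = Z * V := by
    rw [← map_inv, ← map_mul, ← map_mul, ← map_mul]
    have hv := d.vRep_spec.1
    have hz := d.zRep_spec.1
    refine heqE _ _ (conj_mem x₁.2 hv) (E.mul_mem hz hv) ?_
    show d.q ((x₁ : Ω) * (d.vRep : Ω) * (x₁ : Ω)⁻¹) = d.q ((d.zRep : Ω) * (d.vRep : Ω))
    rw [hqx₁ _ hv, d.mul _ hz _ hv, d.vRep_spec.2, d.zRep_spec.2]
    funext i; fin_cases i <;> simp
  have hconjC : ∀ n : normalizerIn S E, Commute (πN n) C := fun n => by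
    refine commutatorElement_eq_one_iff_commute.1 ?_
    rw [← map_commutatorElement, hker, ← inv_mem_iff (H := d.D)]
    show (⁅(n : Ω), (d.cRep : Ω)⁆)⁻¹ ∈ d.D
    rw [commutatorElement_inv]
    exact h.tv.plane_comm_mem_D d.cRep_mem n.2
  have hconjZ : ∀ n : normalizerIn S E, Commute (πN n) Z := fun n => by
    refine commutatorElement_eq_one_iff_commute.1 ?_
    rw [← map_commutatorElement, hker, ← inv_mem_iff (H := d.D)]
    show (⁅(n : Ω), (d.zRep : Ω)⁆)⁻¹ ∈ d.D
    rw [commutatorElement_inv]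
    exact h.tv.line_comm_mem_D d.zRep_mem n.2
  have hconjX : ∀ n : normalizerIn S E, ∃ σ : ZMod p, πN n * X * (πN n)⁻¹ = zp Z σ * X := by
    intro n
    have hl := h.tv.comm_mem_line n.2 x₁.2
    have h1 := hplane ⁅n, x₁⁆ ⟨hl.1, hl.2.1⟩
    rw [show d.q ((⁅n, x₁⁆ : normalizerIn S E) : Ω) 1 = 0 from hl.2.2, zp_zero, one_mul,
      map_commutatorElement, commutatorElement_def, mul_inv_eq_iff_eq_mul] at h1
    exact ⟨_, h1⟩
  have hform : ∀ n : normalizerIn S E,
      ∃ i j c f : ZMod p, πN n = zp X i * zp V j * (zp C c * zp Z f) := by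
    intro n
    obtain ⟨i, hi⟩ : ∃ i, d.chi n 0 = i := ⟨_, rfl⟩
    obtain ⟨j, hj⟩ : ∃ j, d.chi n 1 - i * (-a) = j := ⟨_, rfl⟩
    set w := (x₁ ^ i.val * d.vRep ^ j.val)⁻¹ * n with hw
    have h1 : d.chi w = 0 := by
      have h2 := h.chi_mul (x₁ ^ i.val * d.vRep ^ j.val) w
      rw [hw, mul_inv_cancel_left, ← hw, h.chi_mul, h.chi_pow, h.chi_pow, h.chi_vRep, hx₁χ,
        ZMod.natCast_zmod_val, ZMod.natCast_zmod_val] at h2
      funext t
      have h3 := congrFun h2 t
      fin_cases t <;> simp at h3 ⊢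
      · linear_combination hi - h3
      · linear_combination hj - h3
    refine ⟨i, j, d.q w 1, d.q w 2, ?_⟩
    rw [← hplane w (h.chi_zero_iff.1 h1)]
    show _ = πN x₁ ^ _ * πN d.vRep ^ _ * πN w
    rw [← map_pow, ← map_pow, ← map_mul, ← map_mul, hw, mul_inv_cancel_left]
  have hXVpow : ∀ (i : ℕ) (j : ZMod p),
      X ^ i * zp V j * (X ^ i)⁻¹ = zp Z ((i : ZMod p) * j) * zp V j := by
    intro i j
    have hXZ : ∀ t : ZMod p, Commute X (zp Z t) := fun t => (hconjZ x₁).pow_right _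
    have h1 : X * zp V j * X⁻¹ = zp Z j * zp V j := by
      rw [zp, ← conj_pow, hXV, ((hconjZ d.vRep).symm).mul_pow]
      rfl
    induction i with
    | zero => simp [zp_zero]
    | succ i ih =>
      calc X ^ (i + 1) * zp V j * (X ^ (i + 1))⁻¹
          = X * (X ^ i * zp V j * (X ^ i)⁻¹) * X⁻¹ := by rw [pow_succ']; group
        _ = (X * zp Z ((i : ZMod p) * j) * X⁻¹) * (X * zp V j * X⁻¹) := by rw [ih]; group
        _ = zp Z ((i : ZMod p) * j) * (zp Z j * zp V j) := by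
          rw [(hXZ _).eq, mul_inv_cancel_right, h1]
        _ = _ := by
          rw [← mul_assoc, ← zp_add hZp, Nat.cast_succ, add_mul, one_mul]
  -- `T` on generators
  have hTC : T C = C := by
    rw [hTN]
    obtain ⟨h1, h2⟩ := hψE d.cRep d.cRep_spec.1
    refine heqE _ _ h1 d.cRep_spec.1 ?_
    rw [h2, d.cRep_spec.2]
    funext i; fin_cases i <;> simp
  have hTZ : T Z = zp Z l := by
    rw [hTN]
    show _ = πN d.zRep ^ _
    rw [← map_pow]
    obtain ⟨h1, h2⟩ := hψE d.zRep d.zRep_spec.1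
    refine heqE _ _ h1 (E.pow_mem d.zRep_spec.1 _) ?_
    rw [h2, SubmonoidClass.coe_pow, hqZ, d.zRep_spec.2]
    funext i; fin_cases i <;> simp
  obtain ⟨t₁, t₂, hTX⟩ : ∃ t₁ t₂, T X = X ^ k.val * (zp C t₁ * zp Z t₂) := by
    set w := (x₁ ^ k.val)⁻¹ * ψ x₁ with hw
    have h1 : d.chi w = 0 := by
      have h2 := h.chi_mul (x₁ ^ k.val) w
      rw [hw, mul_inv_cancel_left, ← hw, h.chi_pow, ZMod.natCast_zmod_val, hψx₁,
        left_eq_add] at h2
      exact h2
    refine ⟨d.q w 1, d.q w 2, ?_⟩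
    rw [hTN, ← hplane w (h.chi_zero_iff.1 h1), ← map_pow, ← map_mul, hw, mul_inv_cancel_left]
  have hTzpC : ∀ t : ZMod p, T (zp C t) = zp C t := fun t => by rw [zp, map_pow, hTC]
  have hTzpZ : ∀ t : ZMod p, T (zp Z t) = zp Z (t * l) := fun t => by
    rw [zp, map_pow, hTZ, zp_pow hZp, ZMod.natCast_zmod_val]
  -- `G = π g₁`
  set G := π g₁ with hG
  have hGconj : ∀ y, G * πN y * G⁻¹ = πN (cN g₁ y) := fun y => by
    show π g₁ * π _ * (π g₁)⁻¹ = π _
    rw [← map_inv, ← map_mul, ← map_mul]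
    rfl
  obtain ⟨kg, hkg⟩ := hcp g₁
  have hGZ : Commute G Z := by
    have hl := h.apply_mem_line (cN g₁) d.zRep d.zRep_mem
    have h1 : G * Z * G⁻¹ = Z := by
      rw [hGconj]
      refine heqE _ _ hl.1 d.zRep_spec.1 ?_
      rw [d.zRep_spec.2]
      funext i
      fin_cases i
      · exact hl.2.1
      · exact hl.2.2
      · exact h.sZ_pElement hkg
    exact mul_inv_eq_iff_eq_mul.1 h1
  obtain ⟨rC, hGC⟩ : ∃ rC, G * C * G⁻¹ = C * zp Z rC := by
    have hl := h.apply_mem_plane (cN g₁) d.cRep d.cRep_mem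
    refine ⟨d.q (cN g₁ d.cRep : Ω) 2, ?_⟩
    rw [hGconj, hplane _ hl, show d.q (cN g₁ d.cRep : Ω) 1 = 1 from h.sC_pElement hkg,
      zp, ZMod.val_one, pow_one]
  obtain ⟨n₀, hn₀⟩ : ∃ n₀ : normalizerIn S E, T G = G ^ K * πN n₀ := by
    refine ⟨⟨_, hshift g₁ rfl⟩, ?_⟩
    show π (T₀ g₁) = π g₁ ^ K * π _
    rw [← map_pow, ← map_mul]
    exact congrArg π (Subtype.ext (by simp))
  have hiter : ∀ n : ℕ, G ^ n * C * (G ^ n)⁻¹ = C * zp Z ((n : ZMod p) * rC) := by
    intro n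
    induction n with
    | zero => simp [zp_zero]
    | succ n ih =>
      calc G ^ (n + 1) * C * (G ^ (n + 1))⁻¹ = G * (G ^ n * C * (G ^ n)⁻¹) * G⁻¹ := by
            rw [pow_succ']; group
        _ = (G * C * G⁻¹) * (G * zp Z ((n : ZMod p) * rC) * G⁻¹) := by rw [ih]; group
        _ = C * zp Z rC * zp Z ((n : ZMod p) * rC) := by
          rw [hGC, (commute_zp hGZ _).eq, mul_inv_cancel_right]
        _ = _ := by rw [mul_assoc, ← zp_add hZp, Nat.cast_succ, add_mul, one_mul, add_comm]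
  have hrC : rC = 0 := by
    have h1 := congrArg T hGC
    rw [map_mul, map_mul, map_inv, map_mul, hTC, hTzpZ, hn₀, _root_.mul_inv_rev] at h1
    rw [show G ^ K * πN n₀ * C * ((πN n₀)⁻¹ * (G ^ K)⁻¹) = G ^ K * C * (G ^ K)⁻¹ by
      rw [mul_assoc (G ^ K) (πN n₀), (hconjC n₀).eq]; group, hiter, hK, mul_right_inj] at h1
    have h3 : zp C (0 : ZMod p) * zp Z (l ^ 3 * rC - rC * l) = 1 := by
      rw [zp_zero, one_mul]
      have h4 := zp_add hZp (l ^ 3 * rC - rC * l) (rC * l)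
      rw [sub_add_cancel, h1, right_eq_mul] at h4
      exact h4
    have h5 : rC * (l * (l ^ 2 - 1)) = 0 := by linear_combination (hCZ0 _ _ h3).2
    exact (mul_eq_zero.1 h5).resolve_right (mul_ne_zero hl0 (sub_ne_zero.2 hl2))
  have hGC' : Commute G C := by
    rw [hrC, zp_zero, mul_one] at hGC
    exact mul_inv_eq_iff_eq_mul.1 hGC
  obtain ⟨δ, ε, hGX⟩ : ∃ δ ε : ZMod p, G * X * G⁻¹ = zp C δ * zp Z ε * X := by
    have h1 : d.chi (cN g₁ x₁ * x₁⁻¹) = 0 := by
      have h2 := h.chi_mul (cN g₁ x₁ * x₁⁻¹) x₁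
      rw [inv_mul_cancel_right, h.chi_apply, hA1, hx₁χ] at h2
      funext t
      have h3 := congrFun h2 t
      fin_cases t <;> simp [Matrix.mulVec, dotProduct, Fin.sum_univ_two] at h3 ⊢
      all_goals first | linear_combination -h3 | linear_combination h3
    refine ⟨d.q ((cN g₁ x₁ * x₁⁻¹ : normalizerIn S E) : Ω) 1,
      d.q ((cN g₁ x₁ * x₁⁻¹ : normalizerIn S E) : Ω) 2, ?_⟩
    rw [hGconj, ← hplane _ (h.chi_zero_iff.1 h1), ← map_mul, inv_mul_cancel_right]
  have hGconjX : ∀ n : ℕ, G ^ n * X * (G ^ n)⁻¹ =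
      zp C ((n : ZMod p) * δ) * zp Z ((n : ZMod p) * ε) * X := by
    intro n
    induction n with
    | zero => simp [zp_zero]
    | succ n ih =>
      calc G ^ (n + 1) * X * (G ^ (n + 1))⁻¹ = G * (G ^ n * X * (G ^ n)⁻¹) * G⁻¹ := by
            rw [pow_succ']; group
        _ = (G * (zp C ((n : ZMod p) * δ) * zp Z ((n : ZMod p) * ε)) * G⁻¹) * (G * X * G⁻¹) := by
          rw [ih]; group
        _ = zp C ((n : ZMod p) * δ) * zp Z ((n : ZMod p) * ε) * (zp C δ * zp Z ε * X) := by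
          rw [((commute_zp hGC' _).mul_right (commute_zp hGZ _)).eq, mul_inv_cancel_right, hGX]
        _ = _ := by
          have hc : Commute (zp Z ((n : ZMod p) * ε)) (zp C δ) :=
            ((hconjZ d.cRep).pow_pow δ.val ((n : ZMod p) * ε).val).symm
          rw [Nat.cast_succ, add_mul, add_mul, one_mul, one_mul, zp_add hCp, zp_add hZp]
          simp only [mul_assoc]
          rw [hc.left_comm]
  have hXC : ∀ t : ZMod p, Commute X (zp C t) := fun t => commute_zp (hconjC x₁) t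
  have hXZ : ∀ t : ZMod p, Commute X (zp Z t) := fun t => commute_zp (hconjZ x₁) t
  have hCZ : ∀ s t : ZMod p, Commute (zp C s) (zp Z t) := fun s t =>
    (hconjZ d.cRep).pow_pow s.val t.val
  have hδ : δ = 0 := by
    have h1 := congrArg T hGX
    rw [map_mul, map_mul, map_inv, map_mul, map_mul, hTzpC, hTzpZ, hTX, hn₀,
      _root_.mul_inv_rev] at h1
    obtain ⟨σ, hσ⟩ := hconjX n₀
    have h2 : πN n₀ * (X ^ k.val * (zp C t₁ * zp Z t₂)) * (πN n₀)⁻¹ =
        (zp Z σ * X) ^ k.val * (zp C t₁ * zp Z t₂) := by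
      rw [← hσ, conj_pow]
      simp only [mul_assoc]
      rw [(commute_zp (hconjC n₀).inv_left t₁).left_comm,
        (commute_zp (hconjZ n₀).inv_left t₂).eq]
    have hGfix : G ^ K * (zp C t₁ * zp Z t₂) * (G ^ K)⁻¹ = zp C t₁ * zp Z t₂ := by
      rw [(((commute_zp hGC' _).mul_right (commute_zp hGZ _)).pow_left K).eq, mul_inv_cancel_right]
    have h3 : G ^ K * πN n₀ * (X ^ k.val * (zp C t₁ * zp Z t₂)) * ((πN n₀)⁻¹ * (G ^ K)⁻¹) =
        (zp C ((K : ZMod p) * δ) * zp Z ((K : ZMod p) * ε + σ) * X) ^ k.val *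
          (zp C t₁ * zp Z t₂) := by
      calc _ = G ^ K * (πN n₀ * (X ^ k.val * (zp C t₁ * zp Z t₂)) * (πN n₀)⁻¹) * (G ^ K)⁻¹ := by
            group
        _ = (G ^ K * (zp Z σ * X) * (G ^ K)⁻¹) ^ k.val *
            (G ^ K * (zp C t₁ * zp Z t₂) * (G ^ K)⁻¹) := by
          rw [h2, conj_pow]; group
        _ = _ := by
          rw [hGfix, show G ^ K * (zp Z σ * X) * (G ^ K)⁻¹ =
            (G ^ K * zp Z σ * (G ^ K)⁻¹) * (G ^ K * X * (G ^ K)⁻¹) by group,
            ((commute_zp hGZ σ).pow_left K).eq, mul_inv_cancel_right, hGconjX, zp_add hZp]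
          congr 2
          simp only [mul_assoc]
          have hzz : Commute (zp Z σ) (zp Z ((K : ZMod p) * ε)) := (Commute.refl Z).pow_pow _ _
          rw [(hCZ ((K : ZMod p) * δ) σ).symm.left_comm, hzz.left_comm]
    rw [h3, ((((hXC _).mul_right (hXZ _)).symm)).mul_pow,
      (hCZ _ _).mul_pow, zp_pow hCp, zp_pow hZp, ZMod.natCast_zmod_val, hK, mul_assoc
        (zp C (k * (l ^ 3 * δ)) * zp Z (k * (l ^ 3 * ε + σ))), mul_left_inj] at h1
    have h4 : zp C (k * (l ^ 3 * δ) - δ) * zp Z (k * (l ^ 3 * ε + σ) - ε * l) = 1 := by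
      have e1 := zp_add hCp (k * (l ^ 3 * δ) - δ) δ
      have e2 := zp_add hZp (k * (l ^ 3 * ε + σ) - ε * l) (ε * l)
      rw [sub_add_cancel] at e1 e2
      rw [e1, e2, mul_assoc, (hCZ δ _).left_comm, ← mul_assoc,
        mul_eq_right] at h1
      exact h1
    have h5 : δ * (l ^ 5 - 1) = 0 := by
      have := (hCZ0 _ _ h4).1
      rw [hk] at this
      linear_combination this
    exact (mul_eq_zero.1 h5).resolve_right (sub_ne_zero.2 hl5)
  -- the corrected element
  set g' : normalizerIn S (normalizerIn S E) :=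
    g₁ * Subgroup.inclusion hNN2 (d.vRep ^ ε.val) with hg'
  have hA' : d.actM (cN g') = d.actM (cN g₁) := by
    rw [hg', map_mul, h.actM_mul, h.actM_inner (ψ := cN (Subgroup.inclusion hNN2 _))
      ⟨d.vRep ^ ε.val, MulEquiv.ext fun y => Subtype.ext (by rw [hcN]; rfl)⟩, mul_one]
  set G' := π g' with hG'
  have hG'eq : G' = G * zp V ε := by
    show π g' = π g₁ * πN d.vRep ^ ε.val
    rw [hg', map_mul, ← map_pow]
    rfl
  have hG'C : Commute G' C := by
    rw [hG'eq]; exact hGC'.mul_left ((hconjC d.vRep).pow_left _)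
  have hG'Z : Commute G' Z := by
    rw [hG'eq]; exact hGZ.mul_left ((hconjZ d.vRep).pow_left _)
  have hG'X : Commute G' X := by
    have hVX : zp V ε * X * (zp V ε)⁻¹ = zp Z (-ε) * X := by
      have h1 := hXVpow 1 ε
      rw [pow_one, Nat.cast_one, one_mul] at h1
      have h2 : zp Z (-ε) * zp Z ε = 1 := by rw [← zp_add hZp, neg_add_cancel, zp_zero]
      calc zp V ε * X * (zp V ε)⁻¹ = zp Z (-ε) * (zp Z ε * zp V ε) * X * (zp V ε)⁻¹ := by
            rw [← mul_assoc (zp Z (-ε)), h2, one_mul]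
        _ = zp Z (-ε) * (X * zp V ε * X⁻¹) * X * (zp V ε)⁻¹ := by rw [h1]
        _ = zp Z (-ε) * X := by group
    have h1 : G' * X * G'⁻¹ = X := by
      rw [hG'eq, _root_.mul_inv_rev]
      calc G * zp V ε * X * ((zp V ε)⁻¹ * G⁻¹) = G * (zp V ε * X * (zp V ε)⁻¹) * G⁻¹ := by group
        _ = (G * zp Z (-ε) * G⁻¹) * (G * X * G⁻¹) := by rw [hVX]; group
        _ = X := by
          rw [(commute_zp hGZ _).eq, mul_inv_cancel_right, hGX, hδ, zp_zero, one_mul,
            ← mul_assoc, ← zp_add hZp, neg_add_cancel, zp_zero, one_mul]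
    exact mul_inv_eq_iff_eq_mul.1 h1
  have hjzero : ∀ (n : normalizerIn S E) (i j c f : ZMod p),
      πN n = zp X i * zp V j * (zp C c * zp Z f) → ∀ m : ℕ, (m : ZMod p) ≠ 0 →
        Commute (πN n) (X ^ m) → j = 0 := by
    intro n i j c f hn m hm hcm
    have h1 : Commute (zp V j) (X ^ m) := by
      have e1 : zp V j = (zp X i)⁻¹ * πN n * (zp C c * zp Z f)⁻¹ := by rw [hn]; group
      rw [e1]
      exact ((((Commute.refl X).pow_pow i.val m).inv_left).mul_left hcm).mul_left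
        ((((hXC c).mul_right (hXZ f)).pow_left m).symm.inv_left)
    have h2 := hXVpow m j
    rw [← h1.eq, mul_inv_cancel_right, right_eq_mul] at h2
    have h3 := (hCZ0 0 _ (by rw [zp_zero, one_mul]; exact h2)).2
    exact (mul_eq_zero.1 h3).resolve_left hm
  obtain ⟨n₁, hn₁⟩ : ∃ n₁ : normalizerIn S E, T G' = G' ^ K * πN n₁ := by
    refine ⟨⟨_, hshift g' hA'⟩, ?_⟩
    show π (T₀ g') = π g' ^ K * π _
    rw [← map_pow, ← map_mul]
    exact congrArg π (Subtype.ext (by simp))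
  have hk0 : k ≠ 0 := mul_ne_zero hl0 hl0
  obtain ⟨i, j, c, f, hn₁f⟩ := hform n₁
  have hj : j = 0 := by
    refine hjzero n₁ i j c f hn₁f k.val (by rwa [ZMod.natCast_zmod_val]) ?_
    have h1 := congrArg T hG'X.eq
    rw [map_mul, map_mul, hn₁, hTX] at h1
    have hc2 : Commute (πN n₁) (zp C t₁ * zp Z t₂) :=
      (commute_zp (hconjC n₁) _).mul_right (commute_zp (hconjZ n₁) _)
    have hc3 : Commute (G' ^ K) (zp C t₁ * zp Z t₂) :=
      ((commute_zp hG'C _).mul_right (commute_zp hG'Z _)).pow_left K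
    have hc4 : Commute (G' ^ K) (X ^ k.val) := hG'X.pow_pow _ _
    have hall : Commute (G' ^ K * πN n₁) (X ^ k.val * (zp C t₁ * zp Z t₂)) := h1
    have h2 : Commute (πN n₁) (X ^ k.val * (zp C t₁ * zp Z t₂)) := by
      have := (hc4.mul_right hc3).inv_left.mul_left hall
      rwa [inv_mul_cancel_left] at this
    have := h2.mul_right hc2.inv_right
    rwa [mul_inv_cancel_right] at this
  rw [hj, zp_zero, mul_one] at hn₁f
  have hcomm₁ : Commute (G' ^ K) (πN n₁) := by
    rw [hn₁f]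
    exact ((commute_zp hG'X i).mul_right ((commute_zp hG'C c).mul_right
      (commute_zp hG'Z f))).pow_left K
  have hn₁p : πN n₁ ^ p = 1 := by
    rw [← map_pow, hker]; exact Transvection.npow_mem h.hp5 h.tv h.xpD _ n₁.2
  have hg'p : ((g' ^ p : normalizerIn S (normalizerIn S E)) : Ω) ∈ normalizerIn S E := by
    refine hin _ ?_
    have hpow : ∀ n : ℕ, d.actM (cN g' ^ n) = 1 + (n : ZMod p) • (d.actM (cN g₁) - 1) := by
      intro n
      induction n with
      | zero => simp [h.actM_one]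
      | succ n ih =>
        rw [pow_succ, h.actM_mul, ih, hA', hA1]
        ext i j
        fin_cases i <;> fin_cases j <;> simp [Matrix.mul_apply, Fin.sum_univ_two] <;> ring
    rw [map_pow, hpow, ZMod.natCast_self, zero_smul, add_zero]
  obtain ⟨i', j', c', f', hG'pf⟩ := hform ⟨_, hg'p⟩
  have hG'p' : G' ^ p = zp X i' * zp V j' * (zp C c' * zp Z f') := by
    rw [← hG'pf, hG', ← map_pow]
    rfl
  have hj' : j' = 0 := by
    refine hjzero ⟨_, hg'p⟩ i' j' c' f' hG'pf 1 (by rw [Nat.cast_one]; exact one_ne_zero) ?_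
    rw [pow_one, hG'pf, ← hG'p']
    exact hG'X.pow_left p
  rw [hj', zp_zero, mul_one] at hG'p'
  have hG'1 : G' ^ p = 1 := by
    have h1 := congrArg T hG'p'
    rw [map_pow, hn₁, hcomm₁.mul_pow, hn₁p, mul_one, ← pow_mul, mul_comm K p, pow_mul, hG'p',
      map_mul, map_mul, hTzpC, hTzpZ, show T (zp X i') = (T X) ^ i'.val from map_pow _ _ _, hTX,
      (((hXC t₁).mul_right (hXZ t₂)).pow_left k.val).mul_pow, (hCZ t₁ t₂).mul_pow,
      zp_pow hCp, zp_pow hZp, ZMod.natCast_zmod_val] at h1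
    have hL : (zp X i' * (zp C c' * zp Z f')) ^ K =
        zp X (l ^ 3 * i') * (zp C (l ^ 3 * c') * zp Z (l ^ 3 * f')) := by
      have hcc : Commute (zp X i') (zp C c' * zp Z f') :=
        ((hXC c').mul_right (hXZ f')).pow_left i'.val
      rw [hcc.mul_pow, (hCZ c' f').mul_pow,
        zp_pow hXp, zp_pow hCp, zp_pow hZp, hK]
    rw [hL, show (X ^ k.val) ^ i'.val = zp X (i' * k) by
      show zp X k ^ i'.val = _
      rw [zp_pow hXp, ZMod.natCast_zmod_val]] at h1
    have h2 : zp X (l ^ 3 * i' - i' * k) =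
        (zp C (i' * t₁ + c' - l ^ 3 * c') * zp Z (i' * t₂ + f' * l - l ^ 3 * f')) := by
      have e1 := zp_add hXp (l ^ 3 * i' - i' * k) (i' * k)
      have e2 := zp_add hCp (i' * t₁ + c' - l ^ 3 * c') (l ^ 3 * c')
      have e3 := zp_add hZp (i' * t₂ + f' * l - l ^ 3 * f') (l ^ 3 * f')
      rw [sub_add_cancel] at e1 e2 e3
      rw [e1, show zp C (i' * t₁) * zp Z (i' * t₂) = zp C (i' * t₁) * zp Z (i' * t₂) from rfl,
        mul_assoc (zp X (i' * k)) _ (zp C c' * zp Z (f' * l))] at h1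
      rw [show zp C (i' * t₁) * zp Z (i' * t₂) * (zp C c' * zp Z (f' * l)) =
          zp C (i' * t₁ + c') * zp Z (i' * t₂ + f' * l) by
        rw [zp_add hCp, zp_add hZp]; simp only [mul_assoc]
        rw [(hCZ c' (i' * t₂)).symm.left_comm]] at h1
      have hX' : Commute (zp X (l ^ 3 * i' - i' * k)) (zp X (i' * k)) :=
        (Commute.refl X).pow_pow _ _
      rw [hX'.eq, mul_assoc, mul_right_inj, e2, e3] at h1
      have h6 : zp X (l ^ 3 * i' - i' * k) * (zp C (l ^ 3 * c') * zp Z (l ^ 3 * f')) =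
          zp C (i' * t₁ + c' - l ^ 3 * c') * zp Z (i' * t₂ + f' * l - l ^ 3 * f') *
            (zp C (l ^ 3 * c') * zp Z (l ^ 3 * f')) := by
        rw [h1]
        simp only [mul_assoc]
        rw [(hCZ (l ^ 3 * c') (i' * t₂ + f' * l - l ^ 3 * f')).left_comm]
      exact mul_right_cancel h6
    have hi : l ^ 3 * i' - i' * k = 0 := by
      have h3 : d.chi (x₁ ^ (l ^ 3 * i' - i' * k).val) =
          d.chi (d.cRep ^ (i' * t₁ + c' - l ^ 3 * c').val *
            d.zRep ^ (i' * t₂ + f' * l - l ^ 3 * f').val) := by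
        have h4 : πN (x₁ ^ (l ^ 3 * i' - i' * k).val) =
            πN (d.cRep ^ (i' * t₁ + c' - l ^ 3 * c').val *
              d.zRep ^ (i' * t₂ + f' * l - l ^ 3 * f').val) := by
          rw [map_mul, map_pow, map_pow, map_pow]; exact h2
        rw [← inv_mul_eq_one, ← map_inv, ← map_mul, hker] at h4
        have h5 := h.chi_zero_iff.2 (d.D_le_pre Frame.planeC h4)
        have h6 := h.chi_mul (x₁ ^ (l ^ 3 * i' - i' * k).val) ((x₁ ^ (l ^ 3 * i' - i' * k).val)⁻¹ *
          (d.cRep ^ (i' * t₁ + c' - l ^ 3 * c').val *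
            d.zRep ^ (i' * t₂ + f' * l - l ^ 3 * f').val))
        rw [mul_inv_cancel_left, h5, add_zero] at h6
        exact h6.symm
      rw [h.chi_pow, hx₁χ, ZMod.natCast_zmod_val, h.chi_mul, h.chi_pow, h.chi_pow,
        h.chi_zero_iff.2 d.cRep_mem, h.chi_zero_iff.2 (show _ ∈ d.pre Frame.planeC from
          ⟨d.zRep_mem.1, d.zRep_mem.2.1⟩), smul_zero, smul_zero, add_zero] at h3
      have h4 := congrFun h3 0
      simpa using h4
    have hl1 : l ≠ 1 := fun e => hl2 (by rw [e, one_pow])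
    have hi' : i' = 0 := by
      have h4 : i' * (l * l * (l - 1)) = 0 := by rw [hk] at hi; linear_combination hi
      exact (mul_eq_zero.1 h4).resolve_right (mul_ne_zero hk0 (sub_ne_zero.2 hl1))
    rw [hi, zp_zero, hi'] at h2
    obtain ⟨h3, h4⟩ := hCZ0 _ _ h2.symm
    have hc' : c' = 0 := by
      have h5 : c' * (1 - l ^ 3) = 0 := by linear_combination h3
      exact (mul_eq_zero.1 h5).resolve_right (sub_ne_zero.2 (Ne.symm hl3))
    have hf' : f' = 0 := by
      have h5 : f' * (l * (1 - l ^ 2)) = 0 := by linear_combination h4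
      exact (mul_eq_zero.1 h5).resolve_right (mul_ne_zero hl0 (sub_ne_zero.2 (Ne.symm hl2)))
    rw [hG'p', hi', hc', hf', zp_zero, zp_zero, zp_zero, mul_one, mul_one]
  -- an elementary abelian section of order `p ^ 4`
  have hc₁ : ∀ r₁ r₂ : ZMod p, Commute (zp G' r₁) (zp X r₂) := fun r₁ r₂ => hG'X.pow_pow _ _
  have hc₂ : ∀ r₁ r₂ : ZMod p, Commute (zp G' r₁) (zp C r₂) := fun r₁ r₂ => hG'C.pow_pow _ _
  have hc₃ : ∀ r₁ r₂ : ZMod p, Commute (zp G' r₁) (zp Z r₂) := fun r₁ r₂ => hG'Z.pow_pow _ _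
  have hc₄ : ∀ r₁ r₂ : ZMod p, Commute (zp X r₁) (zp C r₂) :=
    fun r₁ r₂ => (hconjC x₁).pow_pow _ _
  have hc₅ : ∀ r₁ r₂ : ZMod p, Commute (zp X r₁) (zp Z r₂) :=
    fun r₁ r₂ => (hconjZ x₁).pow_pow _ _
  let Φ : Multiplicative (Fin 4 → ZMod p) →*
      normalizerIn S (normalizerIn S E) ⧸ d.D.subgroupOf (normalizerIn S (normalizerIn S E)) :=
    MonoidHom.mk' (fun s => zp G' (s.toAdd 0) * zp X (s.toAdd 1) *
      (zp C (s.toAdd 2) * zp Z (s.toAdd 3))) fun s t => by
      simp only [toAdd_mul, Pi.add_apply, zp_add hG'1, zp_add hXp, zp_add hCp, zp_add hZp]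
      have d1 : Commute (zp C (s.toAdd 2) * zp Z (s.toAdd 3))
          (zp G' (t.toAdd 0) * zp X (t.toAdd 1)) :=
        (((hc₂ _ _).symm.mul_right (hc₄ _ _).symm)).mul_left
          ((hc₃ _ _).symm.mul_right (hc₅ _ _).symm)
      rw [d1.mul_mul_mul_comm, (hc₁ _ _).symm.mul_mul_mul_comm, (hCZ _ _).symm.mul_mul_mul_comm]
      exact congrArg _ (congrArg₂ (· * ·) (zp_add hCp _ _) (zp_add hZp _ _))
  have hinj : Function.Injective Φ := by
    rw [injective_iff_map_eq_one]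
    intro s hs
    change zp G' (s.toAdd 0) * zp X (s.toAdd 1) * (zp C (s.toAdd 2) * zp Z (s.toAdd 3)) = 1 at hs
    set n : normalizerIn S E := x₁ ^ (s.toAdd 1).val *
      (d.cRep ^ (s.toAdd 2).val * d.zRep ^ (s.toAdd 3).val) with hn
    have h1 : π (g' ^ (s.toAdd 0).val * Subgroup.inclusion hNN2 n) = 1 := by
      rw [map_mul, map_pow]
      show zp G' (s.toAdd 0) * πN n = 1
      rw [hn, map_mul, map_mul, map_pow, map_pow, map_pow, ← mul_assoc]
      exact hs
    have h2 := Subgroup.mem_subgroupOf.1 ((QuotientGroup.eq_one_iff _).1 h1)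
    have h3 : ((g' ^ (s.toAdd 0).val : normalizerIn S (normalizerIn S E)) : Ω) ∈
        normalizerIn S E := by
      have := (normalizerIn S E).mul_mem (hEN h2.1) ((normalizerIn S E).inv_mem n.2)
      simpa using this
    have hpow : ∀ m : ℕ, d.actM (cN g' ^ m) = 1 + (m : ZMod p) • (d.actM (cN g₁) - 1) := by
      intro m
      induction m with
      | zero => simp [h.actM_one]
      | succ m ih =>
        rw [pow_succ, h.actM_mul, ih, hA', hA1]
        ext i j
        fin_cases i <;> fin_cases j <;> simp [Matrix.mul_apply, Fin.sum_univ_two] <;> ring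
    have h4 : d.actM (cN (g' ^ (s.toAdd 0).val)) = 1 :=
      h.actM_inner ⟨⟨_, h3⟩, MulEquiv.ext fun y => Subtype.ext rfl⟩
    rw [map_pow, hpow, ZMod.natCast_zmod_val, add_eq_left] at h4
    have h5 := congrFun (congrFun h4 0) 1
    rw [hA1] at h5
    simp at h5
    rw [h5, zp_zero, one_mul] at hs
    have h6 : πN n = 1 := by
      rw [hn, map_mul, map_mul, map_pow, map_pow, map_pow]; exact hs
    have h7 := congrFun (h.chi_zero_iff.2 (d.D_le_pre Frame.planeC ((hker n).1 h6))) 0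
    rw [hn, h.chi_mul, h.chi_mul, h.chi_pow, h.chi_pow, h.chi_pow, hx₁χ,
      h.chi_zero_iff.2 d.cRep_mem, h.chi_zero_iff.2 (show _ ∈ d.pre Frame.planeC from
          ⟨d.zRep_mem.1, d.zRep_mem.2.1⟩)] at h7
    simp at h7
    rw [h7, zp_zero, one_mul] at hs
    obtain ⟨h8, h9⟩ := hCZ0 _ _ hs
    apply Multiplicative.toAdd.injective
    funext t
    fin_cases t <;> assumption
  have hcard := card_le_of_section
    (sectional_of_le (normalizerIn_le S (normalizerIn S E)) hr) ⊤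
    (π.comp Subgroup.topEquiv.toMonoidHom) Φ.range
    (fun y _ => by
      obtain ⟨w, rfl⟩ := QuotientGroup.mk'_surjective _ y
      exact ⟨⟨w, Subgroup.mem_top w⟩, rfl⟩)
    (by rintro _ ⟨s, rfl⟩ _ ⟨t, rfl⟩; rw [← map_mul, ← map_mul, mul_comm])
    (by
      rintro _ ⟨s, rfl⟩
      rw [← map_pow, show s ^ p = 1 from Multiplicative.toAdd.injective (by
        funext t
        rw [toAdd_pow, toAdd_one, Pi.smul_apply, nsmul_eq_mul, ZMod.natCast_self, zero_mul]
        rfl), map_one])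
  rw [← Nat.card_congr (MonoidHom.ofInjective hinj).toEquiv,
    Nat.card_congr Multiplicative.toAdd, Nat.card_fun, Nat.card_zmod, Nat.card_eq_fintype_card,
    Fintype.card_fin] at hcard
  exact absurd ((Nat.pow_le_pow_iff_right hp.out.one_lt).1 hcard) (by norm_num)

end Frame

end CfsgLib.FusionRankThree
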