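import Cfsg.Agent.FusionRankThree.CaseTAction

/-!
# The transvection case: the torus normalizes the automorphisms induced by `S` on `N_S(E)`
-/

set_option autoImplicit false
set_option linter.style.haveILetI false

namespace CfsgLib.FusionRankThree

open Cfsg Cfsg.FusionSystem CfsgLib.Fusion CfsgLib.FusionEssential Matrix
open scoped commutatorElement

variable {p : ℕ} [hp : Fact p.Prime] {Ω : Type*} [Group Ω] {S : Subgroup Ω}
  {F : FusionSystem S} {E : Subgroup Ω} {d : Frame F p E} [Finite S]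

theorem eq_one_of_pow_card_pow {r : ZMod p} {k : ℕ} (h : r ^ p ^ k = 1) : r = 1 := by
  rwa [ZMod.pow_card_pow] at h

namespace Frame

/-- Representative of the middle coordinate. -/
noncomputable def cRep (d : Frame F p E) : normalizerIn S E :=
  ⟨(d.surj ![0, 1, 0]).choose, le_normalizerIn d.le (d.surj ![0, 1, 0]).choose_spec.1⟩

theorem cRep_spec (d : Frame F p E) :
    (d.cRep : Ω) ∈ E ∧ d.q (d.cRep : Ω) = ![0, 1, 0] :=
  (d.surj ![0, 1, 0]).choose_spec

/-- Representative of the last coordinate. -/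
noncomputable def zRep (d : Frame F p E) : normalizerIn S E :=
  ⟨(d.surj ![0, 0, 1]).choose, le_normalizerIn d.le (d.surj ![0, 0, 1]).choose_spec.1⟩

theorem zRep_spec (d : Frame F p E) :
    (d.zRep : Ω) ∈ E ∧ d.q (d.zRep : Ω) = ![0, 0, 1] :=
  (d.surj ![0, 0, 1]).choose_spec

theorem cRep_mem (d : Frame F p E) : (d.cRep : Ω) ∈ d.pre Frame.planeC :=
  ⟨d.cRep_spec.1, by show d.q _ 0 = 0; rw [d.cRep_spec.2]; rfl⟩

theorem zRep_mem (d : Frame F p E) : (d.zRep : Ω) ∈ d.pre Frame.lineC :=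
  ⟨d.zRep_spec.1, by rw [d.zRep_spec.2]; exact ⟨rfl, rfl⟩⟩

/-- The scalar on the middle layer. -/
noncomputable def sC (d : Frame F p E) (α : MulAut (normalizerIn S E)) : ZMod p :=
  d.q (α d.cRep : Ω) 1

/-- The scalar on the lower layer. -/
noncomputable def sZ (d : Frame F p E) (α : MulAut (normalizerIn S E)) : ZMod p :=
  d.q (α d.zRep : Ω) 2

theorem TData.q_apply_plane (h : d.TData) (α : MulAut (normalizerIn S E)) {y : normalizerIn S E}
    (hy : (y : Ω) ∈ d.pre Frame.planeC) : d.q (α y : Ω) 1 = d.sC α * d.q y 1 := by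
  set n := (d.q y 1).val
  set w := (d.cRep ^ n)⁻¹ * y with hw
  have hwE := E.mul_mem (E.inv_mem (E.pow_mem d.cRep_spec.1 n)) hy.1
  have hwl : (w : Ω) ∈ d.pre Frame.lineC := by
    refine ⟨hwE, ?_⟩
    have h0 : d.q y 0 = 0 := hy.2
    rw [show d.q (w : Ω) = -((n : ZMod p) • ![0, 1, 0]) + d.q y from by
      show d.q (((d.cRep : Ω) ^ n)⁻¹ * y) = _
      rw [d.mul _ (E.inv_mem (E.pow_mem d.cRep_spec.1 n)) _ hy.1,
        d.q_inv (E.pow_mem d.cRep_spec.1 n), d.q_pow d.cRep_spec.1, d.cRep_spec.2],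
      show (n : ZMod p) = d.q y 1 from ZMod.natCast_zmod_val _]
    exact ⟨by simp [h0], by simp⟩
  have hl := h.apply_mem_line α w hwl
  have hc := h.apply_mem_plane α d.cRep d.cRep_mem
  conv_lhs => rw [show y = d.cRep ^ n * w from (mul_inv_cancel_left _ _).symm]
  rw [map_mul, map_pow, Subgroup.coe_mul, SubmonoidClass.coe_pow,
    d.mul _ (E.pow_mem hc.1 n) _ hl.1, d.q_pow hc.1, Pi.add_apply, hl.2.2, add_zero,
    Pi.smul_apply, smul_eq_mul, show (n : ZMod p) = d.q y 1 from ZMod.natCast_zmod_val _,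
    mul_comm]
  rfl

theorem TData.q_apply_line (h : d.TData) (α : MulAut (normalizerIn S E)) {y : normalizerIn S E}
    (hy : (y : Ω) ∈ d.pre Frame.lineC) : d.q (α y : Ω) 2 = d.sZ α * d.q y 2 := by
  set n := (d.q y 2).val
  set w := (d.zRep ^ n)⁻¹ * y with hw
  have hwE := E.mul_mem (E.inv_mem (E.pow_mem d.zRep_spec.1 n)) hy.1
  have hwD : (w : Ω) ∈ d.D := by
    refine ⟨hwE, ?_⟩
    show d.q _ = 0
    rw [show d.q (w : Ω) = -((n : ZMod p) • ![0, 0, 1]) + d.q y from by
      show d.q (((d.zRep : Ω) ^ n)⁻¹ * y) = _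
      rw [d.mul _ (E.inv_mem (E.pow_mem d.zRep_spec.1 n)) _ hy.1,
        d.q_inv (E.pow_mem d.zRep_spec.1 n), d.q_pow d.zRep_spec.1, d.zRep_spec.2],
      show (n : ZMod p) = d.q y 2 from ZMod.natCast_zmod_val _]
    funext k
    fin_cases k <;> simp [Matrix.vecHead, Matrix.vecTail, hy.2.1, hy.2.2]
  have hl := h.apply_mem_D α w hwD
  have hc := h.apply_mem_line α d.zRep d.zRep_mem
  conv_lhs => rw [show y = d.zRep ^ n * w from (mul_inv_cancel_left _ _).symm]
  rw [map_mul, map_pow, Subgroup.coe_mul, SubmonoidClass.coe_pow,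
    d.mul _ (E.pow_mem hc.1 n) _ hl.1, d.q_pow hc.1, show d.q (α w : Ω) = 0 from hl.2, add_zero,
    Pi.smul_apply, smul_eq_mul, show (n : ZMod p) = d.q y 2 from ZMod.natCast_zmod_val _,
    mul_comm]
  rfl

theorem TData.sC_mul (h : d.TData) (α β : MulAut (normalizerIn S E)) :
    d.sC (α * β) = d.sC α * d.sC β :=
  h.q_apply_plane α (h.apply_mem_plane β _ d.cRep_mem)

theorem TData.sZ_mul (h : d.TData) (α β : MulAut (normalizerIn S E)) :
    d.sZ (α * β) = d.sZ α * d.sZ β :=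
  h.q_apply_line α (h.apply_mem_line β _ d.zRep_mem)

theorem sC_one (d : Frame F p E) : d.sC 1 = 1 := by
  rw [sC, MulAut.one_apply, d.cRep_spec.2]; rfl

theorem sZ_one (d : Frame F p E) : d.sZ 1 = 1 := by
  rw [sZ, MulAut.one_apply, d.zRep_spec.2]; rfl

/-- The scalar on the middle layer as a homomorphism. -/
noncomputable def TData.sCHom (h : d.TData) : MulAut (normalizerIn S E) →* ZMod p :=
  ⟨⟨d.sC, d.sC_one⟩, h.sC_mul⟩

/-- The scalar on the lower layer as a homomorphism. -/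
noncomputable def TData.sZHom (h : d.TData) : MulAut (normalizerIn S E) →* ZMod p :=
  ⟨⟨d.sZ, d.sZ_one⟩, h.sZ_mul⟩

theorem TData.sC_pElement (h : d.TData) {α : MulAut (normalizerIn S E)} {k : ℕ}
    (hα : α ^ p ^ k = 1) : d.sC α = 1 :=
  eq_one_of_pow_card_pow (k := k) ((map_pow h.sCHom α _).symm.trans (by rw [hα, map_one]))

theorem TData.sZ_pElement (h : d.TData) {α : MulAut (normalizerIn S E)} {k : ℕ}
    (hα : α ^ p ^ k = 1) : d.sZ α = 1 :=
  eq_one_of_pow_card_pow (k := k) ((map_pow h.sZHom α _).symm.trans (by rw [hα, map_one]))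

theorem TData.line_le_frattini (h : d.TData) (hS : IsPGroup p S) :
    (d.pre Frame.lineC).subgroupOf (normalizerIn S E) ≤ frattini (normalizerIn S E) := by
  let N := normalizerIn S E
  haveI := finite_of_le (normalizerIn_le S E)
  have hNp : IsPGroup p N := hS.to_le (normalizerIn_le S E)
  have hle : d.pre Frame.lineC ≤ (frattini N).map N.subtype := by
    rw [h.line_eq, h.D_eq]
    have h1 : ⁅N, N⁆ ≤ (frattini N).map N.subtype := by
      rw [← Subgroup.map_subtype_commutator]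
      exact Subgroup.map_mono (Solvable.commutator_le_frattini hNp)
    refine sup_le h1 (sup_le ((Subgroup.closure_le _).2 ?_) ((Subgroup.commutator_mono ?_ le_rfl).trans h1))
    · rintro _ ⟨a, ha, rfl⟩
      exact ⟨⟨a, ha⟩ ^ p, Solvable.pow_mem_frattini hNp _, rfl⟩
    · exact Subgroup.commutator_le.2 fun a ha b hb =>
        N.mul_mem (N.mul_mem (N.mul_mem ha hb) (N.inv_mem ha)) (N.inv_mem hb)
  intro y hy
  obtain ⟨w, hw, hwy⟩ := hle hy
  exact (Subtype.ext hwy : w = y) ▸ hw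

/-- An automorphism acting trivially on the layers is a `p`-element. -/
theorem TData.pow_eq_one_of_trivial (h : d.TData) (hS : IsPGroup p S)
    {α : MulAut (normalizerIn S E)} (hA : d.actM α = 1) (hs : d.sC α = 1) :
    ∃ k : ℕ, α ^ p ^ k = 1 := by
  let N := normalizerIn S E
  haveI := finite_of_le (normalizerIn_le S E)
  set Z0 := (d.pre Frame.lineC).subgroupOf N
  have hδ : ∀ y : N, (y⁻¹ * α y : N) ∈ (d.pre Frame.planeC).subgroupOf N := by
    intro y
    rw [Subgroup.mem_subgroupOf, ← h.chi_zero_iff]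
    have h1 := h.chi_mul y (y⁻¹ * α y)
    rwa [mul_inv_cancel_left, h.chi_apply, hA, one_mulVec, left_eq_add] at h1
  haveI hZn : Z0.Normal := ⟨fun n hn g => by
    rw [Subgroup.mem_subgroupOf] at hn ⊢
    obtain ⟨i, e, he, hg⟩ := d.exists_form g.2
    refine ⟨conj_mem g.2 hn.1, ?_⟩
    show d.q ((g : Ω) * n * (g : Ω)⁻¹) ∈ Frame.lineC
    rw [hg, d.q_conj_form hn.1 he, h.tv.mulVec]
    exact ⟨hn.2.1, hn.2.2⟩⟩
  let π := QuotientGroup.mk' Z0
  have hfix : ∀ w : N, (w : Ω) ∈ d.pre Frame.planeC → π (α w) = π w := by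
    intro w hw
    refine (QuotientGroup.eq (s := Z0)).2 ?_
    rw [Subgroup.mem_subgroupOf, Subgroup.coe_mul, Subgroup.coe_inv]
    have h1 := h.apply_mem_plane α w hw
    refine ⟨E.mul_mem (E.inv_mem h1.1) hw.1, ?_⟩
    show d.q _ ∈ Frame.lineC
    rw [d.mul _ (E.inv_mem h1.1) _ hw.1, d.q_inv h1.1]
    refine ⟨?_, ?_⟩
    · rw [Pi.add_apply, Pi.neg_apply, show d.q (α w : Ω) 0 = 0 from h1.2,
        show d.q w 0 = 0 from hw.2, neg_zero, add_zero]
    · rw [Pi.add_apply, Pi.neg_apply, h.q_apply_plane α hw, hs, one_mul, neg_add_cancel]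
  have hiter : ∀ (n : ℕ) (y : N), π ((α ^ n) y) = π y * π (y⁻¹ * α y) ^ n := by
    intro n
    induction n with
    | zero => simp
    | succ n ih =>
      intro y
      rw [pow_succ, MulAut.mul_apply, ih (α y)]
      have e1 : π ((α y)⁻¹ * α (α y)) = π (y⁻¹ * α y) := by
        rw [← map_inv α, ← map_mul α]
        exact hfix _ (hδ y)
      rw [e1, pow_succ', ← mul_assoc, ← map_mul, mul_inv_cancel_left]
  obtain ⟨k, hk⟩ := exists_pow_eq_one_of_frattini (hS.to_le (normalizerIn_le S E)) (α := α ^ p)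
    fun y => by
      have hZ : Z0 ≤ frattini N := h.line_le_frattini hS
      refine hZ ((QuotientGroup.eq_one_iff _).1 ?_)
      show π ((α ^ p) y * y⁻¹) = 1
      rw [map_mul, map_inv, hiter p y, mul_inv_eq_one, mul_eq_left, ← map_pow]
      refine (QuotientGroup.eq_one_iff _).2 ?_
      rw [Subgroup.mem_subgroupOf]
      exact d.D_le_pre _ (d.pow_mem_D (hδ y).1)
  exact ⟨k + 1, by rw [pow_succ', pow_mul, hk]⟩

variable (hS : IsPGroup p S)
  (hF3 : ∀ φ ∈ F.autGroup (normalizerIn S E), (∃ k : ℕ, φ ^ p ^ k = 1) →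
    (∀ y : normalizerIn S E, (y : Ω) ∈ E → (φ y : Ω) ∈ E) → φ ∈ Inn (normalizerIn S E))

include hF3 in
/-- The `p`-elements of `Aut_F(N_S(E))` commute on the quotient of order `p ^ 2`. -/
theorem TData.commute_act2 (h : d.TData) {a b : MulAut (normalizerIn S E)}
    (ha : a ∈ F.autGroup (normalizerIn S E)) (hb : b ∈ F.autGroup (normalizerIn S E))
    {i j : ℕ} (hai : a ^ p ^ i = 1) (hbj : b ^ p ^ j = 1) :
    h.act2 a * h.act2 b = h.act2 b * h.act2 a := by
  by_contra hne
  haveI := finite_of_le (normalizerIn_le S E)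
  obtain ⟨g, hg⟩ := exists_sl_two_le ((F.autGroup (normalizerIn S E)).map h.act2)
    ⟨a, ha, rfl⟩ ⟨b, hb, rfl⟩ (a := i) (b := j) (by rw [← map_pow, hai, map_one])
    (by rw [← map_pow, hbj, map_one]) hne
  let T : GL (Fin 2) (ZMod p) := Matrix.SpecialLinearGroup.toGL (lowerM 1)
  have hTm : (T : Matrix (Fin 2) (Fin 2) (ZMod p)) = !![1, 0; 1, 1] := rfl
  have hdet : ((g⁻¹ * T * g : GL (Fin 2) (ZMod p)) : Matrix (Fin 2) (Fin 2) (ZMod p)).det = 1 := by
    rw [Units.val_mul, Units.val_mul, Matrix.det_mul, Matrix.det_mul, mul_right_comm,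
      ← Matrix.det_mul, ← Units.val_mul, inv_mul_cancel, Units.val_one, Matrix.det_one, one_mul,
      hTm, Matrix.det_fin_two]
    simp
  obtain ⟨α, hα, hαT⟩ := hg ⟨_, hdet⟩
  have hαT' : h.act2 α = T := by
    rw [hαT, show Matrix.SpecialLinearGroup.toGL ⟨_, hdet⟩ = g⁻¹ * T * g from Units.ext rfl]
    group
  have hTp : T ^ p = 1 := by
    show Matrix.SpecialLinearGroup.toGL (lowerM (p := p) 1) ^ p = 1
    rw [← map_pow, lowerM_pow, ZMod.natCast_self, zero_mul]
    exact (congrArg _ (Subtype.ext (by simp [coe_lowerM, Matrix.one_fin_two]))).trans (map_one _)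
  obtain ⟨k, r, hr, hk⟩ := Nat.exists_eq_pow_mul_and_not_dvd (orderOf_pos α).ne' p hp.out.ne_one
  set m := r * ((r : ZMod p)⁻¹).val with hmdef
  have hm : (m : ZMod p) = 1 := by
    rw [hmdef, Nat.cast_mul, ZMod.natCast_zmod_val, mul_inv_cancel₀
      (mt (ZMod.natCast_eq_zero_iff r p).1 hr)]
  have hpe : (α ^ m) ^ p ^ k = 1 := by
    rw [← pow_mul, ← orderOf_dvd_iff_pow_eq_one, hk, hmdef]
    exact Dvd.intro ((r : ZMod p)⁻¹).val (by ring)
  have hTm' : h.act2 (α ^ m) = T := by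
    rw [map_pow, hαT']
    conv_rhs => rw [← pow_one T]
    refine pow_eq_pow_iff_modEq.2 (Nat.ModEq.of_dvd (orderOf_dvd_of_pow_eq_one hTp) ?_)
    rw [← ZMod.natCast_eq_natCast_iff, hm, Nat.cast_one]
  have h01 : d.actM (α ^ m) 0 1 = 0 := by
    rw [← h.coe_act2, hTm', hTm]; rfl
  have hinn := hF3 _ (pow_mem hα m) ⟨k, hpe⟩ fun y hy => h.apply_mem_E h01 hy
  have h1 := h.coe_act2 (α ^ m)
  rw [hTm', hTm, h.actM_inner hinn] at h1
  have h10 := congrFun (congrFun h1 1) 0
  simp at h10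

include hS in
theorem TData.conj_pow_eq_one {g : Ω} (hg : g ∈ normalizerIn S (normalizerIn S E)) :
    ∃ k : ℕ, ((normalizerIn S E).normalizerMonoidHom ⟨g, hg.2⟩ :
      MulAut (normalizerIn S E)) ^ p ^ k = 1 :=
  conjAut_pow hg hS

include hS in
/-- Conjugation by an element outside `N_S(E)`. -/
theorem TData.exists_nilpotent (h : d.TData) {g : Ω}
    (hg : g ∈ normalizerIn S (normalizerIn S E)) (hgE : g ∉ normalizerIn S E)
    {u : MulAut (normalizerIn S E)}
    (hu : u = (normalizerIn S E).normalizerMonoidHom ⟨g, hg.2⟩) :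
    ∃ a b : ZMod p, b ≠ 0 ∧ d.actM u = !![1 + a, b; -(a * a) / b, 1 - a] := by
  obtain ⟨k, hk⟩ := conjAut_pow hg hS (E := normalizerIn S E)
  rw [← hu] at hk
  have hnil : (d.actM u - 1) ^ p ^ k = 0 := by
    rw [sub_pow_char_pow_of_commute p k (Commute.one_right _), one_pow, ← h.coe_act2,
      ← Units.val_pow_eq_pow_val, ← map_pow, hk, map_one, Units.val_one, sub_self]
  obtain ⟨hsq, htr⟩ := sq_zero_of_nilpotent hnil
  have e00 := congrFun (congrFun hsq 0) 0
  simp [Matrix.mul_apply, Fin.sum_univ_two] at e00 htr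
  have hb : d.actM u 0 1 ≠ 0 := by
    intro hb
    refine hgE ⟨hg.1, Subgroup.mem_normalizer_iff.2 fun y => ?_⟩
    have hle : ∀ y ∈ E, g * y * g⁻¹ ∈ E := fun y hy => by
      have h1 := h.apply_mem_E (ψ := u) hb
        (y := ⟨y, le_normalizerIn d.le hy⟩) hy
      rw [hu] at h1
      exact h1
    refine ⟨hle y, fun hy => ?_⟩
    haveI := finite_of_le d.le
    have heq : E.map (MulAut.conj g).toMonoidHom = E := Subgroup.eq_of_le_of_card_ge
      (by rintro _ ⟨w, hw, rfl⟩; exact hle w hw)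
      (Subgroup.card_map_of_injective (MulAut.conj g).injective).ge
    rw [← heq] at hy
    obtain ⟨w, hw, hwy⟩ := hy
    exact (MulAut.conj g).injective hwy ▸ hw
  refine ⟨d.actM u 0 0 - 1, d.actM u 0 1, hb, ?_⟩
  ext r s
  fin_cases r <;> fin_cases s <;> simp
  · field_simp
    linear_combination e00
  · linear_combination htr

include hS hF3 in
/-- The image of `N_S(N_S(E))` is normalized by every torus element stabilizing `E`. -/
theorem TData.conj_actM (h : d.TData) {g : Ω}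
    (hg : g ∈ normalizerIn S (normalizerIn S E))
    {u : MulAut (normalizerIn S E)}
    (hu : u = (normalizerIn S E).normalizerMonoidHom ⟨g, hg.2⟩) {a b : ZMod p} (hb : b ≠ 0)
    (hm : d.actM u = !![1 + a, b; -(a * a) / b, 1 - a])
    {ψ : MulAut (normalizerIn S E)} (hψ : ψ ∈ F.autGroup (normalizerIn S E)) :
    ∃ r : ZMod p, d.actM (ψ * u * ψ⁻¹) = 1 + r • (d.actM u - 1) := by
  have huF : u ∈ F.autGroup (normalizerIn S E) := hu ▸ autInducedBy_le_autGroup (normalizerIn_le S E)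
    (mem_autInducedBy_iff.2 ⟨g, hg.1, hg.2, fun _ => rfl⟩)
  obtain ⟨k, hk⟩ := conjAut_pow hg hS (E := normalizerIn S E)
  rw [← hu] at hk
  have hk' : (ψ * u * ψ⁻¹) ^ p ^ k = 1 := by rw [conj_pow, hk, mul_one, mul_inv_cancel]
  have hc := congrArg Units.val (h.commute_act2 hF3 huF
    (mul_mem (mul_mem hψ huF) (inv_mem hψ)) hk hk')
  simp only [Units.val_mul, h.coe_act2] at hc
  have hnil : (d.actM (ψ * u * ψ⁻¹) - 1) ^ p ^ k = 0 := by
    rw [sub_pow_char_pow_of_commute p k (Commute.one_right _), one_pow, ← h.coe_act2,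
      ← Units.val_pow_eq_pow_val, ← map_pow, hk', map_one, Units.val_one, sub_self]
  obtain ⟨-, htr⟩ := sq_zero_of_nilpotent hnil
  rw [hm] at hc ⊢
  generalize d.actM (ψ * u * ψ⁻¹) = M at hc htr ⊢
  have e00 := congrFun (congrFun hc 0) 0
  have e01 := congrFun (congrFun hc 0) 1
  simp [Matrix.mul_apply, Fin.sum_univ_two] at e00 e01 htr
  refine ⟨M 0 1 / b, ?_⟩
  have h2 : (2 : ZMod p) ≠ 0 := by
    intro h2
    have h5 := h.hp5
    have h3 : ((2 : ℕ) : ZMod p) = 0 := by exact_mod_cast h2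
    rw [ZMod.natCast_eq_zero_iff] at h3
    have := Nat.le_of_dvd (by norm_num) h3
    omega
  have hdiag : (M 0 0 - 1) * b = a * M 0 1 := by
    refine mul_left_cancel₀ h2 ?_
    linear_combination b * htr - e01
  ext r s
  fin_cases r <;> fin_cases s <;> simp
  · field_simp
    linear_combination hdiag
  · field_simp
  · field_simp at e00 ⊢
    linear_combination e00
  · field_simp
    linear_combination b * htr - hdiag

include hS hF3 in
/-- The torus normalizes `Aut_S(N_S(E))`. -/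
theorem TData.conj_autInducedBy (h : d.TData) {ψ : MulAut (normalizerIn S E)}
    (hψ : ψ ∈ F.autGroup (normalizerIn S E)) :
    ∀ β ∈ autInducedBy S (normalizerIn S E),
      ψ * β * ψ⁻¹ ∈ autInducedBy S (normalizerIn S E) := by
  intro β hβ
  obtain ⟨g, hgS, hgn, hgβ⟩ := mem_autInducedBy_iff.1 hβ
  have hg : g ∈ normalizerIn S (normalizerIn S E) := ⟨hgS, hgn⟩
  have hu : β = (normalizerIn S E).normalizerMonoidHom ⟨g, hg.2⟩ :=
    MulEquiv.ext fun y => Subtype.ext (hgβ y)
  by_cases hgE : g ∈ normalizerIn S E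
  · refine Inn_le_autInducedBy (normalizerIn_le S E) ?_
    exact (Inn_normal _).conj_mem β ⟨⟨g, hgE⟩, MulEquiv.ext fun y => Subtype.ext (hgβ y).symm⟩ ψ
  obtain ⟨a, b, hb, hm⟩ := h.exists_nilpotent hS hg hgE hu
  obtain ⟨r, hr⟩ := h.conj_actM hS hF3 hg hu hb hm hψ
  have hsq : (d.actM β - 1) * (d.actM β - 1) = 0 := by
    rw [hm]
    ext i j
    fin_cases i <;> fin_cases j <;> simp [Matrix.mul_apply, Fin.sum_univ_two] <;> field_simp <;> ring
  have hpow : ∀ n : ℕ, d.actM (β ^ n) = 1 + (n : ZMod p) • (d.actM β - 1) := by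
    intro n
    induction n with
    | zero => simp [h.actM_one]
    | succ n ih =>
      rw [pow_succ, h.actM_mul, ih, add_mul, one_mul, smul_mul_assoc,
        show (d.actM β - 1) * d.actM β = d.actM β - 1 by
          have : (d.actM β - 1) * d.actM β - (d.actM β - 1) = 0 := by
            rw [← hsq, mul_sub (d.actM β - 1) (d.actM β) 1, mul_one]
          exact sub_eq_zero.1 this,
        Nat.cast_succ, add_smul, one_smul]
      abel
  set n := r.val with hn
  set κ := ψ * β * ψ⁻¹ * (β ^ n)⁻¹ with hκdef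
  have hA : d.actM κ = 1 := by
    have h1 : d.actM (ψ * β * ψ⁻¹) = d.actM (β ^ n) := by
      rw [hr, hpow, hn, ZMod.natCast_zmod_val]
    rw [hκdef, h.actM_mul, h1, ← h.actM_mul, mul_inv_cancel, h.actM_one]
  obtain ⟨k, hk⟩ := conjAut_pow hg hS (E := normalizerIn S E)
  rw [← hu] at hk
  have hs : d.sC κ = 1 := by
    rw [hκdef, h.sC_mul, h.sC_pElement (k := k) (α := ψ * β * ψ⁻¹)
      (by rw [conj_pow, hk, mul_one, mul_inv_cancel]),
      h.sC_pElement (k := k) (α := (β ^ n)⁻¹)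
      (by rw [inv_pow, ← pow_mul, mul_comm, pow_mul, hk, one_pow, inv_one]), one_mul]
  have hβF := autInducedBy_le_autGroup (F := F) (normalizerIn_le S E) hβ
  have hinn := hF3 κ (mul_mem (mul_mem (mul_mem hψ hβF) (inv_mem hψ)) (inv_mem (pow_mem hβF n)))
    (h.pow_eq_one_of_trivial hS hA hs) fun y hy => h.apply_mem_E (by rw [hA]; rfl) hy
  have h3 := mul_mem (Inn_le_autInducedBy (normalizerIn_le S E) hinn) (pow_mem hβ n)
  rwa [hκdef, inv_mul_cancel_right] at h3

end Frame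

end CfsgLib.FusionRankThree
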