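import Cfsg.Agent.FusionRankThree.Tv
import Cfsg.Agent.Solvable.Frattini
import Cfsg.Agent.FusionMetaSuper.CharSubgroup
import Cfsg.Agent.FusionRankTwo.Util
import Cfsg.Prelude.Def_CaseTheorems

/-!
# The derived subgroup of a three-generator group of sectional rank three
-/

set_option autoImplicit false
set_option linter.style.haveILetI false

namespace CfsgLib.FusionRankThree

open scoped commutatorElement
open Cfsg

variable {P : Type*} [Group P] {p : ℕ}

/-- A commutative subgroup of exponent `p` in a section is small. -/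
theorem card_le_of_section {k : ℕ} (hr : SectionalPRankLE p k P) (H : Subgroup P) {X : Type*}
    [Group X] (f : H →* X) (A : Subgroup X) (hA : A ≤ f.range)
    (hAc : ∀ a ∈ A, ∀ b ∈ A, a * b = b * a) (hAp : ∀ a ∈ A, a ^ p = 1) :
    Nat.card A ≤ p ^ k := by
  let e := QuotientGroup.quotientKerEquivRange f
  let j : A →* ↥H ⧸ f.ker := e.symm.toMonoidHom.comp (Subgroup.inclusion hA)
  have hj : Function.Injective j := e.symm.injective.comp (Subgroup.inclusion_injective hA)
  rw [Nat.card_congr (MonoidHom.ofInjective hj).toEquiv]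
  refine hr H f.ker j.range ⟨⟨?_⟩⟩ ?_
  · rintro ⟨_, a, rfl⟩ ⟨_, b, rfl⟩
    exact Subtype.ext (by
      show j a * j b = j b * j a
      rw [← map_mul, ← map_mul, show a * b = b * a from Subtype.ext (hAc _ a.2 _ b.2)])
  · rintro _ ⟨a, rfl⟩
    rw [← map_pow, show a ^ p = 1 from Subtype.ext (hAp _ a.2), map_one]

/-- `℧(P) [P', P]`. -/
def kSub (p : ℕ) (P : Type*) [Group P] : Subgroup P :=
  Subgroup.closure {y | ∃ a : P, a ^ p = y} ⊔ ⁅commutator P, (⊤ : Subgroup P)⁆

theorem kSub_map_le (α : MulAut P) : (kSub p P).map α.toMonoidHom ≤ kSub p P := by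
  rw [kSub, Subgroup.map_sup, MonoidHom.map_closure, commutator_def, Subgroup.map_commutator,
    Subgroup.map_commutator, Subgroup.map_top_of_surjective _ α.surjective]
  refine sup_le_sup (Subgroup.closure_mono ?_) le_rfl
  rintro _ ⟨_, ⟨a, rfl⟩, rfl⟩
  exact ⟨α a, (map_pow α a p).symm⟩

instance kSub_characteristic : (kSub p P).Characteristic :=
  Subgroup.characteristic_iff_map_le.2 kSub_map_le

theorem pow_mem_kSub (a : P) : a ^ p ∈ kSub p P :=
  Subgroup.mem_sup_left (Subgroup.subset_closure ⟨a, rfl⟩)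

theorem commutator_comm_mem_kSub (a b y : P) : ⁅⁅a, b⁆, y⁆ ∈ kSub p P :=
  Subgroup.mem_sup_right (Subgroup.commutator_mem_commutator
    (Subgroup.commutator_mem_commutator (Subgroup.mem_top a) (Subgroup.mem_top b))
    (Subgroup.mem_top y))

variable [Finite P] [hp : Fact p.Prime]

theorem kSub_le_frattini (hP : IsPGroup p P) : kSub p P ≤ frattini P :=
  sup_le ((Subgroup.closure_le _).2 fun _ ⟨a, ha⟩ => ha ▸ Solvable.pow_mem_frattini hP a)
    ((Subgroup.commutator_mono le_top le_rfl).trans (Solvable.commutator_le_frattini hP))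

/-- Reduction of `P' ≤ M` modulo `[P', P]`. -/
theorem commutator_le_of_le_sup (hP : IsPGroup p P) {M : Subgroup P} [M.Normal]
    (h : commutator P ≤ M ⊔ ⁅commutator P, (⊤ : Subgroup P)⁆) : commutator P ≤ M := by
  set π := QuotientGroup.mk' M
  have hC : (commutator P).map π ≤ ⁅(commutator P).map π, (⊤ : Subgroup (P ⧸ M))⁆ := by
    refine (Subgroup.map_mono h).trans ?_
    rw [Subgroup.map_sup, Subgroup.map_commutator,
      Subgroup.map_top_of_surjective _ (QuotientGroup.mk'_surjective M),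
      (Subgroup.map_eq_bot_iff M).2 (QuotientGroup.ker_mk' M).ge, bot_sup_eq]
  haveI : Group.IsNilpotent (P ⧸ M) := (hP.to_quotient M).isNilpotent
  obtain ⟨n, hn⟩ := Subgroup.nilpotent_iff_lowerCentralSeries.1 ‹Group.IsNilpotent (P ⧸ M)›
  have hle : ∀ m, (commutator P).map π ≤ (⊤ : Subgroup (P ⧸ M)).lowerCentralSeries m := by
    intro m
    induction m with
    | zero => simp
    | succ m ih =>
      rw [Subgroup.lowerCentralSeries_succ]
      exact hC.trans (Subgroup.commutator_mono ih le_rfl)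
  have h1 := (Subgroup.map_eq_bot_iff (f := π) (commutator P)).1 (le_bot_iff.1 (hn ▸ hle n))
  rwa [QuotientGroup.ker_mk'] at h1

/-- An automorphism trivial on the Frattini quotient has `p`-power order. -/
theorem exists_pow_eq_one_of_frattini (hP : IsPGroup p P) {α : MulAut P}
    (h : ∀ x : P, α x * x⁻¹ ∈ frattini P) : ∃ k : ℕ, α ^ p ^ k = 1 := by
  haveI : Finite (MulAut P) := inferInstance
  obtain ⟨k, m, hm, he⟩ := Nat.exists_eq_pow_mul_and_not_dvd (orderOf_pos α).ne' p hp.out.ne_one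
  refine ⟨k, FusionMetaSuper.eq_one_of_coprime_trivial_frattini hP ?_ ?_⟩
  · rw [orderOf_pow, he, Nat.gcd_comm, Nat.gcd_eq_left (dvd_mul_right _ _),
      Nat.mul_div_cancel_left _ (pow_pos hp.out.pos k)]
    exact ((hp.out.coprime_iff_not_dvd).2 hm).symm
  · intro x
    generalize p ^ k = n
    induction n with
    | zero => simp
    | succ n ih =>
      rw [pow_succ', MulAut.mul_apply]
      have h2 := (frattini P).mul_mem (h ((α ^ n) x)) ih
      rwa [mul_assoc, inv_mul_cancel_left] at h2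

variable (q : P →* Multiplicative (V3 p)) (hq : Function.Surjective q) (hker : q.ker = frattini P)
include hq hker

theorem commutator_image_card_le (hP : IsPGroup p P) (hr : SectionalPRankLE p 3 P) :
    Nat.card ((commutator P).map (QuotientGroup.mk' (kSub p P))) ≤ p := by
  classical
  set K := kSub p P
  set π := QuotientGroup.mk' K with hπ
  have hπK : ∀ x ∈ K, π x = 1 := fun x hx => (QuotientGroup.eq_one_iff x).2 hx
  have hexp : ∀ y : P ⧸ K, y ^ p = 1 := fun y => by
    obtain ⟨a, rfl⟩ := QuotientGroup.mk'_surjective K y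
    rw [← map_pow]
    exact hπK _ (pow_mem_kSub a)
  have hcen : ∀ a b y : P ⧸ K, Commute ⁅a, b⁆ y := fun a b y => by
    obtain ⟨a, rfl⟩ := QuotientGroup.mk'_surjective K a
    obtain ⟨b, rfl⟩ := QuotientGroup.mk'_surjective K b
    obtain ⟨y, rfl⟩ := QuotientGroup.mk'_surjective K y
    refine commutatorElement_eq_one_iff_commute.1 ?_
    rw [← map_commutatorElement, ← map_commutatorElement]
    exact hπK _ (commutator_comm_mem_kSub a b y)
  set I := (commutator P).map π with hI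
  have hIcen : ∀ c ∈ I, ∀ y : P ⧸ K, Commute c y := by
    have hle : I ≤ Subgroup.center (P ⧸ K) := by
      rw [hI, commutator_def, Subgroup.map_commutator, Subgroup.commutator_le]
      exact fun a _ b _ => Subgroup.mem_center_iff.2 fun y => (hcen a b y).eq.symm
    exact fun c hc y => (Subgroup.mem_center_iff.1 (hle hc) y).symm
  have hqK : ∀ x ∈ K, q x = 1 := fun x hx => by
    rw [← MonoidHom.mem_ker, hker]
    exact kSub_le_frattini hP hx
  let qb : P ⧸ K →* Multiplicative (V3 p) := QuotientGroup.lift K q fun x hx => hqK x hx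
  have hqI : ∀ c ∈ I, qb c = 1 := by
    rintro _ ⟨x, hx, rfl⟩
    show q x = 1
    rw [← MonoidHom.mem_ker, hker]
    exact Solvable.commutator_le_frattini hP hx
  have hPK : IsPGroup p (P ⧸ K) := hP.to_quotient K
  have hcardle : ∀ A : Subgroup (P ⧸ K), (∀ a ∈ A, ∀ b ∈ A, a * b = b * a) →
      Nat.card A ≤ p ^ 3 := fun A hAc => by
    refine card_le_of_section hr ⊤ (π.comp Subgroup.topEquiv.toMonoidHom) A ?_ hAc
      (fun a _ => hexp a)
    intro y _
    obtain ⟨a, rfl⟩ := QuotientGroup.mk'_surjective K y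
    exact ⟨⟨a, Subgroup.mem_top a⟩, rfl⟩
  -- a commuting pair enlarges `I`
  have hpair : ∀ u w : P ⧸ K, Commute u w → qb u ≠ 1 → qb w ∉ Subgroup.zpowers (qb u) →
      p * (p * Nat.card I) ≤ p ^ 3 := by
    intro u w huw hu hw
    set A₁ := I ⊔ Subgroup.zpowers u
    set A₂ := A₁ ⊔ Subgroup.zpowers w
    have hle : A₁ ≤ (Subgroup.zpowers (qb u)).comap qb :=
      sup_le (fun c hc => by rw [Subgroup.mem_comap, hqI c hc]; exact one_mem _)
        (Subgroup.zpowers_le.2 (Subgroup.mem_zpowers (qb u)))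
    have h1 : I < A₁ := lt_of_le_of_ne le_sup_left fun h =>
      hu (hqI u (h ▸ Subgroup.mem_sup_right (Subgroup.mem_zpowers u)))
    have h2 : A₁ < A₂ := lt_of_le_of_ne le_sup_left fun h =>
      hw (hle (h ▸ Subgroup.mem_sup_right (Subgroup.mem_zpowers w)))
    refine le_trans ?_ (hcardle A₂ ?_)
    · calc p * (p * Nat.card I) ≤ p * Nat.card A₁ :=
            Nat.mul_le_mul_left p (FusionRankTwo.mul_card_le_of_lt (hPK.to_subgroup _) h1)
        _ ≤ Nat.card A₂ := FusionRankTwo.mul_card_le_of_lt (hPK.to_subgroup _) h2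
    · have hgen : A₂ ≤ Subgroup.closure ((I : Set (P ⧸ K)) ∪ {u, w}) :=
        sup_le (sup_le (fun c hc => Subgroup.subset_closure (Or.inl hc))
          (Subgroup.zpowers_le.2 (Subgroup.subset_closure (Or.inr (Or.inl rfl)))))
          (Subgroup.zpowers_le.2 (Subgroup.subset_closure (Or.inr (Or.inr rfl))))
      have : IsMulCommutative (Subgroup.closure ((I : Set (P ⧸ K)) ∪ {u, w})) :=
        Subgroup.isMulCommutative_closure (by
          rintro a (ha | rfl | rfl) b (hb | rfl | rfl)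
          all_goals first
            | rfl
            | exact (hIcen a ha b).eq
            | exact (hIcen b hb a).eq.symm
            | exact huw.eq
            | exact huw.eq.symm)
      exact fun a ha b hb => congrArg Subtype.val
        (this.is_comm.comm ⟨a, hgen ha⟩ ⟨b, hgen hb⟩)
  -- three generators
  have hlift : ∀ v : V3 p, ∃ a : P ⧸ K, qb a = Multiplicative.ofAdd v := fun v => by
    obtain ⟨a, ha⟩ := hq (Multiplicative.ofAdd v)
    exact ⟨π a, ha⟩
  obtain ⟨k, hk⟩ := IsPGroup.iff_card.1 (hPK.to_subgroup I)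
  rw [hk]
  by_contra hbig
  push Not at hbig
  have hk2 : 2 ≤ k := by
    by_contra hlt
    have : p ^ k ≤ p ^ 1 := Nat.pow_le_pow_right hp.out.pos (by omega)
    rw [pow_one] at this
    omega
  -- bound by `p ^ 2`
  have hk2' : k ≤ 2 := by
    obtain ⟨a, ha⟩ := hlift (Pi.single 0 1)
    set A := I ⊔ Subgroup.zpowers a
    have h1 : I < A := lt_of_le_of_ne le_sup_left fun h => by
      have h2 := hqI a (h ▸ Subgroup.mem_sup_right (Subgroup.mem_zpowers a))
      rw [ha, ofAdd_eq_one] at h2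
      simpa using congrFun h2 0
    have hA : A ≤ Subgroup.closure ((I : Set (P ⧸ K)) ∪ {a}) :=
      sup_le (fun c hc => Subgroup.subset_closure (Or.inl hc))
        (Subgroup.zpowers_le.2 (Subgroup.subset_closure (Or.inr rfl)))
    have : IsMulCommutative (Subgroup.closure ((I : Set (P ⧸ K)) ∪ {a})) :=
      Subgroup.isMulCommutative_closure (by
        rintro x (hx | rfl) y (hy | rfl)
        all_goals first
          | rfl
          | exact (hIcen x hx y).eq
          | exact (hIcen y hy x).eq.symm)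
    have h3 := (FusionRankTwo.mul_card_le_of_lt (hPK.to_subgroup _) h1).trans (hcardle A
      fun x hx y hy => congrArg Subtype.val (this.is_comm.comm ⟨x, hA hx⟩ ⟨y, hA hy⟩))
    rw [hk, ← pow_succ'] at h3
    have := (Nat.pow_le_pow_iff_right hp.out.one_lt).1 h3
    omega
  obtain rfl : k = 2 := by omega
  -- bilinearity
  have hL : ∀ (x y : P ⧸ K) (m n : ℤ), ⁅x ^ m, y ^ n⁆ = ⁅x, y⁆ ^ (m * n) := by
    have hl : ∀ x y w : P ⧸ K, ⁅x * y, w⁆ = ⁅x, w⁆ * ⁅y, w⁆ := fun x y w => by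
      rw [show ⁅x * y, w⁆ = x * ⁅y, w⁆ * x⁻¹ * ⁅x, w⁆ by
        rw [commutatorElement_def, commutatorElement_def, commutatorElement_def]; group,
        ← (hcen y w x).eq, mul_inv_cancel_right, (hcen y w _).eq]
    have hz : ∀ (w x : P ⧸ K) (m : ℤ), ⁅x ^ m, w⁆ = ⁅x, w⁆ ^ m := fun w x m =>
      map_zpow (MonoidHom.mk' (fun x => ⁅x, w⁆) fun x y => hl x y w) x m
    intro x y m n
    rw [hz, ← commutatorElement_inv (y ^ n) x, hz, ← inv_zpow, commutatorElement_inv, ← zpow_mul,
      mul_comm]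
  have hmul : ∀ x y w : P ⧸ K, ⁅x * y, w⁆ = ⁅x, w⁆ * ⁅y, w⁆ := fun x y w => by
    rw [show ⁅x * y, w⁆ = x * ⁅y, w⁆ * x⁻¹ * ⁅x, w⁆ by
      rw [commutatorElement_def, commutatorElement_def, commutatorElement_def]; group,
      ← (hcen y w x).eq, mul_inv_cancel_right, (hcen y w _).eq]
  -- a relation between the three basic commutators yields a commuting pair
  have hrel : ∀ (a b c : P ⧸ K) (i j l : Fin 3) (t₀ t₁ t₂ : ℤ), i ≠ j → i ≠ l → j ≠ l →
      qb a = Multiplicative.ofAdd (Pi.single i 1) → qb b = Multiplicative.ofAdd (Pi.single j 1) →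
      qb c = Multiplicative.ofAdd (Pi.single l 1) → (t₀ : ZMod p) ≠ 0 →
      ⁅b, c⁆ ^ t₀ * ⁅c, a⁆ ^ t₁ * ⁅a, b⁆ ^ t₂ = 1 → False := by
    intro a b c i j l t₀ t₁ t₂ hij hil hjl ha hb hc ht hrel
    obtain ⟨m, hm⟩ : ∃ m : ℤ, -(t₀ : ZMod p) * m = t₂ :=
      ⟨((t₂ : ZMod p) / -(t₀ : ZMod p)).val, by
        rw [Int.cast_natCast, ZMod.natCast_zmod_val, mul_div_cancel₀ _ (neg_ne_zero.2 ht)]⟩
    set u := a ^ (-t₁) * b ^ t₀ with hu
    set w := c * a ^ m with hw
    have hzp : ∀ (y : P ⧸ K) (r s : ℤ), (r : ZMod p) = s → y ^ r = y ^ s := fun y r s hrs => by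
      obtain ⟨e, he⟩ := (ZMod.intCast_eq_intCast_iff_dvd_sub _ _ _).1 hrs
      rw [show s = r + (p : ℤ) * e by omega, zpow_add, zpow_mul, zpow_natCast, hexp, one_zpow,
        mul_one]
    have hcomm : Commute u w := by
      refine commutatorElement_eq_one_iff_commute.1 ?_
      have hr2 : ∀ x : P ⧸ K, ⁅x, w⁆ = ⁅x, c⁆ * ⁅x, a ^ m⁆ := fun x => by
        rw [hw, ← inv_inj, commutatorElement_inv, hmul, mul_inv_rev, commutatorElement_inv,
          commutatorElement_inv]
        exact ((hcen c x _).eq)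
      rw [hu, hmul, hr2, hr2, ← zpow_one c, hL, hL, hL, hL, mul_one, mul_one,
        show ⁅a, c⁆ = ⁅c, a⁆⁻¹ from (commutatorElement_inv c a).symm, inv_zpow', neg_neg,
        commutatorElement_self, one_zpow, mul_one,
        show ⁅b, a⁆ = ⁅a, b⁆⁻¹ from (commutatorElement_inv a b).symm, inv_zpow']
      rw [hzp ⁅a, b⁆ (-(t₀ * m)) t₂ (by push_cast; linear_combination hm), ← mul_assoc,
        ((hcen c a (⁅b, c⁆)).zpow_zpow t₁ t₀).eq]
      exact hrel
    have hqu : (qb u).toAdd = (-t₁ : ℤ) • Pi.single i 1 + t₀ • Pi.single j 1 := by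
      rw [hu, map_mul, map_zpow, map_zpow, ha, hb, toAdd_mul, toAdd_zpow, toAdd_zpow, toAdd_ofAdd,
        toAdd_ofAdd]
    have hqw : (qb w).toAdd = Pi.single l 1 + m • Pi.single i 1 := by
      rw [hw, map_mul, map_zpow, ha, hc, toAdd_mul, toAdd_zpow, toAdd_ofAdd, toAdd_ofAdd]
    refine absurd (hpair u w hcomm (fun h => ?_) (fun h => ?_)) ?_
    · have h2 := congrFun (congrArg Multiplicative.toAdd h) j
      rw [hqu] at h2
      simp [hij.symm] at h2
      exact ht h2
    · obtain ⟨e, he⟩ := Subgroup.mem_zpowers_iff.1 h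
      have h2 := congrFun (congrArg Multiplicative.toAdd he) l
      rw [toAdd_zpow, hqu, hqw] at h2
      simp [hil.symm, hjl.symm] at h2
    · rw [hk, not_le]
      calc p ^ 3 < p ^ 4 := Nat.pow_lt_pow_right hp.out.one_lt (by norm_num)
        _ = _ := by ring
  obtain ⟨a, ha⟩ := hlift (Pi.single 0 1)
  obtain ⟨b, hb⟩ := hlift (Pi.single 1 1)
  obtain ⟨c, hc⟩ := hlift (Pi.single 2 1)
  have hmem : ∀ x y : P ⧸ K, ⁅x, y⁆ ∈ I := fun x y => by
    rw [hI, commutator_def, Subgroup.map_commutator,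
      Subgroup.map_top_of_surjective _ (QuotientGroup.mk'_surjective K)]
    exact Subgroup.commutator_mem_commutator (Subgroup.mem_top x) (Subgroup.mem_top y)
  let f : (Fin 3 → ZMod p) → I := fun s => ⟨⁅b, c⁆ ^ ((s 0).val : ℤ) * ⁅c, a⁆ ^ ((s 1).val : ℤ) *
    ⁅a, b⁆ ^ ((s 2).val : ℤ), I.mul_mem (I.mul_mem (I.zpow_mem (hmem b c) _)
      (I.zpow_mem (hmem c a) _)) (I.zpow_mem (hmem a b) _)⟩
  have hninj : ¬ Function.Injective f := fun h => by
    have h1 := Nat.card_le_card_of_injective f h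
    rw [hk, Nat.card_fun, Nat.card_zmod, Nat.card_eq_fintype_card, Fintype.card_fin] at h1
    exact absurd ((Nat.pow_le_pow_iff_right hp.out.one_lt).1 h1) (by norm_num)
  obtain ⟨s, s', hss, hne⟩ : ∃ s s', f s = f s' ∧ s ≠ s' := by
    simpa [Function.Injective] using hninj
  set t : Fin 3 → ℤ := fun i => ((s i).val : ℤ) - (s' i).val with ht
  have hrel0 : ⁅b, c⁆ ^ t 0 * ⁅c, a⁆ ^ t 1 * ⁅a, b⁆ ^ t 2 = 1 := by
    have h1 := congrArg Subtype.val hss
    simp only [f] at h1
    have hi : ∀ (y : P ⧸ K), ∀ x₁ x₂ : P ⧸ K, ∀ (r : ℤ), Commute y (⁅x₁, x₂⁆ ^ r) :=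
      fun y x₁ x₂ r => ((hcen x₁ x₂ y).symm.zpow_right r)
    simp only [ht, zpow_sub]
    calc _ = ⁅b, c⁆ ^ ((s 0).val : ℤ) * ⁅c, a⁆ ^ ((s 1).val : ℤ) * ⁅a, b⁆ ^ ((s 2).val : ℤ) *
          (⁅b, c⁆ ^ ((s' 0).val : ℤ) * ⁅c, a⁆ ^ ((s' 1).val : ℤ) *
            ⁅a, b⁆ ^ ((s' 2).val : ℤ))⁻¹ := by
          rw [mul_inv_rev, mul_inv_rev]
          have c1 : Commute ((⁅b, c⁆ ^ ((s' 0).val : ℤ))⁻¹) (⁅c, a⁆ ^ ((s 1).val : ℤ)) :=
            hi _ _ _ _
          have c2 : Commute ((⁅c, a⁆ ^ ((s' 1).val : ℤ))⁻¹) (⁅a, b⁆ ^ ((s 2).val : ℤ)) :=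
            hi _ _ _ _
          have c3 : Commute ((⁅b, c⁆ ^ ((s' 0).val : ℤ))⁻¹)
              ((⁅c, a⁆ ^ ((s' 1).val : ℤ))⁻¹) := (hi _ _ _ _).inv_right
          have c4 : Commute ((⁅b, c⁆ ^ ((s' 0).val : ℤ))⁻¹) (⁅a, b⁆ ^ ((s 2).val : ℤ)) :=
            hi _ _ _ _
          have c5 : Commute ((⁅b, c⁆ ^ ((s' 0).val : ℤ))⁻¹) ((⁅a, b⁆ ^ ((s' 2).val : ℤ))⁻¹) :=
            (hi _ _ _ _).inv_right
          have c6 : Commute ((⁅c, a⁆ ^ ((s' 1).val : ℤ))⁻¹) ((⁅a, b⁆ ^ ((s' 2).val : ℤ))⁻¹) :=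
            (hi _ _ _ _).inv_right
          simp only [mul_assoc]
          rw [c1.left_comm, c3.left_comm, c4.left_comm, c5.eq, c2.left_comm,
            c6.left_comm]
      _ = 1 := by rw [h1, mul_inv_cancel]
  obtain ⟨i, hi⟩ := Function.ne_iff.1 hne
  have hti : ((t i : ℤ) : ZMod p) ≠ 0 := by
    simpa [ht, sub_eq_zero] using hi
  fin_cases i
  · exact hrel a b c 0 1 2 _ _ _ (by decide) (by decide) (by decide) ha hb hc hti hrel0
  · refine hrel b c a 1 2 0 (t 1) (t 2) (t 0) (by decide) (by decide) (by decide) hb hc ha hti ?_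
    have := hrel0
    rw [mul_assoc, ((hcen b c _).zpow_left (t 0)).eq] at this
    exact this
  · refine hrel c a b 2 0 1 (t 2) (t 0) (t 1) (by decide) (by decide) (by decide) hc ha hb hti ?_
    have := hrel0
    rw [← ((hcen a b _).zpow_left (t 2)).eq, ← mul_assoc] at this
    exact this

/-- Automorphisms of `p`-power order fix all commutators modulo `℧(P)[P', P]`. -/
theorem commutator_fixed (hP : IsPGroup p P) (hr : SectionalPRankLE p 3 P) {α : MulAut P} {k : ℕ}
    (hα : α ^ p ^ k = 1) (a b : P) :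
    QuotientGroup.mk' (kSub p P) ⁅α a, α b⁆ = QuotientGroup.mk' (kSub p P) ⁅a, b⁆ := by
  set π := QuotientGroup.mk' (kSub p P)
  set I := (commutator P).map π
  have hmem : π ⁅a, b⁆ ∈ I :=
    ⟨_, Subgroup.commutator_mem_commutator (Subgroup.mem_top a) (Subgroup.mem_top b), rfl⟩
  rw [← map_commutatorElement α]
  have hcard := commutator_image_card_le q hq hker hP hr
  let αb : MulAut (P ⧸ kSub p P) := QuotientGroup.congr _ _ α
    (Subgroup.characteristic_iff_map_eq.1 kSub_characteristic α)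
  show αb (π ⁅a, b⁆) = π ⁅a, b⁆
  by_cases hI : Nat.card I = 1
  · have h1 : π ⁅a, b⁆ = 1 := Subgroup.mem_bot.1 (Subgroup.card_eq_one.1 hI ▸ hmem)
    rw [h1, map_one]
  obtain ⟨j, hj⟩ := IsPGroup.iff_card.1 ((hP.to_quotient (kSub p P)).to_subgroup I)
  have hIp : Nat.card I = p := by
    refine le_antisymm hcard ?_
    rw [hj]
    exact Nat.le_self_pow (fun h => hI (by rw [hj, h, pow_zero])) p
  haveI : Fact (Nat.card I).Prime := ⟨hIp.symm ▸ hp.out⟩
  haveI : IsCyclic I := isCyclic_of_prime_card (p := Nat.card I) rfl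
  have hinv : ∀ y ∈ I, αb y ∈ I := by
    rintro _ ⟨x, hx, rfl⟩
    have hfix : (commutator P).map α.toMonoidHom = commutator P :=
      Subgroup.characteristic_iff_map_eq.1 inferInstance α
    exact ⟨α x, hfix ▸ Subgroup.mem_map_of_mem α.toMonoidHom hx, rfl⟩
  let r : I →* I :=
    { toFun := fun y => ⟨αb y, hinv y y.2⟩
      map_one' := Subtype.ext (map_one αb)
      map_mul' := fun x y => Subtype.ext (map_mul αb _ _) }
  obtain ⟨m, hm⟩ := MonoidHom.map_cyclic r
  have hiter : ∀ (n : ℕ) (x : P), π ((α ^ n) x) = (αb ^ n) (π x) := fun n => by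
    induction n with
    | zero => exact fun x => rfl
    | succ n ih =>
      intro x
      rw [pow_succ', pow_succ', MulAut.mul_apply, MulAut.mul_apply, ← ih]
      rfl
  have hpow : ∀ (n : ℕ), (αb ^ n) (π ⁅a, b⁆) = π ⁅a, b⁆ ^ (m ^ n) := fun n => by
    induction n with
    | zero => simp
    | succ n ih =>
      rw [pow_succ', MulAut.mul_apply, ih, map_zpow,
        show αb (π ⁅a, b⁆) = π ⁅a, b⁆ ^ m from congrArg Subtype.val (hm ⟨_, hmem⟩), ← zpow_mul,
        ← pow_succ']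
  by_cases h1 : π ⁅a, b⁆ = 1
  · rw [h1, map_one]
  have hord : orderOf (π ⁅a, b⁆) = p := orderOf_eq_prime (by
    have := pow_card_eq_one' (x := (⟨_, hmem⟩ : I))
    rw [hIp] at this
    exact congrArg Subtype.val this) h1
  have h2 : (π ⁅a, b⁆) ^ (m ^ p ^ k) = π ⁅a, b⁆ ^ (1 : ℤ) := by
    rw [zpow_one, ← hpow, ← hiter, hα, MulAut.one_apply]
  rw [zpow_eq_zpow_iff_modEq, hord, ← ZMod.intCast_eq_intCast_iff, Int.cast_pow,
    ZMod.pow_card_pow, Int.cast_one] at h2
  have h3 : αb (π ⁅a, b⁆) = π ⁅a, b⁆ ^ m := congrArg Subtype.val (hm ⟨_, hmem⟩)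
  rw [h3]
  conv_rhs => rw [← zpow_one (π ⁅a, b⁆)]
  rw [zpow_eq_zpow_iff_modEq, hord, ← ZMod.intCast_eq_intCast_iff, Int.cast_one]
  exact h2

end CfsgLib.FusionRankThree
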