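import Cfsg.Agent.FusionRankThree.Tv

/-!
# Subgroups of `GL₃(p)` with a strongly embedded subgroup: transvections
-/

set_option autoImplicit false

namespace CfsgLib.FusionRankThree

open Matrix

variable {p : ℕ}

/-- `G` has a proper subgroup `Y` controlling its `p`-elements, which contains the Sylow
subgroup `U`. -/
structure Emb (G Y U : Subgroup (GL3 p)) : Prop where
  hp3 : 3 ≤ p
  hUY : U ≤ Y
  hYG : Y ≤ G
  proper : ∃ g ∈ G, g ∉ Y
  hU : IsPGroup p U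
  hU1 : U ≠ ⊥
  syl : ∀ P : Subgroup (GL3 p), P ≤ G → IsPGroup p P → ∃ g ∈ G, ∀ x ∈ P, g * x * g⁻¹ ∈ U
  key : ∀ g ∈ G, ∀ b ∈ Y, b ^ p = 1 → b ≠ 1 → g * b * g⁻¹ ∈ Y → g ∈ Y

variable [hp : Fact p.Prime]

namespace Emb

variable {G Y U : Subgroup (GL3 p)} (e : Emb G Y U)
include e

theorem hUG : U ≤ G := e.hUY.trans e.hYG

theorem three_le : 3 ≤ p := e.hp3

theorem mem_of_commute {g b : GL3 p} (hg : g ∈ G) (hb : b ∈ Y) (hbp : b ^ p = 1) (hb1 : b ≠ 1)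
    (h : Commute g b) : g ∈ Y :=
  e.key g hg b hb hbp hb1 (by rwa [h.eq, mul_inv_cancel_right])

theorem exists_conj_not_mem {b : GL3 p} (hb : b ∈ Y) (hbp : b ^ p = 1) (hb1 : b ≠ 1) :
    ∃ g ∈ G, g * b * g⁻¹ ∈ G ∧ g * b * g⁻¹ ∉ Y := by
  obtain ⟨g, hg, hgY⟩ := e.proper
  exact ⟨g, hg, G.mul_mem (G.mul_mem hg (e.hYG hb)) (G.inv_mem hg),
    fun h => hgY (e.key g hg b hb hbp hb1 h)⟩

theorem lemA {r w : GL3 p} {zr fr zw fw : V3 p} (hr : Tv r zr fr) (hw : Tv w zw fw) (hrY : r ∈ Y)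
    (hwG : w ∈ G) (hwY : w ∉ Y) : fr ⬝ᵥ zw ≠ 0 ∧ fw ⬝ᵥ zr ≠ 0 := by
  have h3 := e.three_le
  have main : ∀ k : GL3 p, k ∈ G → k ^ p = 1 → k ≠ 1 → Commute k r → Commute k w → False :=
    fun k hk hkp hk1 hkr hkw => hwY
      (e.mem_of_commute hwG (e.mem_of_commute hk hrY (hr.pow_p h3) hr.ne_one hkr) hkp hk1 hkw.symm)
  by_cases h1 : fr ⬝ᵥ zw = 0 <;> by_cases h2 : fw ⬝ᵥ zr = 0
  · exact absurd (e.mem_of_commute hwG hrY (hr.pow_p h3) hr.ne_one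
      (hr.commute_of_zero hw h1 h2).symm) hwY
  · obtain ⟨hk, hkw, hkr⟩ := hw.exists_between hr h1 h2
    exact (main _ (G.mul_mem (G.mul_mem hwG (e.hYG hrY)) (G.inv_mem (G.mul_mem (e.hYG hrY) hwG)))
      (hk.pow_p h3) hk.ne_one hkr hkw).elim
  · obtain ⟨hk, hkr, hkw⟩ := hr.exists_between hw h2 h1
    exact (main _ (G.mul_mem (G.mul_mem (e.hYG hrY) hwG) (G.inv_mem (G.mul_mem hwG (e.hYG hrY))))
      (hk.pow_p h3) hk.ne_one hkr hkw).elim
  · exact ⟨h1, h2⟩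

variable {τ : GL3 p} {z f : V3 p}

theorem smul_of_mem_U (hτ : Tv τ z f) (hτU : τ ∈ U) (hτc : ∀ u ∈ U, Commute u τ) {r : GL3 p}
    {y g : V3 p} (hr : Tv r y g) (hrU : r ∈ U) :
    ∃ c : ZMod p, vecMulVec y g = c • vecMulVec z f := by
  have h3 := e.three_le
  obtain ⟨g₀, -, hτ'G, hτ'Y⟩ := e.exists_conj_not_mem (e.hUY hτU) (hτ.pow_p h3) hτ.ne_one
  have hτ' := hτ.conj g₀
  set z' := (g₀ : M3 p) *ᵥ z
  set f' := f ᵥ* ((g₀⁻¹ : GL3 p) : M3 p)
  obtain ⟨h1, h2⟩ := hr.zero_of_commute hτ (hτc r hrU)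
  obtain ⟨p1, p2⟩ := e.lemA hτ hτ' (e.hUY hτU) hτ'G hτ'Y
  -- elements `τ ^ a * r ^ b` of `U`
  have hcomb : ∀ a b : ZMod p, ∃ w ∈ U, (w : M3 p) =
      1 + (a • vecMulVec z f + b • vecMulVec y g) := fun a b => by
    refine ⟨τ ^ a.val * r ^ b.val, U.mul_mem (U.pow_mem hτU _) (U.pow_mem hrU _), ?_⟩
    rw [Units.val_mul, hτ.pow_coe, hr.pow_coe, ZMod.natCast_zmod_val, ZMod.natCast_zmod_val]
    simp only [mul_add, add_mul, one_mul, mul_one, vecMulVec_mul_vecMulVec, dotProduct_smul, h2,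
      smul_zero, zero_smul, vecMulVec_zero, add_zero]
    simp only [smul_vecMulVec]
    abel
  rcases cross_eq_zero_or hτ.hzero h2 h1 hr.hzero with hfg | hzy
  · obtain ⟨a, rfl⟩ := smul_of_cross_eq_zero hτ.hf hfg
    have h2' : f ⬝ᵥ (a • y) = 0 := by rw [dotProduct_smul, h2, smul_zero]
    rw [vecMulVec_smul, ← smul_vecMulVec] at hcomb ⊢
    generalize a • y = y₂ at h2' hcomb ⊢
    by_cases hdep : z ⨯₃ y₂ = 0
    · obtain ⟨c, hc⟩ := smul_of_cross_eq_zero hτ.hz hdep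
      exact ⟨c, by rw [hc, smul_vecMulVec]⟩
    · set y' := (-(f' ⬝ᵥ y₂)) • z + (f' ⬝ᵥ z) • y₂ with hy'
      obtain ⟨w, hwU, hw⟩ := hcomb (-(f' ⬝ᵥ y₂)) (f' ⬝ᵥ z)
      have hy0 : y' ≠ 0 := fun h => by
        have h4 := congrArg (z ⨯₃ ·) h
        simp only [hy', map_add, map_smul, cross_self, smul_zero, zero_add, map_zero] at h4
        exact smul_ne_zero p2 hdep h4
      have hwT : Tv w y' f := by
        refine ⟨?_, hy0, hτ.hf, ?_⟩
        · rw [hw, hy', add_vecMulVec, smul_vecMulVec, smul_vecMulVec]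
        · rw [hy', dotProduct_add, dotProduct_smul, dotProduct_smul, hτ.hzero, h2',
            smul_zero, smul_zero, add_zero]
      refine absurd ?_ (e.lemA hwT hτ' (e.hUY hwU) hτ'G hτ'Y).2
      rw [hy', dotProduct_add, dotProduct_smul, dotProduct_smul, smul_eq_mul, smul_eq_mul]
      ring
  · obtain ⟨a, rfl⟩ := smul_of_cross_eq_zero hτ.hz hzy
    have h1' : (a • g) ⬝ᵥ z = 0 := by rw [smul_dotProduct, h1, smul_zero]
    rw [smul_vecMulVec, ← vecMulVec_smul] at hcomb ⊢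
    generalize a • g = g₂ at h1' hcomb ⊢
    by_cases hdep : f ⨯₃ g₂ = 0
    · obtain ⟨c, hc⟩ := smul_of_cross_eq_zero hτ.hf hdep
      exact ⟨c, by rw [hc, vecMulVec_smul]⟩
    · set g' := (-(g₂ ⬝ᵥ z')) • f + (f ⬝ᵥ z') • g₂ with hg'
      obtain ⟨w, hwU, hw⟩ := hcomb (-(g₂ ⬝ᵥ z')) (f ⬝ᵥ z')
      have hg0 : g' ≠ 0 := fun h => by
        have h4 := congrArg (f ⨯₃ ·) h
        simp only [hg', map_add, map_smul, cross_self, smul_zero, zero_add, map_zero] at h4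
        exact smul_ne_zero p1 hdep h4
      have hwT : Tv w z g' := by
        refine ⟨?_, hτ.hz, hg0, ?_⟩
        · rw [hw, hg', vecMulVec_add, vecMulVec_smul, vecMulVec_smul]
        · rw [hg', add_dotProduct, smul_dotProduct, smul_dotProduct, hτ.hzero, h1',
            smul_zero, smul_zero, add_zero]
      refine absurd ?_ (e.lemA hwT hτ' (e.hUY hwU) hτ'G hτ'Y).1
      rw [hg', add_dotProduct, smul_dotProduct, smul_dotProduct, smul_eq_mul, smul_eq_mul]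
      ring

theorem smul_of_commute (hτ : Tv τ z f) (hτU : τ ∈ U) (hτc : ∀ u ∈ U, Commute u τ) {r w : GL3 p}
    {y g x k : V3 p} (hr : Tv r y g) (hw : Tv w x k) (hrG : r ∈ G) (hwG : w ∈ G)
    (h : Commute r w) : ∃ c : ZMod p, vecMulVec x k = c • vecMulVec y g := by
  have h3 := e.three_le
  let P : Subgroup (GL3 p) :=
    { carrier := {a | a ∈ G ∧ a ^ p = 1 ∧ a ∈ Subgroup.closure {r, w}}
      one_mem' := ⟨G.one_mem, one_pow p, one_mem _⟩
      mul_mem' := fun {a b} ha hb => by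
        refine ⟨G.mul_mem ha.1 hb.1, ?_, mul_mem ha.2.2 hb.2.2⟩
        have hc : ∀ a ∈ Subgroup.closure {r, w}, ∀ b ∈ Subgroup.closure {r, w}, a * b = b * a := by
          have : IsMulCommutative (Subgroup.closure ({r, w} : Set (GL3 p))) :=
            Subgroup.isMulCommutative_closure (by
              rintro a (rfl | rfl) b (rfl | rfl) <;> first | rfl | exact h.eq | exact h.eq.symm)
          exact fun a ha b hb => congrArg Subtype.val (this.is_comm.comm ⟨a, ha⟩ ⟨b, hb⟩)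
        rw [(show Commute a b from hc a ha.2.2 b hb.2.2).mul_pow, ha.2.1, hb.2.1, one_mul]
      inv_mem' := fun {a} ha => ⟨G.inv_mem ha.1, by rw [inv_pow, ha.2.1, inv_one], inv_mem ha.2.2⟩ }
  have hP : IsPGroup p P := fun a => ⟨1, Subtype.ext (by
    rw [pow_one]
    exact a.2.2.1)⟩
  obtain ⟨q, -, hq⟩ := e.syl P (fun a ha => ha.1) hP
  have hr' := hq r ⟨hrG, hr.pow_p h3, Subgroup.subset_closure (by simp)⟩
  have hw' := hq w ⟨hwG, hw.pow_p h3, Subgroup.subset_closure (by simp)⟩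
  obtain ⟨c₁, hc₁⟩ := e.smul_of_mem_U hτ hτU hτc (hr.conj q) hr'
  obtain ⟨c₂, hc₂⟩ := e.smul_of_mem_U hτ hτU hτc (hw.conj q) hw'
  have hc0 : c₁ ≠ 0 := by
    rintro rfl
    rw [zero_smul, vecMulVec_eq_zero] at hc₁
    exact hc₁.elim (hr.conj q).hz (hr.conj q).hf
  refine ⟨c₂ / c₁, ?_⟩
  have hback : ∀ (a b : V3 p), vecMulVec a b = ((q⁻¹ : GL3 p) : M3 p) *
      vecMulVec ((q : M3 p) *ᵥ a) (b ᵥ* ((q⁻¹ : GL3 p) : M3 p)) * (q : M3 p) := fun a b => by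
    rw [mul_vecMulVec, vecMulVec_mul, mulVec_mulVec, vecMul_vecMul, ← Units.val_mul,
      inv_mul_cancel, Units.val_one, one_mulVec, vecMul_one]
  rw [hback x k, hback y g, hc₁, hc₂, mul_smul_comm, smul_mul_assoc, mul_smul_comm, smul_mul_assoc,
    smul_smul, div_mul_cancel₀ c₂ hc0]

theorem zero_iff (hτ : Tv τ z f) (hτU : τ ∈ U) (hτc : ∀ u ∈ U, Commute u τ) {r w : GL3 p}
    {y g x k : V3 p} (hr : Tv r y g) (hw : Tv w x k) (hrG : r ∈ G) (hwG : w ∈ G)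
    (h : k ⬝ᵥ y = 0) : g ⬝ᵥ x = 0 := by
  by_contra hne
  obtain ⟨hk, hkr, hkw⟩ := hr.exists_between hw h hne
  have hkG : r * w * (w * r)⁻¹ ∈ G :=
    G.mul_mem (G.mul_mem hrG hwG) (G.inv_mem (G.mul_mem hwG hrG))
  obtain ⟨c, hc⟩ := e.smul_of_commute hτ hτU hτc hk hr hkG hrG hkr
  obtain ⟨d, hd⟩ := e.smul_of_commute hτ hτU hτc hk hw hkG hwG hkw
  have h1 := congrArg (· *ᵥ x) hc
  have h2 := congrArg (g ᵥ* ·) hd
  simp only [smul_mulVec, vecMulVec_mulVec, smul_dotProduct, hw.hzero, smul_zero,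
    MulOpposite.op_zero, zero_smul, op_smul_eq_smul] at h1
  exact hne ((smul_eq_zero.1 h1).resolve_right hr.hz)

theorem eq_or_eq (hτ : Tv τ z f) (hτU : τ ∈ U) (hτc : ∀ u ∈ U, Commute u τ) {r w : GL3 p}
    {y g x k : V3 p} (hr : Tv r y g) (hw : Tv w x k) (hrG : r ∈ G) (hwG : w ∈ G)
    (h : k ⬝ᵥ y = 0) : ∃ c : ZMod p, vecMulVec x k = c • vecMulVec y g :=
  e.smul_of_commute hτ hτU hτc hr hw hrG hwG
    (hr.commute_of_zero hw (e.zero_iff hτ hτU hτc hr hw hrG hwG h) h)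

end Emb

end CfsgLib.FusionRankThree
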