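import Cfsg.Agent.FusionRankThree.Linear
import Cfsg.Agent.FusionRankThree.Derived
import Cfsg.Agent.FusionSub.Essential
import Cfsg.Agent.FusionSub.Generation

/-!
# Coordinates on an essential subgroup needing three generators
-/

set_option autoImplicit false
set_option linter.style.haveILetI false

namespace CfsgLib.FusionRankThree

open Cfsg Cfsg.FusionSystem CfsgLib.Fusion CfsgLib.FusionEssential Matrix
open scoped commutatorElement

variable {Ω : Type*} [Group Ω] {S : Subgroup Ω}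

/-- Coordinates on the Frattini quotient of `E` adapted to `N_S(E)`. -/
structure Frame (F : FusionSystem S) (p : ℕ) (E : Subgroup Ω) where
  q : Ω → V3 p
  x : Ω
  X : GL3 p
  G : Subgroup (GL3 p)
  le : E ≤ S
  mul : ∀ a ∈ E, ∀ b ∈ E, q (a * b) = q a + q b
  surj : ∀ w, ∃ a ∈ E, q a = w
  ker : ∀ (a : Ω) (ha : a ∈ E), q a = 0 ↔ (⟨a, ha⟩ : E) ∈ frattini E
  xN : x ∈ normalizerIn S E
  xE : x ∉ E
  xp : x ^ p ∈ E
  Xp : X ^ p = 1
  X1 : X ≠ 1
  XG : X ∈ G
  gen : ∀ g ∈ normalizerIn S E, ∃ n : ℕ, (x ^ n)⁻¹ * g ∈ E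
  conjx : ∀ e ∈ E, q (x * e * x⁻¹) = (X : M3 p) *ᵥ q e
  act : ∀ M ∈ G, ∃ α ∈ F.autGroup E, (M ^ p = 1 → ∃ j : ℕ, α ^ p ^ j = 1) ∧
    ∀ e : E, q (α e : Ω) = (M : M3 p) *ᵥ q e
  aut : ∀ α ∈ F.autGroup E, ∃ M ∈ G, ∀ e : E, q (α e : Ω) = (M : M3 p) *ᵥ q e
  norm : ∀ α ∈ F.autGroup E, ∀ (M : GL3 p) (k : ℕ),
    (∀ e : E, q (α e : Ω) = (M : M3 p) *ᵥ q e) → M * X = X ^ k * M →
      ∀ β ∈ autInducedBy S E, α * β * α⁻¹ ∈ autInducedBy S E

/-- The map induced on the Frattini quotient. -/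
def quotBar (P : Type*) [Group P] : MulAut P →* MulAut (P ⧸ frattini P) where
  toFun α := QuotientGroup.congr _ _ α (Subgroup.characteristic_iff_map_eq.1 inferInstance α)
  map_one' := by
    refine MulEquiv.ext fun x => ?_
    obtain ⟨x, rfl⟩ := QuotientGroup.mk'_surjective _ x
    rfl
  map_mul' a b := by
    refine MulEquiv.ext fun x => ?_
    obtain ⟨x, rfl⟩ := QuotientGroup.mk'_surjective _ x
    rfl

theorem quotBar_mk {P : Type*} [Group P] (α : MulAut P) (x : P) :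
    quotBar P α (QuotientGroup.mk' _ x) = QuotientGroup.mk' _ (α x) := rfl

variable [Finite S] {F : FusionSystem S} {p : ℕ} [hp : Fact p.Prime] {E : Subgroup Ω}

/-- Coordinates exist, in one of the two cases. -/
theorem exists_frame (hp3 : 3 ≤ p) (hS : IsPGroup p S) (hF : F.IsSaturated p)
    (hE : F.IsEssential p E) (hrk : (frattini E).index = p ^ 3) :
    ∃ d : Frame F p E,
      ((d.X : M3 p) = !![1, 0, 0; 0, 1, 0; 1, 0, 1] ∧
        (∃ a : ZMod p, a ≠ 0 ∧ ∃ w ∈ d.G, w ^ p = 1 ∧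
          (w : M3 p) = !![1, 0, a; 0, 1, 0; 0, 0, 1]) ∧
        ∀ l : ZMod p, l ≠ 0 → ∃ t ∈ d.G, (t : M3 p) = !![l⁻¹, 0, 0; 0, 1, 0; 0, 0, l]) ∨
      ((d.X : M3 p) = !![1, 0, 0; 1, 1, 0; 0, 1, 1] ∧
        ∀ W : Submodule (ZMod p) (V3 p), W ≠ ⊥ →
          (∀ h ∈ d.G, ∀ w ∈ W, (h : M3 p) *ᵥ w ∈ W) → W = ⊤) := by
  classical
  have hES : E ≤ S := hE.1.1
  haveI := finite_of_le hES
  have hEp : IsPGroup p E := hS.to_le hES
  obtain ⟨hauto, -⟩ := automized_receptive hS hF hE.2.1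
  obtain ⟨T, hT⟩ := hauto.2
  obtain ⟨hnorm, E₁, hE₁⟩ := hE.2.2
  -- the Frattini quotient
  set π := QuotientGroup.mk' (frattini E) with hπ
  have hVc : ∀ a b : E ⧸ frattini E, a * b = b * a := fun a b => by
    obtain ⟨a, rfl⟩ := QuotientGroup.mk'_surjective _ a
    obtain ⟨b, rfl⟩ := QuotientGroup.mk'_surjective _ b
    rw [← commutatorElement_eq_one_iff_mul_comm, ← map_commutatorElement]
    exact (QuotientGroup.eq_one_iff _).2 (Solvable.commutator_le_frattini hEp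
      (Subgroup.commutator_mem_commutator (Subgroup.mem_top a) (Subgroup.mem_top b)))
  have hVe : ∀ a : E ⧸ frattini E, a ^ p = 1 := fun a => by
    obtain ⟨a, rfl⟩ := QuotientGroup.mk'_surjective _ a
    rw [← map_pow]
    exact (QuotientGroup.eq_one_iff _).2 (Solvable.pow_mem_frattini hEp a)
  obtain ⟨f⟩ := exists_mulEquiv_fin_of_elementary hVc hVe (d := 3)
    (by rw [← Subgroup.index_eq_card, hrk])
  let ρ : F.autGroup E →* GL3 p :=
    (((autMatrix f).comp (quotBar E)).comp (F.autGroup E).subtype).toHomUnits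
  have hρ : ∀ (α : F.autGroup E) (e : E), (f (π ((α : MulAut E) e))).toAdd =
      (ρ α : M3 p) *ᵥ (f (π e)).toAdd := fun α e => by
    show _ = (autMatrix f (quotBar E α)) *ᵥ (f (π e)).toAdd
    rw [autMatrix_mulVec, ofAdd_toAdd, MulEquiv.symm_apply_apply, quotBar_mk]
  have hker1 : ∀ α : F.autGroup E, ρ α = 1 → ∀ e : E, (α : MulAut E) e * e⁻¹ ∈ frattini E := by
    intro α hα e
    have h1 := hρ α e
    rw [hα, Units.val_one, one_mulVec] at h1
    have h2 := f.injective (Multiplicative.toAdd.injective h1)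
    refine (QuotientGroup.eq_one_iff _).1 ?_
    show π ((α : MulAut E) e * e⁻¹) = 1
    rw [map_mul, map_inv, h2, mul_inv_cancel]
  have hkerp : IsPGroup p ρ.ker := fun α => by
    obtain ⟨k, hk⟩ := exists_pow_eq_one_of_frattini hEp (hker1 α α.2)
    exact ⟨k, Subtype.ext (Subtype.ext hk)⟩
  have hkerInn : ∀ α : F.autGroup E, ρ α = 1 → (α : MulAut E) ∈ Inn E := fun α hα =>
    map_le_Inn hE (K := ρ.ker) inferInstance hkerp ⟨α, hα, rfl⟩
  have hInnker : ∀ α : F.autGroup E, (α : MulAut E) ∈ Inn E → ρ α = 1 := by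
    rintro α ⟨e₀, he₀⟩
    refine Units.ext (Matrix.ext_of_mulVec_single fun i => ?_)
    obtain ⟨e, he⟩ : ∃ e, (f (π e)).toAdd = Pi.single i (1 : ZMod p) := by
      obtain ⟨e, he⟩ := QuotientGroup.mk'_surjective (frattini E)
        (f.symm (Multiplicative.ofAdd (Pi.single i 1)))
      exact ⟨e, by rw [hπ, he, MulEquiv.apply_symm_apply, toAdd_ofAdd]⟩
    rw [Units.val_one, one_mulVec, ← he, ← hρ]
    refine congrArg (fun y => (f y).toAdd) ?_
    rw [← he₀]
    show π (e₀ * e * e₀⁻¹) = π e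
    rw [map_mul, map_mul, map_inv, hVc (π e₀), mul_inv_cancel_right]
  -- the strongly embedded subgroup
  let mkQ : F.autGroup E →* F.autGroup E ⧸ (Inn E).subgroupOf (F.autGroup E) :=
    QuotientGroup.mk' _
  obtain ⟨R₀, -, hR₀, -⟩ := EvenType.exists_sylow_le_of_isStronglyPEmbedded hE₁
  obtain ⟨a, ha⟩ := exists_conj_mem_sylow R₀ (T.isPGroup'.map mkQ)
  let h₀ : F.autGroup E →* F.autGroup E ⧸ (Inn E).subgroupOf (F.autGroup E) :=
    (MulAut.conj a).toMonoidHom.comp mkQ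
  have hh₀ : ∀ α, h₀ α = 1 ↔ ρ α = 1 := by
    intro α
    show (MulAut.conj a) (mkQ α) = 1 ↔ _
    rw [MulEquiv.map_eq_one_iff]
    constructor
    · exact fun h => hInnker α
        (Subgroup.mem_subgroupOf.1 ((QuotientGroup.eq_one_iff α).1 h))
    · exact fun h => (QuotientGroup.eq_one_iff α).2 (Subgroup.mem_subgroupOf.2 (hkerInn α h))
  let Y := (E₁.comap h₀).map ρ
  have hY : ∀ α, ρ α ∈ Y ↔ h₀ α ∈ E₁ := by
    intro α
    refine ⟨?_, fun h => ⟨α, h, rfl⟩⟩
    rintro ⟨β, hβ, he⟩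
    have h1 : h₀ (β⁻¹ * α) = 1 := (hh₀ _).2 (by rw [map_mul, map_inv, he, inv_mul_cancel])
    rw [map_mul, map_inv, inv_mul_eq_one] at h1
    exact h1 ▸ hβ
  obtain ⟨g₀, hg₀⟩ := FusionRankTwo.exists_normalizer_not_mem hS hF hE
  have hind : ∀ {g : Ω}, g ∈ normalizerIn S E → ∃ α : F.autGroup E,
      α ∈ (T : Subgroup (F.autGroup E)) ∧ ∀ e : E, ((α : MulAut E) e : Ω) = g * e * g⁻¹ := by
    intro g hg
    have hmem : (E.normalizerMonoidHom ⟨g, hg.2⟩ : MulAut E) ∈ autInducedBy S E :=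
      mem_autInducedBy_iff.2 ⟨g, hg.1, hg.2, fun _ => rfl⟩
    exact ⟨⟨_, autInducedBy_le_autGroup hES hmem⟩, hT.symm ▸ hmem, fun _ => rfl⟩
  have hnotin : ∀ {g : Ω}, g ∈ normalizerIn S E → ∀ α : F.autGroup E,
      (∀ e : E, ((α : MulAut E) e : Ω) = g * e * g⁻¹) → ρ α = 1 → g ∈ E := by
    intro g hg α hα h1
    by_contra hgE
    exact not_mem_Inn_of_not_mem hE.1 hg hgE hα (hkerInn α h1)
  have e : Emb ρ.range Y ((T : Subgroup (F.autGroup E)).map ρ) := by
    refine ⟨hp3, ?_, ?_, ?_, T.isPGroup'.map ρ, ?_, ?_, ?_⟩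
    · rintro _ ⟨α, hα, rfl⟩
      exact (hY α).2 (hR₀ (ha _ ⟨α, hα, rfl⟩))
    · rintro _ ⟨α, -, rfl⟩
      exact ⟨α, rfl⟩
    · by_contra hc
      push Not at hc
      refine hE₁.2.1 (eq_top_iff.2 fun z _ => ?_)
      obtain ⟨w, hw⟩ := QuotientGroup.mk'_surjective _ (a⁻¹ * z * a)
      have h1 := (hY w).1 (hc _ ⟨w, rfl⟩)
      rwa [show h₀ w = z by
        show a * mkQ w * a⁻¹ = z
        rw [show mkQ w = a⁻¹ * z * a from hw]; group] at h1
    · obtain ⟨α, hαT, hα⟩ := hind g₀.2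
      intro hbot
      have h1 : ρ α ∈ (T : Subgroup (F.autGroup E)).map ρ := ⟨α, hαT, rfl⟩
      rw [hbot, Subgroup.mem_bot] at h1
      exact hg₀ (hnotin g₀.2 α hα h1)
    · intro P hP hPp
      obtain ⟨b, hb⟩ := exists_conj_mem_sylow T (hPp.comap_of_ker_isPGroup ρ hkerp)
      refine ⟨ρ b, ⟨b, rfl⟩, fun y hy => ?_⟩
      obtain ⟨α, rfl⟩ := hP hy
      exact ⟨_, hb α hy, by rw [map_mul, map_mul, map_inv]⟩
    · intro g hg b hb hbp hb1 hgb
      obtain ⟨α, rfl⟩ := hg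
      obtain ⟨β, hβ, rfl⟩ := hb
      rw [← map_mul, ← map_inv, ← map_mul, hY] at hgb
      rw [hY]
      refine FusionSub.mem_of_conj_le_stronglyPEmbedded hE₁ (X := Subgroup.zpowers (h₀ β))
        (Subgroup.zpowers_le.2 hβ) ?_
        (by rw [ne_eq, Subgroup.zpowers_eq_bot, hh₀]; exact hb1) ?_
      · refine isPGroup_zpowers_of_pow_eq_one (k := 1) ?_
        rw [pow_one, ← map_pow, hh₀, map_pow, hbp]
      · rintro _ ⟨l, rfl⟩
        show h₀ α * h₀ β ^ l * (h₀ α)⁻¹ ∈ E₁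
        rw [← conj_zpow]
        refine zpow_mem ?_ l
        rwa [← map_inv, ← map_mul, ← map_mul]
  obtain ⟨B, hB⟩ := e.dichotomy
  set cB : GL3 p ≃* GL3 p := MulAut.conj B⁻¹ with hcB
  obtain ⟨u, hU, hcase⟩ : ∃ u : GL3 p,
      ((T : Subgroup (F.autGroup E)).map ρ).map cB.toMonoidHom = Subgroup.zpowers u ∧
      (((u : M3 p) = !![1, 0, 0; 0, 1, 0; 1, 0, 1] ∧
        (∃ a : ZMod p, a ≠ 0 ∧ ∃ w ∈ ρ.range.map cB.toMonoidHom, w ^ p = 1 ∧
          (w : M3 p) = !![1, 0, a; 0, 1, 0; 0, 0, 1]) ∧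
        ∀ l : ZMod p, l ≠ 0 → ∃ t ∈ ρ.range.map cB.toMonoidHom,
          (t : M3 p) = !![l⁻¹, 0, 0; 0, 1, 0; 0, 0, l]) ∨
      ((u : M3 p) = !![1, 0, 0; 1, 1, 0; 0, 1, 1] ∧
        ∀ W : Submodule (ZMod p) (V3 p), W ≠ ⊥ →
          (∀ h ∈ ρ.range.map cB.toMonoidHom, ∀ w ∈ W, (h : M3 p) *ᵥ w ∈ W) → W = ⊤)) := by
    rcases hB with h | h <;> obtain ⟨u, hu, hU⟩ := h.gen
    exacts [⟨u, hU, Or.inl ⟨hu, h.opp, h.torus⟩⟩, ⟨u, hU, Or.inr ⟨hu, h.irr⟩⟩]
  obtain ⟨_, ⟨αx, hαxT, rfl⟩, hux⟩ : u ∈ ((T : Subgroup (F.autGroup E)).map ρ).map cB.toMonoidHom :=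
    hU ▸ Subgroup.mem_zpowers u
  change cB (ρ αx) = u at hux
  obtain ⟨x, hxS, hxn, hxα⟩ := mem_autInducedBy_iff.1
    (Subgroup.mem_subgroupOf.1 (hT.le hαxT))
  have hxN : x ∈ normalizerIn S E := ⟨hxS, hxn⟩
  have hUp : IsPGroup p (((T : Subgroup (F.autGroup E)).map ρ).map cB.toMonoidHom) :=
    (T.isPGroup'.map ρ).map _
  have hup : u ^ p = 1 := pow_p_of_mem (by omega) hUp (hU ▸ Subgroup.mem_zpowers u)
  have hu1 : u ≠ 1 := fun h => (e.map cB).hU1 (by rw [hU, h, Subgroup.zpowers_one_eq_bot])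
  let q : Ω → V3 p := fun a => if h : a ∈ E then
    ((B⁻¹ : GL3 p) : M3 p) *ᵥ (f (π ⟨a, h⟩)).toAdd else 0
  have hq : ∀ a : E, q (a : Ω) = ((B⁻¹ : GL3 p) : M3 p) *ᵥ (f (π a)).toAdd := fun a =>
    dif_pos a.2
  have hqρ : ∀ (α : F.autGroup E) (a : E),
      q ((α : MulAut E) a : Ω) = (cB (ρ α) : M3 p) *ᵥ q (a : Ω) := by
    intro α a
    rw [hq, hq, hρ, mulVec_mulVec, mulVec_mulVec]
    congr 1
    rw [hcB, MulAut.conj_apply, inv_inv, ← Units.val_mul, ← Units.val_mul, mul_assoc, mul_assoc,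
      mul_inv_cancel, mul_one]
  have hinjq : ∀ M M' : GL3 p, (∀ a : E, (M : M3 p) *ᵥ q (a : Ω) = (M' : M3 p) *ᵥ q (a : Ω)) →
      M = M' := by
    intro M M' h
    refine Units.ext (Matrix.ext_of_mulVec_single fun i => ?_)
    obtain ⟨a, ha⟩ := QuotientGroup.mk'_surjective (frattini E)
      (f.symm (Multiplicative.ofAdd ((B : M3 p) *ᵥ Pi.single i 1)))
    have h1 := h a
    rwa [hq, hπ, ha, MulEquiv.apply_symm_apply, toAdd_ofAdd,
      mulVec_mulVec (v := Pi.single i (1 : ZMod p)) (M := ((B⁻¹ : GL3 p) : M3 p)),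
      ← Units.val_mul, inv_mul_cancel, Units.val_one, one_mulVec] at h1
  let d : Frame F p E :=
    { q := q
      x := x
      X := u
      G := ρ.range.map cB.toMonoidHom
      le := hES
      mul := fun a ha b hb => by
        rw [show a = ((⟨a, ha⟩ : E) : Ω) from rfl, show b = ((⟨b, hb⟩ : E) : Ω) from rfl,
          ← Subgroup.coe_mul, hq, hq, hq, map_mul, map_mul, toAdd_mul, mulVec_add]
      surj := fun w => by
        obtain ⟨a, ha⟩ := QuotientGroup.mk'_surjective (frattini E)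
          (f.symm (Multiplicative.ofAdd ((B : M3 p) *ᵥ w)))
        refine ⟨a, a.2, ?_⟩
        rw [hq, hπ, ha, MulEquiv.apply_symm_apply, toAdd_ofAdd, mulVec_mulVec, ← Units.val_mul,
          inv_mul_cancel, Units.val_one, one_mulVec]
      ker := fun a ha => by
        rw [show q a = q ((⟨a, ha⟩ : E) : Ω) from rfl, hq,
          ← QuotientGroup.eq_one_iff (N := frattini E)]
        constructor
        · intro h
          have h1 := congrArg ((B : M3 p) *ᵥ ·) h
          simp only [mulVec_mulVec, ← Units.val_mul, mul_inv_cancel, Units.val_one, one_mulVec,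
            mulVec_zero] at h1
          exact f.injective ((Multiplicative.toAdd.injective
            (h1.trans toAdd_one.symm)).trans (map_one f).symm)
        · intro h
          rw [show π ⟨a, ha⟩ = 1 from h, map_one, toAdd_one, mulVec_zero]
      xN := hxN
      xE := fun hxE => hu1 (by
        rw [← hux, hInnker αx ⟨⟨x, hxE⟩, MulEquiv.ext fun e => Subtype.ext (hxα e).symm⟩, map_one])
      xp := by
        refine hnotin ((normalizerIn S E).pow_mem hxN p) (αx ^ p) ?_ ?_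
        · have : ∀ (n : ℕ) (a : E), (((αx ^ n : F.autGroup E) : MulAut E) a : Ω) =
              x ^ n * a * (x ^ n)⁻¹ := by
            intro n
            induction n with
            | zero => simp
            | succ n ih =>
              intro a
              rw [pow_succ', Subgroup.coe_mul, MulAut.mul_apply, hxα, ih, pow_succ']
              group
          exact this p
        · refine cB.injective ?_
          rw [map_pow, map_pow, hux, hup, map_one]
      Xp := hup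
      X1 := hu1
      XG := ⟨_, ⟨αx, rfl⟩, hux⟩
      gen := fun g hg => by
        obtain ⟨α, hαT, hα⟩ := hind hg
        have h1 : cB (ρ α) ∈ Subgroup.zpowers u := hU ▸ ⟨_, ⟨α, hαT, rfl⟩, rfl⟩
        rw [← mem_powers_iff_mem_zpowers, Submonoid.mem_powers_iff] at h1
        obtain ⟨n, hn⟩ := h1
        refine ⟨n, hnotin ((normalizerIn S E).mul_mem ((normalizerIn S E).inv_mem
          ((normalizerIn S E).pow_mem hxN n)) hg) ((αx ^ n)⁻¹ * α) ?_ ?_⟩
        · have : ∀ (m : ℕ) (a : E), (((αx ^ m : F.autGroup E) : MulAut E) a : Ω) =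
              x ^ m * a * (x ^ m)⁻¹ := by
            intro m
            induction m with
            | zero => simp
            | succ m ih =>
              intro a
              rw [pow_succ', Subgroup.coe_mul, MulAut.mul_apply, hxα, ih, pow_succ']
              group
          intro a
          have hb := this n ((((αx ^ n : F.autGroup E) : MulAut E))⁻¹ ((α : MulAut E) a))
          rw [MulAut.apply_inv_self, hα] at hb
          show (((((αx ^ n)⁻¹ : F.autGroup E) : MulAut E) * (α : MulAut E)) a : Ω) = _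
          rw [MulAut.mul_apply, Subgroup.coe_inv]
          calc _ = (x ^ n)⁻¹ * (x ^ n * ((((αx ^ n : F.autGroup E) : MulAut E))⁻¹
                ((α : MulAut E) a) : Ω) * (x ^ n)⁻¹) * x ^ n := by group
            _ = (x ^ n)⁻¹ * (g * a * g⁻¹) * x ^ n := by rw [← hb]
            _ = _ := by group
        · refine cB.injective ?_
          rw [map_mul, map_inv, map_mul, map_inv, map_pow, map_pow, hux, hn, inv_mul_cancel,
            map_one]
      conjx := fun a ha => by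
        rw [← hux, ← hqρ αx ⟨a, ha⟩, hxα]
      act := by
        rintro _ ⟨_, ⟨α, rfl⟩, rfl⟩
        refine ⟨α, α.2, fun h => ?_, hqρ α⟩
        have h1 : α ^ p ∈ ρ.ker := by
          rw [MonoidHom.mem_ker, map_pow]
          exact cB.injective (by rw [map_pow, map_one]; exact h)
        obtain ⟨j, hj⟩ := hkerp ⟨_, h1⟩
        refine ⟨j + 1, ?_⟩
        have h2 := congrArg (fun z : ρ.ker => ((z : F.autGroup E) : MulAut E)) hj
        rw [pow_succ', pow_mul]
        simpa using h2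
      aut := fun α hα => ⟨_, ⟨_, ⟨⟨α, hα⟩, rfl⟩, rfl⟩, hqρ ⟨α, hα⟩⟩
      norm := fun α hα M k hM hMX β hβ => by
        obtain rfl : cB (ρ ⟨α, hα⟩) = M :=
          hinjq _ _ fun a => (hqρ ⟨α, hα⟩ a).symm.trans (hM a)
        set α' : F.autGroup E := ⟨α, hα⟩
        have hβT : (⟨β, autInducedBy_le_autGroup hES hβ⟩ : F.autGroup E) ∈
            (T : Subgroup (F.autGroup E)) := hT.symm ▸ hβ
        set β' : F.autGroup E := ⟨β, autInducedBy_le_autGroup hES hβ⟩
        obtain ⟨n, hn⟩ : ∃ n : ℕ, u ^ n = cB (ρ β') := by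
          rw [← Submonoid.mem_powers_iff, mem_powers_iff_mem_zpowers, ← hU]
          exact ⟨_, ⟨β', hβT, rfl⟩, rfl⟩
        have h1 : cB (ρ (α' * β' * α'⁻¹)) = cB (ρ (αx ^ (k * n))) := by
          rw [map_mul, map_mul, map_inv, map_mul, map_mul, map_inv, map_pow, map_pow, hux, ← hn,
            ← conj_pow, hMX, mul_inv_cancel_right, ← pow_mul]
        have h2 : ρ ((αx ^ (k * n))⁻¹ * (α' * β' * α'⁻¹)) = 1 := by
          rw [map_mul, map_inv, cB.injective h1, inv_mul_cancel]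
        have h3 := (autInducedBy S E).mul_mem
          ((autInducedBy S E).pow_mem (Subgroup.mem_subgroupOf.1 (hT.le hαxT)) (k * n))
          (Inn_le_autInducedBy hES (hkerInn _ h2))
        simpa [α', β'] using h3 }
  exact ⟨d, hcase⟩

end CfsgLib.FusionRankThree
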