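import Cfsg.Agent.FusionRankThree.LinearR

/-!
# Subgroups of `GL₃(p)` with a strongly embedded subgroup: the dichotomy
-/

set_option autoImplicit false

namespace CfsgLib.FusionRankThree

open Matrix

variable {p : ℕ} [hp : Fact p.Prime]

namespace Emb

variable {G Y U : Subgroup (GL3 p)} (e : Emb G Y U)
include e

theorem irreducible {u : GL3 p} (hu : (u : M3 p) = !![1, 0, 0; 1, 1, 0; 0, 1, 1])
    (hU : U = Subgroup.zpowers u) (W : Submodule (ZMod p) (V3 p)) (hW : W ≠ ⊥)
    (hinv : ∀ h ∈ G, ∀ w ∈ W, (h : M3 p) *ᵥ w ∈ W) : W = ⊤ := by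
  classical
  have huG : u ∈ G := e.hUG (hU ▸ Subgroup.mem_zpowers u)
  have hN : ∀ w ∈ W, (![0, w 0, w 1] : V3 p) ∈ W := by
    intro w hw
    have h := W.sub_mem (hinv u huG w hw) hw
    convert h using 1
    funext i
    fin_cases i <;> simp [hu, Matrix.mulVec, dotProduct, Fin.sum_univ_three]
  -- `W` contains the last coordinate line
  obtain ⟨w, hw, hw0⟩ := Submodule.exists_mem_ne_zero_of_ne_bot hW
  have e2 : (![0, 0, 1] : V3 p) ∈ W := by
    by_cases h0 : w 0 = 0
    · by_cases h1 : w 1 = 0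
      · have h2 : w 2 ≠ 0 := fun h2 => hw0 (funext fun i => by fin_cases i <;> assumption)
        convert W.smul_mem (w 2)⁻¹ hw using 1
        funext i
        fin_cases i <;> simp [h0, h1, h2]
      · have h := W.smul_mem (w 1)⁻¹ (hN w hw)
        convert h using 1
        funext i
        fin_cases i <;> simp [Matrix.vecHead, Matrix.vecTail, h0, h1]
    · have h := W.smul_mem (w 0)⁻¹ (hN _ (hN w hw))
      convert h using 1
      funext i
      fin_cases i <;> simp [Matrix.vecHead, Matrix.vecTail, h0]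
  -- `W` contains the middle coordinate line
  have e1 : (![0, 1, 0] : V3 p) ∈ W := by
    by_contra hne
    refine e.no_fixed_line hu hU fun h hh => ?_
    have hm := hinv h hh _ e2
    have key : ∀ x ∈ W, x 0 = 0 ∧ x 1 = 0 := by
      intro x hx
      by_cases h0 : x 0 = 0
      · refine ⟨h0, by_contra fun h1 => hne ?_⟩
        convert W.smul_mem (x 1)⁻¹ (W.sub_mem hx (W.smul_mem (x 2) e2)) using 1
        funext i
        fin_cases i <;> simp [Matrix.vecHead, Matrix.vecTail, h0, h1]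
      · refine absurd ?_ hne
        convert W.smul_mem (x 0)⁻¹ (W.sub_mem (hN x hx) (W.smul_mem (x 1) e2)) using 1
        funext i
        fin_cases i <;> simp [Matrix.vecHead, Matrix.vecTail, h0]
    simpa [Matrix.mulVec, dotProduct, Fin.sum_univ_three] using key _ hm
  refine eq_top_iff.2 fun x _ => ?_
  by_cases hall : ∀ x ∈ W, x 0 = 0
  · -- an invariant plane gives a fixed line of the dual system
    exfalso
    have hd : ((dual u)⁻¹ : GL3 p) = u := by
      refine Units.ext ?_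
      show revT (u : M3 p) = u
      rw [hu]
      ext i j
      fin_cases i <;> fin_cases j <;> simp [revT, Fin.rev]
    refine (e.map dual).no_fixed_line hu ?_ ?_
    · rw [hU, MonoidHom.map_zpowers, show dual.toMonoidHom u = u⁻¹ from inv_eq_iff_eq_inv.1 hd,
        Subgroup.zpowers_inv]
    · rintro _ ⟨h, hh, rfl⟩
      have a1 := hall _ (hinv h⁻¹ (G.inv_mem hh) _ e1)
      have a2 := hall _ (hinv h⁻¹ (G.inv_mem hh) _ e2)
      change (dual h : M3 p) 0 2 = 0 ∧ (dual h : M3 p) 1 2 = 0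
      rw [coe_dual]
      generalize ((h⁻¹ : GL3 p) : M3 p) = M at a1 a2 ⊢
      simp [Matrix.mulVec, dotProduct, Fin.sum_univ_three] at a1 a2
      exact ⟨by simpa [revT, Fin.rev] using a2, by simpa [revT, Fin.rev] using a1⟩
  · push Not at hall
    obtain ⟨y, hy, hy0⟩ := hall
    have e0 : (![1, 0, 0] : V3 p) ∈ W := by
      convert W.smul_mem (y 0)⁻¹
        (W.sub_mem (W.sub_mem hy (W.smul_mem (y 1) e1)) (W.smul_mem (y 2) e2)) using 1
      funext i
      fin_cases i <;> simp [Matrix.vecHead, Matrix.vecTail, hy0]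
    convert W.add_mem (W.add_mem (W.smul_mem (x 0) e0) (W.smul_mem (x 1) e1))
      (W.smul_mem (x 2) e2) using 1
    funext i
    fin_cases i <;> simp

/-- The dichotomy. -/
theorem dichotomy : ∃ B : GL3 p,
    IsT (G.map (MulAut.conj B⁻¹).toMonoidHom) (U.map (MulAut.conj B⁻¹).toMonoidHom) ∨
    IsR (G.map (MulAut.conj B⁻¹).toMonoidHom) (U.map (MulAut.conj B⁻¹).toMonoidHom) := by
  have h3 := e.three_le
  by_cases hT : ∃ τ ∈ U, (∀ w ∈ U, Commute w τ) ∧ τ ≠ 1 ∧
      ((τ : M3 p) - 1) * ((τ : M3 p) - 1) = 0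
  · obtain ⟨τ, hτU, hτc, hτ1, hτ2⟩ := hT
    obtain ⟨z, f, hτ⟩ := Tv.of_sq_zero hτ2 hτ1
    obtain ⟨B, hB⟩ := e.exists_isT hτ hτU hτc
    exact ⟨B, Or.inl hB⟩
  · push Not at hT
    haveI : Nontrivial U := (Subgroup.nontrivial_iff_ne_bot U).2 e.hU1
    haveI := e.hU.center_nontrivial
    obtain ⟨u₀, hu₀⟩ := exists_ne (1 : Subgroup.center U)
    set u : GL3 p := ((u₀ : U) : GL3 p) with hu
    have huU : u ∈ U := (u₀ : U).2
    have huc : ∀ x ∈ U, Commute x u := fun x hx =>
      congrArg Subtype.val (Subgroup.mem_center_iff.1 u₀.2 ⟨x, hx⟩)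
    have hu1 : u ≠ 1 := fun h => hu₀ (Subtype.ext (Subtype.ext h))
    have hN := hT u huU huc hu1
    obtain ⟨m, hm⟩ := e.hU ⟨u, huU⟩
    have hN3 := cube_of_pow_eq_one (u := u) (m := m) (congrArg Subtype.val hm)
    set N := (u : M3 p) - 1 with hNdef
    obtain ⟨v, hv⟩ : ∃ v, (N * N) *ᵥ v ≠ 0 := by
      by_contra h
      push Not at h
      exact hN (Matrix.ext_of_mulVec_single fun i => by rw [h, Matrix.zero_mulVec])
    let B₀ : M3 p := Matrix.of fun i k => ![v, N *ᵥ v, (N * N) *ᵥ v] k i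
    have hB : ∀ x : V3 p, B₀ *ᵥ x = x 0 • v + x 1 • (N *ᵥ v) + x 2 • ((N * N) *ᵥ v) := fun x => by
      funext i
      simp [B₀, Matrix.mulVec, dotProduct, Fin.sum_univ_three, mul_comm]
    have h4 : N *ᵥ ((N * N) *ᵥ v) = 0 := by
      rw [mulVec_mulVec, ← mul_assoc, ← pow_two, ← pow_succ, hN3, zero_mulVec]
    have h5 : N *ᵥ (N *ᵥ v) = (N * N) *ᵥ v := by rw [mulVec_mulVec]
    have hdet : B₀.det ≠ 0 := by
      intro hd
      obtain ⟨x, hx0, hx⟩ := Matrix.exists_mulVec_eq_zero_iff.2 hd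
      rw [hB] at hx
      have e1 := congrArg (fun y => N *ᵥ (N *ᵥ y)) hx
      simp only [mulVec_add, mulVec_smul, h4, h5, mulVec_zero, smul_zero, add_zero,
        smul_eq_zero, or_iff_left hv] at e1
      rw [e1, zero_smul, zero_add] at hx
      have e2 := congrArg (fun y => N *ᵥ y) hx
      simp only [mulVec_add, mulVec_smul, h4, h5, mulVec_zero, smul_zero, add_zero,
        smul_eq_zero, or_iff_left hv] at e2
      rw [e2, zero_smul, zero_add, smul_eq_zero, or_iff_left hv] at hx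
      exact hx0 (funext fun i => by fin_cases i <;> assumption)
    let B : GL3 p := Matrix.GeneralLinearGroup.mkOfDetNeZero B₀ hdet
    set φ : GL3 p ≃* GL3 p := MulAut.conj B⁻¹ with hφ
    have hu' : ((φ u : GL3 p) : M3 p) = !![1, 0, 0; 1, 1, 0; 0, 1, 1] := by
      rw [hφ, MulAut.conj_apply, inv_inv, Units.val_mul, Units.val_mul, mul_assoc]
      have hcomm : (u : M3 p) * B₀ = B₀ * !![1, 0, 0; 1, 1, 0; 0, 1, 1] := by
        refine Matrix.ext_of_mulVec_single fun k => ?_
        rw [← mulVec_mulVec, ← mulVec_mulVec, show (u : M3 p) = N + 1 by rw [hNdef]; abel,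
          add_mulVec, one_mulVec, hB, hB]
        fin_cases k <;>
          simp [mulVec_add, mulVec_smul, h4, h5, Matrix.mulVec_single, Matrix.col_apply, add_comm]
      rw [show ((B : GL3 p) : M3 p) = B₀ from rfl, hcomm, ← mul_assoc,
        show B₀ = ((B : GL3 p) : M3 p) from rfl, ← Units.val_mul, inv_mul_cancel, Units.val_one,
        one_mul]
    have eφ := e.map φ
    have hc' : ∀ x ∈ U.map φ.toMonoidHom, Commute x (φ u) := by
      rintro _ ⟨x, hx, rfl⟩
      exact (huc x hx).map φ.toMonoidHom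
    have hU' := eφ.eq_zpowers_regular hu' (Subgroup.mem_map_of_mem _ huU) hc' (by
      rintro _ ⟨x, hx, rfl⟩ hxc hx1 h2
      refine hT x hx (fun w hw => ?_) (fun h => hx1 (by rw [h, map_one])) ?_
      · exact φ.injective (by
          rw [map_mul, map_mul]; exact (hxc _ (Subgroup.mem_map_of_mem _ hw)).eq)
      · have e1 : (x : M3 p) - 1 =
            (B : M3 p) * (((φ x : GL3 p) : M3 p) - 1) * ((B⁻¹ : GL3 p) : M3 p) := by
          have e2 : x = B * φ x * B⁻¹ := by rw [hφ, MulAut.conj_apply]; group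
          conv_lhs => rw [e2]
          rw [Units.val_mul, Units.val_mul, mul_sub, sub_mul, mul_one, ← Units.val_mul B B⁻¹,
            mul_inv_cancel, Units.val_one]
        change (((φ x : GL3 p) : M3 p) - 1) * (((φ x : GL3 p) : M3 p) - 1) = 0 at h2
        rw [e1]
        generalize ((φ x : GL3 p) : M3 p) - 1 = M at h2
        calc (B : M3 p) * M * ((B⁻¹ : GL3 p) : M3 p) * ((B : M3 p) * M * ((B⁻¹ : GL3 p) : M3 p))
            = (B : M3 p) * M * (((B⁻¹ : GL3 p) : M3 p) * (B : M3 p)) * M *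
                ((B⁻¹ : GL3 p) : M3 p) := by simp only [mul_assoc]
          _ = 0 := by
            rw [← Units.val_mul, inv_mul_cancel, Units.val_one, mul_one, mul_assoc (B : M3 p) M,
              h2, mul_zero, zero_mul])
    exact ⟨B, Or.inr ⟨⟨_, hu', hU'⟩, fun W hW hinv => eφ.irreducible hu' hU' W hW hinv⟩⟩

end Emb

end CfsgLib.FusionRankThree
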