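import Cfsg.Agent.FusionRankThree.LinearT
import Mathlib.FieldTheory.Finite.Basic

/-!
# The regular unipotent case, and the dichotomy
-/

set_option autoImplicit false

namespace CfsgLib.FusionRankThree

open Matrix CfsgLib.FusionEssential

variable {p : ℕ}

/-- The regular case, in adapted coordinates. -/
structure IsR (G U : Subgroup (GL3 p)) : Prop where
  gen : ∃ u : GL3 p, (u : M3 p) = !![1, 0, 0; 1, 1, 0; 0, 1, 1] ∧ U = Subgroup.zpowers u
  irr : ∀ W : Submodule (ZMod p) (V3 p), W ≠ ⊥ →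
    (∀ h ∈ G, ∀ w ∈ W, (h : M3 p) *ᵥ w ∈ W) → W = ⊤

variable [hp : Fact p.Prime]

theorem natCast_val_eq {n : ℕ} (x : ZMod p) (h : n = x.val) : (n : ZMod p) = x := by
  rw [h, ZMod.natCast_zmod_val]

theorem coe_regular_pow {u : GL3 p} (hu : (u : M3 p) = !![1, 0, 0; 1, 1, 0; 0, 1, 1]) (n : ℕ) :
    ((u ^ n : GL3 p) : M3 p) =
      !![1, 0, 0; (n : ZMod p), 1, 0; (n.choose 2 : ℕ), (n : ZMod p), 1] := by
  induction n with
  | zero => simp [Matrix.one_fin_three]
  | succ n ih =>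
    rw [pow_succ, Units.val_mul, ih, hu]
    ext i j
    fin_cases i <;> fin_cases j <;>
      simp [Matrix.mul_apply, Fin.sum_univ_three, Nat.choose_succ_succ' n 1]
    ring

/-- Reversed transposition. -/
def revT (M : M3 p) : M3 p := Matrix.of fun i j => M j.rev i.rev

theorem revT_mul (A B : M3 p) : revT (A * B) = revT B * revT A := by
  ext i j
  fin_cases i <;> fin_cases j <;>
    simp [revT, Matrix.mul_apply, Fin.sum_univ_three, Fin.rev] <;> ring

theorem revT_one : revT (1 : M3 p) = 1 := by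
  ext i j
  fin_cases i <;> fin_cases j <;> simp [revT, Fin.rev]

theorem revT_revT (A : M3 p) : revT (revT A) = A := by
  ext i j
  simp [revT, Fin.rev_rev]

/-- The automorphism inverse reversed transpose. -/
def dual : GL3 p ≃* GL3 p where
  toFun h := ⟨revT ((h⁻¹ : GL3 p) : M3 p), revT (h : M3 p),
    by rw [← revT_mul, ← Units.val_mul, mul_inv_cancel, Units.val_one, revT_one],
    by rw [← revT_mul, ← Units.val_mul, inv_mul_cancel, Units.val_one, revT_one]⟩
  invFun h := ⟨revT ((h⁻¹ : GL3 p) : M3 p), revT (h : M3 p),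
    by rw [← revT_mul, ← Units.val_mul, mul_inv_cancel, Units.val_one, revT_one],
    by rw [← revT_mul, ← Units.val_mul, inv_mul_cancel, Units.val_one, revT_one]⟩
  left_inv h := Units.ext (revT_revT _)
  right_inv h := Units.ext (revT_revT _)
  map_mul' a b := Units.ext (by
    show revT (((a * b)⁻¹ : GL3 p) : M3 p) = _ * _
    rw [_root_.mul_inv_rev, Units.val_mul, revT_mul])

theorem coe_dual (h : GL3 p) : (dual h : M3 p) = revT ((h⁻¹ : GL3 p) : M3 p) := rfl

namespace Emb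

variable {G Y U : Subgroup (GL3 p)} (e : Emb G Y U)
include e

theorem map (φ : GL3 p ≃* GL3 p) :
    Emb (G.map φ.toMonoidHom) (Y.map φ.toMonoidHom) (U.map φ.toMonoidHom) := by
  have hmem : ∀ {H : Subgroup (GL3 p)} {a : GL3 p}, φ a ∈ H.map φ.toMonoidHom ↔ a ∈ H :=
    fun {H a} => Subgroup.mem_map_iff_mem φ.injective (f := φ.toMonoidHom)
  refine ⟨e.hp3, Subgroup.map_mono e.hUY, Subgroup.map_mono e.hYG, ?_, e.hU.map _, ?_, ?_, ?_⟩
  · obtain ⟨g, hg, hgY⟩ := e.proper
    exact ⟨φ g, hmem.2 hg, fun h => hgY (hmem.1 h)⟩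
  · rw [ne_eq, Subgroup.map_eq_bot_iff_of_injective _ φ.injective]
    exact e.hU1
  · intro P hP hPp
    obtain ⟨g, hg, hgP⟩ := e.syl (P.comap φ.toMonoidHom)
      (fun a ha => hmem.1 (hP ha)) (hPp.comap_of_injective _ φ.injective)
    refine ⟨φ g, hmem.2 hg, fun x hx => ?_⟩
    obtain ⟨a, rfl⟩ := φ.surjective x
    rw [← map_mul, ← map_inv, ← map_mul]
    exact hmem.2 (hgP a hx)
  · intro g hg b hb hbp hb1 hgb
    obtain ⟨g, rfl⟩ := φ.surjective g
    obtain ⟨b, rfl⟩ := φ.surjective b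
    rw [← map_mul, ← map_inv, ← map_mul] at hgb
    exact hmem.2 (e.key g (hmem.1 hg) b (hmem.1 hb) (φ.injective (by rw [map_pow, hbp, map_one]))
      (fun h => hb1 (by rw [h, map_one])) (hmem.1 hgb))

variable {u : GL3 p} (hu : (u : M3 p) = !![1, 0, 0; 1, 1, 0; 0, 1, 1])
include hu

theorem eq_zpowers_regular (huU : u ∈ U) (hc : ∀ x ∈ U, Commute x u)
    (hno : ∀ x ∈ U, (∀ w ∈ U, Commute w x) → x ≠ 1 → ((x : M3 p) - 1) * ((x : M3 p) - 1) ≠ 0) :
    U = Subgroup.zpowers u := by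
  have hform : ∀ x ∈ U, ∃ b d : ZMod p, (x : M3 p) = !![1, 0, 0; b, 1, 0; d, b, 1] := by
    intro x hx
    obtain ⟨m, hm⟩ := e.hU ⟨x, hx⟩
    have hN := cube_of_pow_eq_one (u := x) (m := m) (congrArg Subtype.val hm)
    have hxu := congrArg (fun a : GL3 p => (a : M3 p)) (hc x hx).eq
    simp only [Units.val_mul, hu] at hxu
    generalize (x : M3 p) = M at hN hxu ⊢
    have h00 := congrFun (congrFun hxu 0) 0
    have h01 := congrFun (congrFun hxu 0) 1
    have h10 := congrFun (congrFun hxu 1) 0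
    have h11 := congrFun (congrFun hxu 1) 1
    have h12 := congrFun (congrFun hxu 1) 2
    have h20 := congrFun (congrFun hxu 2) 0
    have h21 := congrFun (congrFun hxu 2) 1
    simp [Matrix.mul_apply, Fin.sum_univ_three] at h00 h01 h10 h11 h12 h20 h21
    have e01 : M 0 1 = 0 := by linear_combination h00
    have e02 : M 0 2 = 0 := by linear_combination h01
    have e12 : M 1 2 = 0 := by linear_combination h11 + e01
    have e11 : M 1 1 = M 0 0 := by linear_combination h10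
    have e21 : M 2 1 = M 1 0 := by linear_combination h20
    have e22 : M 2 2 = M 0 0 := by linear_combination h21 + e11
    have h3 := congrFun (congrFun hN 0) 0
    simp [pow_succ, Matrix.mul_apply, Fin.sum_univ_three, e01, e02] at h3
    have h1 : M 0 0 = 1 := sub_eq_zero.1 h3
    refine ⟨M 1 0, M 2 0, ?_⟩
    ext i j
    fin_cases i <;> fin_cases j <;> simp [e01, e02, e12, e11, e21, e22, h1]
  refine le_antisymm (fun x hx => ?_) (Subgroup.zpowers_le.2 huU)
  obtain ⟨b, d, hbd⟩ := hform x hx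
  set y := x * u ^ (-b).val with hy
  have hyU : y ∈ U := U.mul_mem hx (U.pow_mem huU _)
  obtain ⟨b', d', hy'⟩ := hform y hyU
  have hb' : b' = 0 := by
    have h := congrFun (congrFun hy' 1) 0
    rw [hy, Units.val_mul, hbd, coe_regular_pow hu, ZMod.natCast_zmod_val] at h
    simpa [Matrix.mul_apply, Fin.sum_univ_three] using h.symm
  subst hb'
  by_cases hy1 : y = 1
  · rw [hy, mul_eq_one_iff_eq_inv] at hy1
    rw [hy1]
    exact Subgroup.inv_mem _ (Subgroup.pow_mem _ (Subgroup.mem_zpowers u) _)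
  · refine absurd ?_ (hno y hyU (fun w hw => Units.ext ?_) hy1)
    · rw [hy']
      ext i j
      fin_cases i <;> fin_cases j <;> simp [Matrix.mul_apply, Fin.sum_univ_three]
    · obtain ⟨b₂, d₂, hw'⟩ := hform w hw
      show (w : M3 p) * (y : M3 p) = (y : M3 p) * (w : M3 p)
      rw [hw', hy']
      ext i j
      fin_cases i <;> fin_cases j <;> simp [Matrix.mul_apply, Fin.sum_univ_three, add_comm]

variable (hU : U = Subgroup.zpowers u)
include hU

theorem exists_pow_of_mem_U {x : GL3 p} (hx : x ∈ U) : ∃ n : ℕ, x = u ^ n := by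
  rw [hU, ← mem_powers_iff_mem_zpowers, Submonoid.mem_powers_iff] at hx
  obtain ⟨n, hn⟩ := hx
  exact ⟨n, hn.symm⟩

theorem eq_one_of_sq_zero {x : GL3 p} (hx : x ∈ G)
    (h : ((x : M3 p) - 1) * ((x : M3 p) - 1) = 0) : x = 1 := by
  have hxp : x ^ p = 1 := pow_eq_one_of_cube e.three_le (by rw [pow_succ, pow_two, h, zero_mul])
  have hP : IsPGroup p (Subgroup.zpowers x) := fun a => ⟨1, Subtype.ext (by
    obtain ⟨k, hk⟩ := Subgroup.mem_zpowers_iff.1 a.2
    rw [pow_one, Subgroup.coe_pow, ← hk, ← zpow_natCast, ← zpow_mul, mul_comm, zpow_mul,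
      zpow_natCast, hxp, one_zpow, Subgroup.coe_one])⟩
  obtain ⟨q, -, hq⟩ := e.syl _ (Subgroup.zpowers_le.2 hx) hP
  obtain ⟨n, hn⟩ := e.exists_pow_of_mem_U hu hU (hq x (Subgroup.mem_zpowers x))
  have h2 : (((q * x * q⁻¹ : GL3 p) : M3 p) - 1) * (((q * x * q⁻¹ : GL3 p) : M3 p) - 1) = 0 := by
    have e1 : ((q * x * q⁻¹ : GL3 p) : M3 p) - 1 =
        (q : M3 p) * ((x : M3 p) - 1) * ((q⁻¹ : GL3 p) : M3 p) := by
      rw [mul_sub, sub_mul, mul_one, ← Units.val_mul, ← Units.val_mul, ← Units.val_mul,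
        mul_inv_cancel, Units.val_one]
    rw [e1]
    calc (q : M3 p) * ((x : M3 p) - 1) * ((q⁻¹ : GL3 p) : M3 p) *
          ((q : M3 p) * ((x : M3 p) - 1) * ((q⁻¹ : GL3 p) : M3 p))
        = (q : M3 p) * ((x : M3 p) - 1) * (((q⁻¹ : GL3 p) : M3 p) * (q : M3 p)) *
            ((x : M3 p) - 1) * ((q⁻¹ : GL3 p) : M3 p) := by simp only [mul_assoc]
      _ = 0 := by
        rw [← Units.val_mul, inv_mul_cancel, Units.val_one, mul_one,
          mul_assoc (q : M3 p) ((x : M3 p) - 1), h, mul_zero, zero_mul]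
  rw [hn, coe_regular_pow hu] at h2
  have h20 := congrFun (congrFun h2 2) 0
  simp [Matrix.mul_apply, Fin.sum_univ_three] at h20
  have hpn : p ∣ n := (ZMod.natCast_eq_zero_iff n p).1 h20
  have hup : u ^ p = 1 := pow_p_of_mem e.three_le e.hU (hU ▸ Subgroup.mem_zpowers u)
  obtain ⟨k, rfl⟩ := hpn
  rw [pow_mul, hup, one_pow] at hn
  exact conj_eq_one_iff.1 hn

theorem no_fixed_line (h02 : ∀ h ∈ G, (h : M3 p) 0 2 = 0 ∧ (h : M3 p) 1 2 = 0) : False := by
  have h3 := e.three_le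
  haveI : NeZero p := ⟨hp.out.ne_zero⟩
  have huU : u ∈ U := hU ▸ Subgroup.mem_zpowers u
  have hup : u ^ p = 1 := pow_p_of_mem h3 e.hU huU
  have hu1 : u ≠ 1 := fun h => e.hU1 (by rw [hU, h, Subgroup.zpowers_one_eq_bot])
  obtain ⟨g, -, hwG, hwY⟩ := e.exists_conj_not_mem (e.hUY huU) hup hu1
  set w := g * u * g⁻¹
  have hwp : w ^ p = 1 := by rw [conj_pow, hup, mul_one, mul_inv_cancel]
  -- the quotient representation and the character on the fixed line
  let q₀ : G →* Matrix (Fin 2) (Fin 2) (ZMod p) :=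
    { toFun := fun h => !![((h : GL3 p) : M3 p) 0 0, ((h : GL3 p) : M3 p) 0 1;
        ((h : GL3 p) : M3 p) 1 0, ((h : GL3 p) : M3 p) 1 1]
      map_one' := by ext i j; fin_cases i <;> fin_cases j <;> simp
      map_mul' := fun a b => by
        obtain ⟨a02, a12⟩ := h02 a a.2
        ext i j
        fin_cases i <;> fin_cases j <;>
          simp [Matrix.mul_apply, Fin.sum_univ_two, Fin.sum_univ_three, a02, a12] }
  let χ : G →* ZMod p :=
    { toFun := fun h => ((h : GL3 p) : M3 p) 2 2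
      map_one' := by simp
      map_mul' := fun a b => by
        obtain ⟨b02, b12⟩ := h02 b b.2
        simp [Matrix.mul_apply, Fin.sum_univ_three, b02, b12] }
  have hχu : χ ⟨u, e.hUG huU⟩ = 1 := by
    show (u : M3 p) 2 2 = 1
    rw [hu]; rfl
  have hχw : χ ⟨w, hwG⟩ = 1 := by
    have h1 := congrArg χ (show (⟨w, hwG⟩ : G) ^ p = 1 from Subtype.ext hwp)
    rwa [map_pow, map_one, ZMod.pow_card] at h1
  have hρu : q₀ ⟨u, e.hUG huU⟩ = !![1, 0; 1, 1] := by
    show !![(u : M3 p) 0 0, (u : M3 p) 0 1; (u : M3 p) 1 0, (u : M3 p) 1 1] = _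
    rw [hu]; rfl
  by_cases hcom : q₀.toHomUnits ⟨u, e.hUG huU⟩ * q₀.toHomUnits ⟨w, hwG⟩ =
      q₀.toHomUnits ⟨w, hwG⟩ * q₀.toHomUnits ⟨u, e.hUG huU⟩
  · -- both lie in a unitriangular `p`-group
    have h1 := congrArg Units.val hcom
    simp only [Units.val_mul, MonoidHom.coe_toHomUnits, hρu] at h1
    simp only [q₀, MonoidHom.coe_mk, OneHom.coe_mk] at h1
    obtain ⟨w02, w12⟩ := h02 w hwG
    have e00 := congrFun (congrFun h1 0) 0
    have e10 := congrFun (congrFun h1 1) 0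
    simp [Matrix.mul_apply, Fin.sum_univ_two] at e00 e10
    have hw01 : (w : M3 p) 0 1 = 0 := by linear_combination e00
    have hw11 : (w : M3 p) 1 1 = (w : M3 p) 0 0 := by linear_combination -e10
    have hN := cube_of_pow_eq_one (u := w) (m := 1) (by rwa [pow_one])
    have h00 := congrFun (congrFun hN 0) 0
    simp [pow_succ, Matrix.mul_apply, Fin.sum_univ_three, hw01, w02] at h00
    have hw00 : (w : M3 p) 0 0 = 1 := sub_eq_zero.1 h00
    let P : Subgroup (GL3 p) :=
      { carrier := {x | x ∈ G ∧ (x : M3 p) 0 1 = 0 ∧ (x : M3 p) 0 0 = 1 ∧ (x : M3 p) 1 1 = 1 ∧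
          (x : M3 p) 2 2 = 1}
        one_mem' := ⟨G.one_mem, by simp, by simp, by simp, by simp⟩
        mul_mem' := fun {a b} ha hb => by
          obtain ⟨a02, a12⟩ := h02 a ha.1
          obtain ⟨b02, b12⟩ := h02 b hb.1
          refine ⟨G.mul_mem ha.1 hb.1, ?_, ?_, ?_, ?_⟩ <;>
            simp [Matrix.mul_apply, Fin.sum_univ_three, ha.2.1, ha.2.2.1, ha.2.2.2.1, ha.2.2.2.2,
              hb.2.1, hb.2.2.1, hb.2.2.2.1, hb.2.2.2.2, a02, a12, b02, b12]
        inv_mem' := fun {a} ha => by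
          obtain ⟨a02, a12⟩ := h02 a ha.1
          obtain ⟨b02, b12⟩ := h02 a⁻¹ (G.inv_mem ha.1)
          have h := congrArg (fun x : GL3 p => (x : M3 p)) (mul_inv_cancel a)
          simp only [Units.val_mul, Units.val_one] at h
          have i00 := congrFun (congrFun h 0) 0
          have i01 := congrFun (congrFun h 0) 1
          have i11 := congrFun (congrFun h 1) 1
          have i22 := congrFun (congrFun h 2) 2
          generalize hM : ((a⁻¹ : GL3 p) : M3 p) = M at b02 b12 i00 i01 i11 i22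
          simp [Matrix.mul_apply, Fin.sum_univ_three, ha.2.1, ha.2.2.1, ha.2.2.2.1, ha.2.2.2.2,
            a02, a12, b02, b12] at i00 i01 i11 i22
          refine ⟨G.inv_mem ha.1, ?_, ?_, ?_, ?_⟩ <;> rw [hM]
          exacts [i01, i00, by simpa [i01] using i11, i22] }
    have hP : IsPGroup p P := fun a => ⟨1, Subtype.ext (by
      rw [pow_one, Subgroup.coe_pow, Subgroup.coe_one]
      obtain ⟨ha, a01, a00, a11, a22⟩ := a.2
      obtain ⟨a02, a12⟩ := h02 _ ha
      refine pow_eq_one_of_cube h3 ?_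
      ext i j
      fin_cases i <;> fin_cases j <;>
        simp [pow_succ, Matrix.mul_apply, Fin.sum_univ_three, a01, a00, a11, a22, a02, a12])⟩
    obtain ⟨q, -, hq⟩ := e.syl P (fun a ha => ha.1) hP
    obtain ⟨n, hn⟩ := e.exists_pow_of_mem_U hu hU (hq u ⟨e.hUG huU, by simp [hu], by simp [hu],
      by simp [hu], by simp [hu]⟩)
    obtain ⟨m, hm⟩ := e.exists_pow_of_mem_U hu hU (hq w ⟨hwG, hw01, hw00, hw11.trans hw00, hχw⟩)
    have hn0 : (n : ZMod p) ≠ 0 := by
      intro h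
      obtain ⟨k, rfl⟩ := (ZMod.natCast_eq_zero_iff n p).1 h
      rw [pow_mul, hup, one_pow] at hn
      exact hu1 (conj_eq_one_iff.1 hn)
    refine hwY ?_
    have : w = u ^ ((m : ZMod p) / n).val := by
      have h4 : q * w * q⁻¹ = q * u ^ ((m : ZMod p) / n).val * q⁻¹ := by
        rw [hm, ← conj_pow, hn, ← pow_mul]
        refine pow_eq_pow_iff_modEq.2 (Nat.ModEq.of_dvd (orderOf_dvd_of_pow_eq_one hup) ?_)
        rw [← ZMod.natCast_eq_natCast_iff, Nat.cast_mul, ZMod.natCast_zmod_val,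
          mul_div_cancel₀ _ hn0]
      simpa using h4
    rw [this]
    exact Y.pow_mem (e.hUY huU) _
  · -- some element acts as `-1` modulo the fixed line
    obtain ⟨c, hc⟩ := exists_sl_two_le (χ.ker.map q₀.toHomUnits)
      ⟨_, hχu, rfl⟩ ⟨_, hχw, rfl⟩ (a := 1) (b := 1)
      (by rw [pow_one, ← map_pow, show (⟨u, e.hUG huU⟩ : G) ^ p = 1 from Subtype.ext hup, map_one])
      (by rw [pow_one, ← map_pow, show (⟨w, hwG⟩ : G) ^ p = 1 from Subtype.ext hwp, map_one])
      hcom
    obtain ⟨φ, hφχ, hφ⟩ := hc (-1)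
    obtain ⟨f02, f12⟩ := h02 φ φ.2
    have hneg : (c : Matrix (Fin 2) (Fin 2) (ZMod p)) *
        (Matrix.SpecialLinearGroup.toGL (-1 : Matrix.SpecialLinearGroup (Fin 2) (ZMod p)) :
          GL (Fin 2) (ZMod p)) * ((c⁻¹ : GL (Fin 2) (ZMod p)) : Matrix (Fin 2) (Fin 2) (ZMod p)) =
        -1 := by
      rw [show ((Matrix.SpecialLinearGroup.toGL (-1 : Matrix.SpecialLinearGroup (Fin 2) (ZMod p)) :
        GL (Fin 2) (ZMod p)) : Matrix (Fin 2) (Fin 2) (ZMod p)) = -1 from
        Matrix.SpecialLinearGroup.coe_neg 1, mul_neg, mul_one, neg_mul, ← Units.val_mul,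
        mul_inv_cancel, Units.val_one]
    have h4 := congrArg Units.val hφ
    rw [MonoidHom.coe_toHomUnits, Units.val_mul, Units.val_mul, hneg] at h4
    have f00 := congrFun (congrFun h4 0) 0
    have f01 := congrFun (congrFun h4 0) 1
    have f10 := congrFun (congrFun h4 1) 0
    have f11 := congrFun (congrFun h4 1) 1
    simp [q₀] at f00 f01 f10 f11
    have f22 : ((φ : GL3 p) : M3 p) 2 2 = 1 := hφχ
    set b := ((φ : GL3 p) : M3 p) 2 1
    have hK : (((φ : GL3 p) * u * (φ : GL3 p)⁻¹ * u⁻¹ : GL3 p) : M3 p) =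
        !![1, 0, 0; 0, 1, 0; 2 - b, -2, 1] := by
      have hmat : (((φ : GL3 p) * u : GL3 p) : M3 p) =
          !![1, 0, 0; 0, 1, 0; 2 - b, -2, 1] * ((u * (φ : GL3 p) : GL3 p) : M3 p) := by
        rw [Units.val_mul, Units.val_mul, hu]
        ext i j
        fin_cases i <;> fin_cases j <;>
          simp [Matrix.mul_apply, Matrix.vecMul, dotProduct, Fin.sum_univ_three, f00, f01, f10, f11, f22, f02, f12, b] <;> ring
      rw [mul_assoc ((φ : GL3 p) * u), ← _root_.mul_inv_rev, Units.val_mul, hmat, mul_assoc,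
        ← Units.val_mul, mul_inv_cancel, Units.val_one, mul_one]
    have hKG : (φ : GL3 p) * u * (φ : GL3 p)⁻¹ * u⁻¹ ∈ G :=
      G.mul_mem (G.mul_mem (G.mul_mem φ.2 (e.hUG huU)) (G.inv_mem φ.2)) (G.inv_mem (e.hUG huU))
    rw [e.eq_one_of_sq_zero hu hU hKG (by
      rw [hK]
      ext i j
      fin_cases i <;> fin_cases j <;> simp [Matrix.mul_apply, Fin.sum_univ_three])] at hK
    have h2 := congrFun (congrFun hK 2) 1
    simp at h2
    have h2' : ((2 : ℕ) : ZMod p) = 0 := by exact_mod_cast h2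
    rw [ZMod.natCast_eq_zero_iff] at h2'
    have := Nat.le_of_dvd (by norm_num) h2'
    omega

end Emb

end CfsgLib.FusionRankThree
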