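import Cfsg.Agent.FusionRankThree.Embedded

/-!
# The transvection case
-/

set_option autoImplicit false

namespace CfsgLib.FusionRankThree

open Matrix CfsgLib.FusionEssential

variable {p : ℕ}

/-- The transvection case, in adapted coordinates. -/
structure IsT (G U : Subgroup (GL3 p)) : Prop where
  gen : ∃ u : GL3 p, (u : M3 p) = !![1, 0, 0; 0, 1, 0; 1, 0, 1] ∧ U = Subgroup.zpowers u
  opp : ∃ a : ZMod p, a ≠ 0 ∧ ∃ w ∈ G, w ^ p = 1 ∧ (w : M3 p) = !![1, 0, a; 0, 1, 0; 0, 0, 1]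
  torus : ∀ l : ZMod p, l ≠ 0 → ∃ t ∈ G, (t : M3 p) = !![l⁻¹, 0, 0; 0, 1, 0; 0, 0, l]

variable [hp : Fact p.Prime]

theorem exists_smul_left {y g z f : V3 p} {d : ZMod p} (h : vecMulVec y g = d • vecMulVec z f)
    (hg : g ≠ 0) : ∃ a : ZMod p, y = a • z := by
  obtain ⟨k, hk⟩ := Function.ne_iff.1 hg
  refine ⟨d * f k / g k, funext fun i => ?_⟩
  have h1 := congrFun (congrFun h i) k
  simp only [vecMulVec_apply, Matrix.smul_apply, smul_eq_mul] at h1
  rw [Pi.smul_apply, smul_eq_mul, div_mul_eq_mul_div, eq_div_iff hk, h1]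
  ring

theorem exists_smul_right {y g z f : V3 p} {d : ZMod p} (h : vecMulVec y g = d • vecMulVec z f)
    (hy : y ≠ 0) : ∃ a : ZMod p, g = a • f := by
  obtain ⟨k, hk⟩ := Function.ne_iff.1 hy
  refine ⟨d * z k / y k, funext fun i => ?_⟩
  have h1 := congrFun (congrFun h k) i
  simp only [vecMulVec_apply, Matrix.smul_apply, smul_eq_mul] at h1
  rw [Pi.smul_apply, smul_eq_mul, div_mul_eq_mul_div, eq_div_iff hk]
  linear_combination h1

/-- An eigenvalue of a unipotent matrix is one. -/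
theorem eigen_one {N : M3 p} (hN : N ^ 3 = 0) {v : V3 p} (hv : v ≠ 0) {r : ZMod p}
    (h : N *ᵥ v = r • v) : r = 0 := by
  have h3 := congrArg (· *ᵥ v) hN
  simp only [pow_succ, pow_zero, one_mul, ← mulVec_mulVec, h, mulVec_smul, zero_mulVec,
    smul_smul] at h3
  have := (smul_eq_zero.1 h3).resolve_right hv
  simpa using this

/-- The copy of `SL₂` on the first and the last coordinate. -/
def slHom : Matrix.SpecialLinearGroup (Fin 2) (ZMod p) →* GL3 p :=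
  MonoidHom.toHomUnits
    { toFun := fun M => !![M.1 1 1, 0, M.1 1 0; 0, 1, 0; M.1 0 1, 0, M.1 0 0]
      map_one' := by
        ext i j
        fin_cases i <;> fin_cases j <;> simp
      map_mul' := fun A B => by
        ext i j
        fin_cases i <;> fin_cases j <;>
          simp [Matrix.mul_apply, Fin.sum_univ_two, Fin.sum_univ_three] <;> ring }

theorem coe_slHom (M : Matrix.SpecialLinearGroup (Fin 2) (ZMod p)) :
    (slHom M : M3 p) = !![M.1 1 1, 0, M.1 1 0; 0, 1, 0; M.1 0 1, 0, M.1 0 0] := rfl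

namespace Emb

variable {G Y U : Subgroup (GL3 p)} (e : Emb G Y U)
include e

theorem exists_isT {τ : GL3 p} {z f : V3 p} (hτ : Tv τ z f) (hτU : τ ∈ U)
    (hτc : ∀ u ∈ U, Commute u τ) : ∃ B : GL3 p, IsT (G.map (MulAut.conj B⁻¹).toMonoidHom)
      (U.map (MulAut.conj B⁻¹).toMonoidHom) := by
  have h3 := e.three_le
  have hτG := e.hUG hτU
  obtain ⟨g₀, hg₀, hτ'G, hτ'Y⟩ := e.exists_conj_not_mem (e.hUY hτU) (hτ.pow_p h3) hτ.ne_one
  have hτ' := hτ.conj g₀
  set τ' := g₀ * τ * g₀⁻¹ with hτ'def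
  set z' := (g₀ : M3 p) *ᵥ z
  set f' := f ᵥ* ((g₀⁻¹ : GL3 p) : M3 p)
  obtain ⟨p1, p2⟩ := e.lemA hτ hτ' (e.hUY hτU) hτ'G hτ'Y
  set c := f ⨯₃ f' with hc
  have hfc : f ⬝ᵥ c = 0 := dot_self_cross f f'
  have hf'c : f' ⬝ᵥ c = 0 := dot_cross_self f f'
  have hc0 : c ≠ 0 := fun h => by
    obtain ⟨a, ha⟩ := smul_of_cross_eq_zero hτ.hf h
    exact p2 (by rw [ha, smul_dotProduct, hτ.hzero, smul_zero])
  -- centres and axes of all transvections
  have hall : ∀ (w : GL3 p) (y g : V3 p), Tv w y g → w ∈ G →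
      (∃ a b : ZMod p, y = a • z + b • z') ∧ g ⬝ᵥ c = 0 := by
    intro w y g hw hwG
    have main : ∀ (r : GL3 p) (x k : V3 p), Tv r x k → r ∈ G → g ⬝ᵥ x = 0 →
        (∃ a b : ZMod p, x = a • z + b • z') → k ⬝ᵥ c = 0 →
        (∃ a b : ZMod p, y = a • z + b • z') ∧ g ⬝ᵥ c = 0 := by
      intro r x k hr hrG hgx ⟨a, b, hx⟩ hkc
      obtain ⟨d, hd⟩ := e.eq_or_eq hτ hτU hτc hr hw hrG hwG hgx
      obtain ⟨a', ha'⟩ := exists_smul_left hd hw.hf
      obtain ⟨b', hb'⟩ := exists_smul_right hd hw.hz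
      exact ⟨⟨a' * a, a' * b, by rw [ha', hx, smul_add, smul_smul, smul_smul]⟩,
        by rw [hb', smul_dotProduct, hkc, smul_zero]⟩
    by_cases hgz : g ⬝ᵥ z' = 0
    · exact main τ' z' f' hτ' hτ'G hgz ⟨0, 1, by simp⟩ hf'c
    · set j := -(g ⬝ᵥ z) / ((f' ⬝ᵥ z) * (g ⬝ᵥ z')) with hj
      have hX : (τ' ^ j.val) ∈ G := G.pow_mem hτ'G _
      have hXz : ((τ' ^ j.val : GL3 p) : M3 p) *ᵥ z = z + (j * (f' ⬝ᵥ z)) • z' := by
        rw [hτ'.pow_coe, ZMod.natCast_zmod_val, add_mulVec, one_mulVec, vecMulVec_mulVec,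
          op_smul_eq_smul, smul_smul, mul_comm]
      have hXc : ((τ' ^ j.val : GL3 p) : M3 p) *ᵥ c = c := by
        rw [hτ'.pow_coe, add_mulVec, one_mulVec, vecMulVec_mulVec, hf'c]
        simp
      refine main (τ' ^ j.val * τ * (τ' ^ j.val)⁻¹) _ _ (hτ.conj _)
        (G.mul_mem (G.mul_mem hX hτG) (G.inv_mem hX)) ?_ ⟨1, j * (f' ⬝ᵥ z), by rw [hXz, one_smul]⟩
        ?_
      · rw [hXz, dotProduct_add, dotProduct_smul, smul_eq_mul, hj]
        field_simp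
        ring
      · have hXc' : (((τ' ^ j.val)⁻¹ : GL3 p) : M3 p) *ᵥ c = c := by
          conv_lhs => rw [← hXc]
          rw [mulVec_mulVec, ← Units.val_mul, inv_mul_cancel, Units.val_one, one_mulVec]
        rw [← dotProduct_mulVec, hXc', hfc]
  -- basis
  set v := (f ⬝ᵥ z')⁻¹ • z' with hv
  have hfv : f ⬝ᵥ v = 1 := by rw [hv, dotProduct_smul, smul_eq_mul, inv_mul_cancel₀ p1]
  have hf'v : f' ⬝ᵥ v = 0 := by rw [hv, dotProduct_smul, hτ'.hzero, smul_zero]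
  have hz'v : z' = (f ⬝ᵥ z') • v := by rw [hv, smul_smul, mul_inv_cancel₀ p1, one_smul]
  let B₀ : M3 p := Matrix.of fun i k => ![v, c, z] k i
  have hB : ∀ x : V3 p, B₀ *ᵥ x = x 0 • v + x 1 • c + x 2 • z := fun x => by
    funext i
    simp [B₀, Matrix.mulVec, dotProduct, Fin.sum_univ_three, mul_comm]
  have hdet : B₀.det ≠ 0 := by
    intro hd
    obtain ⟨x, hx0, hx⟩ := Matrix.exists_mulVec_eq_zero_iff.2 hd
    rw [hB] at hx
    have e0 := congrArg (f ⬝ᵥ ·) hx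
    have e2 := congrArg (f' ⬝ᵥ ·) hx
    simp only [dotProduct_add, dotProduct_smul, smul_eq_mul, hfv, hfc, hτ.hzero, hf'v, hf'c,
      mul_one, mul_zero, add_zero, zero_add, dotProduct_zero] at e0 e2
    have e2' := (mul_eq_zero.1 e2).resolve_right p2
    rw [e0, e2', zero_smul, zero_smul, zero_add, add_zero, smul_eq_zero, or_iff_left hc0] at hx
    exact hx0 (funext fun i => by fin_cases i <;> assumption)
  let B : GL3 p := Matrix.GeneralLinearGroup.mkOfDetNeZero B₀ hdet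
  have hconj : ∀ (h : GL3 p) (T : M3 p), (h : M3 p) * B₀ = B₀ * T →
      ((MulAut.conj B⁻¹ h : GL3 p) : M3 p) = T := by
    intro h T hT
    rw [MulAut.conj_apply, inv_inv, Units.val_mul, Units.val_mul, mul_assoc,
      show ((B : GL3 p) : M3 p) = B₀ from rfl, hT, ← mul_assoc,
      show B₀ = ((B : GL3 p) : M3 p) from rfl, ← Units.val_mul, inv_mul_cancel, Units.val_one,
      one_mul]
  have hTB : ∀ (h : GL3 p) (T : M3 p), (∀ k, (h : M3 p) *ᵥ ![v, c, z] k =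
      T 0 k • v + T 1 k • c + T 2 k • z) → ((MulAut.conj B⁻¹ h : GL3 p) : M3 p) = T := by
    intro h T hT
    refine hconj h T (Matrix.ext fun i k => ?_)
    calc ((h : M3 p) * B₀) i k = ((h : M3 p) *ᵥ ![v, c, z] k) i := rfl
      _ = (B₀ *ᵥ fun r => T r k) i := by rw [hT k, hB]
      _ = (B₀ * T) i k := rfl
  have hτ₀ : ((MulAut.conj B⁻¹ τ : GL3 p) : M3 p) = !![1, 0, 0; 0, 1, 0; 1, 0, 1] :=
    hTB τ _ fun k => by
      fin_cases k <;> simp [hτ.mulVec, hfv, hfc, hτ.hzero]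
  have hτ'₀ : ((MulAut.conj B⁻¹ τ' : GL3 p) : M3 p) =
      !![1, 0, (f' ⬝ᵥ z) * (f ⬝ᵥ z'); 0, 1, 0; 0, 0, 1] :=
    hTB τ' _ fun k => by
      fin_cases k
      · simp [hτ'.mulVec, hf'v]
      · simp [hτ'.mulVec, hf'c]
      · simp only [hτ'.mulVec, Fin.reduceFinMk, Matrix.cons_val, Matrix.of_apply, Fin.isValue,
          zero_smul, add_zero, one_smul]
        rw [add_comm, ← smul_smul, ← hz'v]
  -- the Sylow subgroup
  have hUle : U ≤ Subgroup.zpowers τ := by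
    intro u hu
    obtain ⟨m, hm⟩ := e.hU ⟨u, hu⟩
    have hN := cube_of_pow_eq_one (u := u) (m := m) (congrArg Subtype.val hm)
    have hfix : u * τ * u⁻¹ = τ := by rw [(hτc u hu).eq, mul_inv_cancel_right]
    have e1 := (hτ.conj u).coe
    rw [hfix, hτ.coe] at e1
    have e2 : vecMulVec ((u : M3 p) *ᵥ z) (f ᵥ* ((u⁻¹ : GL3 p) : M3 p)) =
        (1 : ZMod p) • vecMulVec z f := by rw [one_smul]; exact (add_left_cancel e1).symm
    obtain ⟨r, hr⟩ := exists_smul_left e2 (hτ.conj u).hf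
    have hr1 : r - 1 = 0 := eigen_one hN hτ.hz (by rw [sub_mulVec, one_mulVec, hr, sub_smul,
      one_smul])
    obtain ⟨⟨a, b, hab⟩, -⟩ := hall _ _ _ (hτ'.conj u)
      (G.mul_mem (G.mul_mem (e.hUG hu) hτ'G) (G.inv_mem (e.hUG hu)))
    have hiv : ∀ x : V3 p, f ⬝ᵥ x = 0 → f' ⬝ᵥ x = 0 → ∃ s : ZMod p, x = s • c := by
      intro x h1 h2
      refine smul_of_cross_eq_zero hc0 ?_
      rw [← cross_anticomm, hc, cross_cross_eq_smul_sub_smul', dotProduct_comm x f', h2, h1]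
      simp
    have hcU : ∀ h : GL3 p, h ∈ G → ∃ s : ZMod p, (h : M3 p) *ᵥ c = s • c := by
      intro h hh
      refine hiv _ ?_ ?_
      · have h1 := (hall _ _ _ (hτ.conj h⁻¹) (G.mul_mem (G.mul_mem (G.inv_mem hh) hτG)
          (G.inv_mem (G.inv_mem hh)))).2
        rwa [inv_inv, ← dotProduct_mulVec] at h1
      · have h1 := (hall _ _ _ (hτ'.conj h⁻¹) (G.mul_mem (G.mul_mem (G.inv_mem hh) hτ'G)
          (G.inv_mem (G.inv_mem hh)))).2
        rwa [inv_inv, ← dotProduct_mulVec] at h1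
    obtain ⟨s, hs⟩ := hcU u (e.hUG hu)
    have hs1 : s - 1 = 0 := eigen_one hN hc0 (by rw [sub_mulVec, one_mulVec, hs, sub_smul,
      one_smul])
    rw [sub_eq_zero] at hr1 hs1
    subst hr1 hs1
    rw [one_smul] at hr hs
    -- the image of `v`
    obtain ⟨a', b', hv'⟩ : ∃ a' b' : ZMod p, (u : M3 p) *ᵥ v = a' • v + b' • z := by
      refine ⟨b, (f ⬝ᵥ z')⁻¹ * a, ?_⟩
      rw [hv, mulVec_smul, hab, smul_add, smul_smul, smul_comm b, add_comm]
    have hNz : ((u : M3 p) - 1) *ᵥ z = 0 := by rw [sub_mulVec, one_mulVec, hr, sub_self]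
    have hNv : ((u : M3 p) - 1) *ᵥ v = (a' - 1) • v + b' • z := by
      rw [sub_mulVec, one_mulVec, hv', sub_smul, one_smul]; abel
    have ha : a' - 1 = 0 := by
      have h2 := congrArg (fun M : M3 p => f ⬝ᵥ (M *ᵥ v)) hN
      simp only [pow_succ, pow_zero, one_mul, ← mulVec_mulVec, hNv, mulVec_add, mulVec_smul, hNz,
        smul_zero, add_zero, smul_smul, smul_add, dotProduct_add, dotProduct_smul, hfv, hτ.hzero,
        smul_eq_mul, mul_one, mul_zero, zero_mulVec, dotProduct_zero] at h2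
      simpa using h2
    rw [sub_eq_zero] at ha
    subst ha
    refine Subgroup.mem_zpowers_iff.2 ⟨(b'.val : ℕ), (MulAut.conj B⁻¹).injective ?_⟩
    rw [zpow_natCast]
    refine Units.ext ?_
    have hu₀ : ((MulAut.conj B⁻¹ u : GL3 p) : M3 p) = !![1, 0, 0; 0, 1, 0; b', 0, 1] :=
      hTB u _ fun k => by
        fin_cases k
        · simp [hv']
        · simp [hs]
        · simpa using hr
    rw [hu₀]
    refine hTB _ _ fun k => ?_
    fin_cases k <;>
      simp [hτ.pow_coe, add_mulVec, smul_mulVec, vecMulVec_mulVec, hfv, hfc, hτ.hzero]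
  have hUeq : U = Subgroup.zpowers τ := le_antisymm hUle (Subgroup.zpowers_le.2 hτU)
  refine ⟨B, ⟨_, hτ₀, by rw [hUeq, MonoidHom.map_zpowers]; rfl⟩,
    ⟨_, mul_ne_zero p2 p1, _, ⟨τ', hτ'G, rfl⟩, by rw [← map_pow, hτ'.pow_p h3, map_one], hτ'₀⟩,
    fun l hl => ?_⟩
  have hK := sl_two_le_of_upper_lower (K := (G.map (MulAut.conj B⁻¹).toMonoidHom).comap slHom)
    (mul_ne_zero p2 p1)
    ⟨τ, hτG, Units.ext (by rw [coe_slHom, coe_upperM]; exact hτ₀)⟩
    ⟨τ', hτ'G, Units.ext (by rw [coe_slHom, coe_lowerM]; exact hτ'₀)⟩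
  refine ⟨slHom ⟨!![l, 0; 0, l⁻¹], by simp [Matrix.det_fin_two, mul_inv_cancel₀ hl]⟩,
    (Subgroup.eq_top_iff' _).1 hK _, ?_⟩
  exact (coe_slHom _).trans (by simp)

end Emb

end CfsgLib.FusionRankThree
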