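import Cfsg.Agent.FusionRankThree.CaseRMain
import Cfsg.Agent.FusionRankThree.CaseTMain
import Cfsg.Agent.FusionRankThree.Transport

/-!
# Essential subgroups needing three generators are normal in sectional rank three
-/

set_option autoImplicit false
set_option linter.style.haveILetI false

namespace CfsgLib.FusionRankThree

open Cfsg Cfsg.FusionSystem CfsgLib.Fusion

variable {p : ℕ} [hp : Fact p.Prime] {Ω : Type*} [Group Ω] {S : Subgroup Ω} [Finite S]
  {F : FusionSystem S} {E : Subgroup Ω}

/-- A `p`-automorphism of `N_S(E)` stabilizing `E` is inner. -/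
theorem inner_of_stabilizing (hS : IsPGroup p S) (hF : F.IsSaturated p)
    (hE : F.IsEssential p E) (hN : F.IsFullyNormalized (normalizerIn S E))
    {φ : MulAut (normalizerIn S E)} (hφ : φ ∈ F.autGroup (normalizerIn S E)) {k : ℕ}
    (hk : φ ^ p ^ k = 1)
    (hstab : ∀ y : normalizerIn S E, (y : Ω) ∈ E → (φ y : Ω) ∈ E) :
    φ ∈ Inn (normalizerIn S E) := by
  haveI := finite_of_le (normalizerIn_le S E)
  have hEN : E ≤ normalizerIn S E := le_normalizerIn hE.1.1
  obtain ⟨hauto, -⟩ := automized_receptive hS hF hN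
  obtain ⟨β, hβ, hβc⟩ := exists_conj_autInducedBy hauto (Subgroup.zpowers_le.2 hφ)
    (isPGroup_zpowers_of_pow_eq_one (k := k) hk)
  obtain ⟨s, hsS, hsn, hs⟩ := mem_autInducedBy_iff.1 (hβc φ (Subgroup.mem_zpowers φ))
  have hβiso : IsIso F β := (mem_autGroup_iff (normalizerIn_le S E)).1 hβ
  set f : normalizerIn S E →* Ω := (normalizerIn S E).subtype.comp β.toMonoidHom with hf
  have hconj : F.IsConj E (imgHom f E) := isConj_restrict hβiso hEN
  -- `N_S(E)` normalizes the image of `E`
  have hle : normalizerIn S E ≤ normalizerIn S (imgHom f E) := by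
    intro n hn
    refine ⟨normalizerIn_le S E hn, Subgroup.mem_normalizer_iff.2 fun z => ?_⟩
    obtain ⟨m, hm⟩ := β.surjective ⟨n, hn⟩
    have hstep : ∀ (a : normalizerIn S E) (z : Ω), z ∈ imgHom f E →
        (β a : Ω) * z * (β a : Ω)⁻¹ ∈ imgHom f E := by
      intro a z hz
      obtain ⟨w, hw, rfl⟩ := mem_imgHom.1 hz
      refine mem_imgHom.2 ⟨a * w * a⁻¹, (Subgroup.mem_normalizer_iff.1 a.2.2 w).1 hw, ?_⟩
      simp [hf]
    have e1 : n = (β m : Ω) := by rw [hm]
    refine ⟨fun hz => e1 ▸ hstep m z hz, fun hz => ?_⟩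
    have h1 := hstep m⁻¹ _ hz
    rw [map_inv, Subgroup.coe_inv, ← e1] at h1
    simpa [mul_assoc] using h1
  have hfull := hE.2.1.2 (imgHom f E) hconj
  haveI := finite_of_le (normalizerIn_le S (imgHom f E))
  have heq : normalizerIn S E = normalizerIn S (imgHom f E) :=
    Subgroup.eq_of_le_of_card_ge hle hfull
  have hsN : s ∈ normalizerIn S E := by
    rw [heq]
    have hstep : ∀ z ∈ imgHom f E, s * z * s⁻¹ ∈ imgHom f E := by
      intro z hz
      obtain ⟨w, hw, rfl⟩ := mem_imgHom.1 hz
      refine mem_imgHom.2 ⟨φ w, hstab w hw, ?_⟩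
      have h1 := hs (β w)
      rw [MulAut.mul_apply, MulAut.mul_apply, MulAut.inv_apply_self] at h1
      exact h1
    haveI : Finite (imgHom f E) := finite_of_le (le_of_isConj_right hconj)
    have hmap : (imgHom f E).map (MulAut.conj s).toMonoidHom = imgHom f E :=
      Subgroup.eq_of_le_of_card_ge (by rintro _ ⟨z, hz, rfl⟩; exact hstep z hz)
        (Subgroup.card_map_of_injective (MulAut.conj s).injective).ge
    refine ⟨hsS, Subgroup.mem_normalizer_iff.2 fun z => ⟨hstep z, fun hz => ?_⟩⟩
    obtain ⟨w, hw, hwz⟩ := (SetLike.ext_iff.1 hmap _).2 hz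
    exact (MulAut.conj s).injective hwz ▸ hw
  have hinn : β * φ * β⁻¹ ∈ Inn (normalizerIn S E) :=
    ⟨⟨s, hsN⟩, MulEquiv.ext fun y => Subtype.ext (hs y).symm⟩
  have h2 := (Inn_normal (normalizerIn S E)).conj_mem _ hinn β⁻¹
  simpa [mul_assoc] using h2

/-- The statement when `N_S(E)` is fully normalized. -/
theorem normalizerIn_eq_of_fullyNormalized (hp5 : 5 ≤ p) (hS : IsPGroup p S)
    (hr : SectionalPRankLE p 3 S) (hF : F.IsSaturated p) (hE : F.IsEssential p E)
    (hrk : (frattini E).index = p ^ 3) (hN : F.IsFullyNormalized (normalizerIn S E)) :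
    normalizerIn S E = S := by
  by_contra hne
  have hlt : normalizerIn S E < S := lt_of_le_of_ne (normalizerIn_le S E) hne
  obtain ⟨g, hg, hgE⟩ := SetLike.exists_of_lt (Fusion.lt_normalizerIn hS hlt)
  obtain ⟨d, hd⟩ := exists_frame (le_trans (by norm_num) hp5) hS hF hE hrk
  rcases hd with ⟨h1, h2, h3⟩ | ⟨h1, h2⟩
  · exact hgE ((Frame.TData.mk' hp5 hS hF hE hr ⟨h1, h2, h3⟩).mem_normalizer hS hF hE hr hN
      (fun φ hφ ⟨k, hk⟩ hst => inner_of_stabilizing hS hF hE hN hφ hk hst) hg)
  · have hreg : d.Regular := ⟨h1, h2⟩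
    exact hgE (hreg.mem_normalizer hp5 hS hr hg.1 hg.2)

/-- Isomorphic groups have Frattini subgroups of the same index. -/
theorem frattini_index_eq {A B : Type*} [Group A] [Group B] (e : A ≃* B) :
    (frattini B).index = (frattini A).index := by
  have h : (frattini B).comap e.toMonoidHom = frattini A := by
    refine le_antisymm ?_ ?_
    · have h1 : frattini B ≤ (frattini A).comap e.symm.toMonoidHom :=
        frattini_le_comap_frattini_of_surjective e.symm.surjective
      intro a ha
      simpa using h1 ha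
    · exact frattini_le_comap_frattini_of_surjective e.surjective
  rw [← h, Subgroup.index_comap_of_surjective _ e.surjective]

/-- An essential subgroup needing three generators is normal in `S`. -/
theorem le_normalizer_of_rank_three (hp5 : 5 ≤ p) (hS : IsPGroup p S)
    (hr : SectionalPRankLE p 3 S) (hF : F.IsSaturated p) (hE : F.IsEssential p E)
    (hrk : (frattini E).index = p ^ 3) : S ≤ Subgroup.normalizer (E : Set Ω) := by
  obtain ⟨N', hN'conj, hN'⟩ : ∃ N', F.IsConj (normalizerIn S E) N' ∧ F.IsFullyNormalized N' :=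
    exists_fullyNormalized (normalizerIn_le S E)
  obtain ⟨e, he⟩ := isConj_iff.1 hN'conj
  have hEN : E ≤ normalizerIn S E := le_normalizerIn hE.1.1
  obtain ⟨e', he', hev⟩ := exists_iso_restrict (φ := (N'.subtype.comp e.toMonoidHom)) he hEN
  set E' := imgHom (N'.subtype.comp e.toMonoidHom) E with hE'
  have hconj : F.IsConj E E' := he'.isConj
  have hN'S : N' ≤ S := he.le_right
  haveI := finite_of_le (normalizerIn_le S E')
  have hle : N' ≤ normalizerIn S E' := by
    intro n hn
    refine ⟨hN'S hn, Subgroup.mem_normalizer_iff.2 fun z => ?_⟩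
    have hstep : ∀ (a : normalizerIn S E) (z : Ω), z ∈ E' →
        (e a : Ω) * z * (e a : Ω)⁻¹ ∈ E' := by
      intro a z hz
      obtain ⟨w, hw, rfl⟩ := mem_imgHom.1 hz
      refine mem_imgHom.2 ⟨a * w * a⁻¹, (Subgroup.mem_normalizer_iff.1 a.2.2 w).1 hw, ?_⟩
      simp
    obtain ⟨m, hm⟩ := e.surjective ⟨n, hn⟩
    have e1 : n = (e m : Ω) := by rw [hm]
    refine ⟨fun hz => e1 ▸ hstep m z hz, fun hz => ?_⟩
    have h1 := hstep m⁻¹ _ hz
    rw [map_inv, Subgroup.coe_inv, ← e1] at h1
    simpa [mul_assoc] using h1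
  have hfull := hE.2.1.2 E' hconj
  have hcard : Nat.card N' = Nat.card (normalizerIn S E) := (Nat.card_congr e.toEquiv).symm
  have hNeq : N' = normalizerIn S E' :=
    Subgroup.eq_of_le_of_card_ge hle (hcard ▸ hfull)
  have hE'n : F.IsFullyNormalized E' := ⟨le_of_isConj_right hconj, fun Q hQ => by
    rw [← hNeq, hcard]
    exact hE.2.1.2 Q (isConj_trans hconj hQ)⟩
  have hE'ess := isEssential_of_iso he' hE hE'n
  have hres := normalizerIn_eq_of_fullyNormalized hp5 hS hr hF hE'ess
    ((frattini_index_eq e').trans hrk) (hNeq ▸ hN')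
  have hcardS : Nat.card S ≤ Nat.card (normalizerIn S E) := by
    rw [← hcard, hNeq, hres]
  have hNS : normalizerIn S E = S := Subgroup.eq_of_le_of_card_ge (normalizerIn_le S E) hcardS
  exact hNS.ge.trans inf_le_right

end CfsgLib.FusionRankThree
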