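import Cfsg.Agent.FusionRankThree.Calc

/-!
# The commutator pairing modulo `℧(E)[E', E]`
-/

set_option autoImplicit false
set_option linter.style.haveILetI false

namespace CfsgLib.FusionRankThree

open Cfsg Cfsg.FusionSystem CfsgLib.Fusion Matrix
open scoped commutatorElement

variable {p : ℕ} [hp : Fact p.Prime] {Ω : Type*} [Group Ω] {S : Subgroup Ω}
  {F : FusionSystem S} {E : Subgroup Ω}

omit hp in
theorem sectional_of_le (h : E ≤ S) (hr : SectionalPRankLE p 3 S) : SectionalPRankLE p 3 E := by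
  intro H N hN A hAc hAe
  let j : E →* S := Subgroup.inclusion h
  have hj : Function.Injective j := Subgroup.inclusion_injective h
  refine card_le_of_section hr (H.map j)
    ((QuotientGroup.mk' N).comp (Subgroup.equivMapOfInjective H j hj).symm.toMonoidHom) A ?_
    (fun a ha b hb => congrArg Subtype.val (hAc.is_comm.comm (⟨a, ha⟩ : A) ⟨b, hb⟩)) hAe
  intro a _
  obtain ⟨y, rfl⟩ := QuotientGroup.mk'_surjective N a
  exact ⟨Subgroup.equivMapOfInjective H j hj y, by simp⟩

namespace Frame

variable (d : Frame F p E) [Finite S]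

/-- The pairing. -/
def pair (a b : E) : E ⧸ kSub p E := QuotientGroup.mk' _ ⁅a, b⁆

theorem pair_eq (a b : E) :
    pair (p := p) a b = ⁅QuotientGroup.mk' (kSub p E) a, QuotientGroup.mk' (kSub p E) b⁆ :=
  map_commutatorElement _ a b

theorem pair_central (a b : E) : pair (p := p) a b ∈ Subgroup.center (E ⧸ kSub p E) := by
  refine Subgroup.mem_center_iff.2 fun y => ?_
  obtain ⟨y, rfl⟩ := QuotientGroup.mk'_surjective _ y
  refine (commutatorElement_eq_one_iff_mul_comm.1 ?_).symm
  rw [pair, ← map_commutatorElement]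
  exact (QuotientGroup.eq_one_iff _).2 (commutator_comm_mem_kSub a b y)

theorem pair_mul_left (a b c : E) : pair (p := p) (a * b) c = pair a c * pair b c := by
  rw [pair_eq, pair_eq, pair_eq, map_mul, ← pair_eq b c]
  have h := Subgroup.mem_center_iff.1 (pair_central (p := p) b c)
  rw [show ⁅QuotientGroup.mk' (kSub p E) a * QuotientGroup.mk' (kSub p E) b,
      QuotientGroup.mk' (kSub p E) c⁆ = QuotientGroup.mk' (kSub p E) a * pair b c *
      (QuotientGroup.mk' (kSub p E) a)⁻¹ * ⁅QuotientGroup.mk' (kSub p E) a,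
      QuotientGroup.mk' (kSub p E) c⁆ by
    rw [pair_eq, commutatorElement_def, commutatorElement_def, commutatorElement_def]; group,
    h, mul_inv_cancel_right, ← h]

theorem pair_swap (a b : E) : pair (p := p) a b = (pair b a)⁻¹ := by
  rw [pair, pair, ← map_inv, commutatorElement_inv]

theorem pair_mul_right (a b c : E) : pair (p := p) a (b * c) = pair a b * pair a c := by
  rw [pair_swap, pair_mul_left, _root_.mul_inv_rev, ← pair_swap, ← pair_swap]
  exact Subgroup.mem_center_iff.1 (pair_central a b) _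

theorem pair_self (a : E) : pair (p := p) a a = 1 := by
  rw [pair, commutatorElement_self, map_one]

theorem pair_pow_left (a b : E) (n : ℕ) : pair (p := p) (a ^ n) b = pair a b ^ n := by
  induction n with
  | zero => rw [pow_zero, pow_zero, pair, commutatorElement_one_left, map_one]
  | succ n ih => rw [pow_succ, pair_mul_left, ih, pow_succ]

variable (hS : IsPGroup p S)
include d hS

theorem pair_frattini {t : E} (ht : d.q (t : Ω) = 0) (y : E) : pair (p := p) t y = 1 := by
  haveI := finite_of_le d.le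
  have hEp : IsPGroup p E := hS.to_le d.le
  have h1 : frattini E ≤ (Subgroup.center (E ⧸ kSub p E)).comap (QuotientGroup.mk' _) := by
    refine Solvable.frattini_le_of_elementary (p := p) ?_ fun x => ?_
    · rw [commutator_def, Subgroup.commutator_le]
      exact fun a _ b _ => pair_central a b
    · rw [Subgroup.mem_comap, show QuotientGroup.mk' (kSub p E) (x ^ p) = 1 from
        (QuotientGroup.eq_one_iff _).2 (pow_mem_kSub x)]
      exact one_mem _
  rw [pair_eq, commutatorElement_eq_one_iff_mul_comm]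
  exact (Subgroup.mem_center_iff.1 (h1 ((d.ker t t.2).1 ht)) _).symm

theorem pair_congr {a a' : E} (h : d.q (a : Ω) = d.q (a' : Ω)) (b : E) :
    pair (p := p) a b = pair a' b := by
  have ht : d.q ((a'⁻¹ * a : E) : Ω) = 0 := by
    rw [Subgroup.coe_mul, Subgroup.coe_inv, d.mul _ (E.inv_mem a'.2) _ a.2, d.q_inv a'.2, h,
      neg_add_cancel]
  conv_lhs => rw [← mul_inv_cancel_left a' a]
  rw [pair_mul_left, d.pair_frattini hS ht, mul_one]

theorem pair_congr₂ {a a' b b' : E} (h : d.q (a : Ω) = d.q (a' : Ω))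
    (h' : d.q (b : Ω) = d.q (b' : Ω)) : pair (p := p) a b = pair a' b' := by
  rw [d.pair_congr hS h, pair_swap, d.pair_congr hS h', ← pair_swap]

theorem pair_fixed (hr : SectionalPRankLE p 3 S) {α : MulAut E} {k : ℕ} (hα : α ^ p ^ k = 1)
    (a b : E) : pair (p := p) (α a) (α b) = pair a b :=
  haveI := finite_of_le d.le
  commutator_fixed d.qE d.qE_surjective d.qE_ker (hS.to_le d.le) (sectional_of_le d.le hr) hα a b

omit d hS in
theorem conjAut_pow {g : Ω} (hg : g ∈ normalizerIn S E) (hS : IsPGroup p S) :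
    ∃ k : ℕ, (E.normalizerMonoidHom ⟨g, hg.2⟩ : MulAut E) ^ p ^ k = 1 := by
  obtain ⟨k, hk⟩ := hS ⟨g, hg.1⟩
  refine ⟨k, ?_⟩
  rw [← map_pow, show (⟨g, hg.2⟩ : Subgroup.normalizer (E : Set Ω)) ^ p ^ k = 1 from
    Subtype.ext (by simpa using congrArg Subtype.val hk), map_one]

theorem pair_conjx (hr : SectionalPRankLE p 3 S) (a b a' b' : E)
    (ha : d.q (a' : Ω) = (d.X : M3 p) *ᵥ d.q a) (hb : d.q (b' : Ω) = (d.X : M3 p) *ᵥ d.q b) :
    pair (p := p) a' b' = pair a b := by
  obtain ⟨k, hk⟩ := conjAut_pow (E := E) d.xN hS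
  rw [← d.pair_fixed hS hr hk a b]
  exact d.pair_congr₂ hS (ha.trans (d.conjx _ a.2).symm) (hb.trans (d.conjx _ b.2).symm)

/-- `E' ≤ ℧(E)` if the pairing vanishes. -/
theorem D_le_closure_pow (h : ∀ a b : E, pair (p := p) a b = 1) :
    d.D ≤ Subgroup.closure {y | ∃ a ∈ E, a ^ p = y} := by
  haveI := finite_of_le d.le
  have hEp : IsPGroup p E := hS.to_le d.le
  set P := Subgroup.closure {y : E | ∃ a : E, a ^ p = y}
  haveI : P.Normal := ⟨fun n hn g => by
    have h1 : P.map (MulAut.conj g).toMonoidHom ≤ P := by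
      rw [MonoidHom.map_closure]
      refine Subgroup.closure_mono ?_
      rintro _ ⟨_, ⟨a, rfl⟩, rfl⟩
      exact ⟨g * a * g⁻¹, conj_pow⟩
    exact h1 ⟨n, hn, rfl⟩⟩
  have hc : commutator E ≤ P := commutator_le_of_le_sup hEp (by
    rw [commutator_def, Subgroup.commutator_le]
    exact fun a _ b _ => (QuotientGroup.eq_one_iff _).1 (h a b))
  have hle : frattini E ≤ P :=
    Solvable.frattini_le_of_elementary hc fun x => Subgroup.subset_closure ⟨x, rfl⟩
  rw [d.D_eq]
  refine (Subgroup.map_mono hle).trans ?_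
  rw [MonoidHom.map_closure]
  refine Subgroup.closure_mono ?_
  rintro _ ⟨_, ⟨a, rfl⟩, rfl⟩
  exact ⟨a, a.2, rfl⟩

end Frame

end CfsgLib.FusionRankThree
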