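import Cfsg.Agent.FusionEssential.GL2
import Mathlib.LinearAlgebra.CrossProduct
import Mathlib.LinearAlgebra.Matrix.Charpoly.Coeff

/-!
# Transvections and unipotent elements of `GL₃(p)`
-/

set_option autoImplicit false

namespace CfsgLib.FusionRankThree

open Matrix

/-- Column vectors of length three. -/
abbrev V3 (p : ℕ) := Fin 3 → ZMod p

/-- Three by three matrices. -/
abbrev M3 (p : ℕ) := Matrix (Fin 3) (Fin 3) (ZMod p)

/-- The general linear group in dimension three. -/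
abbrev GL3 (p : ℕ) := GL (Fin 3) (ZMod p)

variable {p : ℕ} [hp : Fact p.Prime]

theorem cube_zero {N : M3 p} {m : ℕ} (h : N ^ m = 0) : N ^ 3 = 0 := by
  have h1 := Matrix.isNilpotent_charpoly_sub_pow_of_isNilpotent (M := N) ⟨m, h⟩
  rw [isNilpotent_iff_eq_zero, sub_eq_zero] at h1
  have h2 := Matrix.aeval_self_charpoly N
  rw [h1] at h2
  simpa using h2

theorem cube_of_pow_eq_one {u : GL3 p} {m : ℕ} (h : u ^ p ^ m = 1) :
    ((u : M3 p) - 1) ^ 3 = 0 :=
  cube_zero (m := p ^ m) (by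
    rw [sub_pow_char_pow_of_commute p m (Commute.one_right _), one_pow, ← Units.val_pow_eq_pow_val,
      h, Units.val_one, sub_self])

theorem pow_eq_one_of_cube (hp3 : 3 ≤ p) {u : GL3 p} (h : ((u : M3 p) - 1) ^ 3 = 0) :
    u ^ p = 1 := by
  refine Units.ext ?_
  have h1 : ((u : M3 p) - 1) ^ p = 0 := pow_eq_zero_of_le hp3 h
  rw [sub_pow_char_of_commute p (Commute.one_right _), one_pow, sub_eq_zero] at h1
  rw [Units.val_pow_eq_pow_val, Units.val_one, h1]

theorem pow_p_of_pow_eq_one (hp3 : 3 ≤ p) {u : GL3 p} {m : ℕ} (h : u ^ p ^ m = 1) : u ^ p = 1 :=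
  pow_eq_one_of_cube hp3 (cube_of_pow_eq_one h)

theorem pow_p_of_mem (hp3 : 3 ≤ p) {P : Subgroup (GL3 p)} (hP : IsPGroup p P) {x : GL3 p}
    (hx : x ∈ P) : x ^ p = 1 := by
  obtain ⟨k, hk⟩ := hP ⟨x, hx⟩
  exact pow_p_of_pow_eq_one hp3 (congrArg Subtype.val hk)

theorem smul_of_cross_eq_zero {a b : V3 p} (ha : a ≠ 0) (h : a ⨯₃ b = 0) :
    ∃ c : ZMod p, b = c • a := by
  obtain ⟨i, hi⟩ := Function.ne_iff.1 ha
  rw [Pi.zero_apply] at hi
  rw [cross_apply] at h
  have h0 := congrFun h 0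
  have h1 := congrFun h 1
  have h2 := congrFun h 2
  simp at h0 h1 h2
  refine ⟨b i / a i, funext fun j => ?_⟩
  rw [Pi.smul_apply, smul_eq_mul, div_mul_eq_mul_div, eq_div_iff hi]
  fin_cases i <;> fin_cases j <;> simp <;>
    first
    | linear_combination h0
    | linear_combination -h0
    | linear_combination h1
    | linear_combination -h1
    | linear_combination h2
    | linear_combination -h2

theorem cross_smul_eq_zero (a : V3 p) (c d : ZMod p) : (c • a) ⨯₃ (d • a) = 0 := by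
  simp [cross_self]

/-- Two independent covectors annihilating two vectors. -/
theorem cross_eq_zero_or {z y f g : V3 p} (h1 : f ⬝ᵥ z = 0) (h2 : f ⬝ᵥ y = 0) (h3 : g ⬝ᵥ z = 0)
    (h4 : g ⬝ᵥ y = 0) : f ⨯₃ g = 0 ∨ z ⨯₃ y = 0 := by
  refine or_iff_not_imp_left.2 fun hn => ?_
  have key : ∀ w : V3 p, f ⬝ᵥ w = 0 → g ⬝ᵥ w = 0 → ∃ c : ZMod p, w = c • (f ⨯₃ g) := by
    intro w hf hg
    refine smul_of_cross_eq_zero hn ?_
    rw [← cross_anticomm, cross_cross_eq_smul_sub_smul', dotProduct_comm w g, hg,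
      dotProduct_comm f w]
    simp [dotProduct_comm w f, hf]
  obtain ⟨c, rfl⟩ := key z h1 h3
  obtain ⟨d, rfl⟩ := key y h2 h4
  exact cross_smul_eq_zero _ _ _

theorem exists_vecMulVec_of_sq_zero {N : M3 p} (hNN : N * N = 0) (hN : N ≠ 0) :
    ∃ z f : V3 p, N = vecMulVec z f ∧ z ≠ 0 ∧ f ≠ 0 ∧ f ⬝ᵥ z = 0 := by
  have h0 : ∀ i j, (N i) ⬝ᵥ (fun r => N r j) = 0 := fun i j => congrFun (congrFun hNN i) j
  obtain ⟨i₀, j, hij⟩ : ∃ i j, N i j ≠ 0 := by
    by_contra h
    push Not at h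
    exact hN (Matrix.ext h)
  set z : V3 p := fun r => N r j with hz
  have hz0 : z ≠ 0 := fun h => hij (congrFun h i₀)
  have hfin : ∀ a b : V3 p, N = vecMulVec a b → ∃ z f : V3 p, N = vecMulVec z f ∧ z ≠ 0 ∧ f ≠ 0 ∧
      f ⬝ᵥ z = 0 := by
    intro a b hab
    have hab' : a ≠ 0 ∧ b ≠ 0 := by
      constructor <;> rintro rfl <;> exact hN (by simp [hab])
    refine ⟨a, b, hab, hab'.1, hab'.2, ?_⟩
    rw [hab, vecMulVec_mul_vecMulVec, vecMulVec_eq_zero, or_iff_right hab'.1, smul_eq_zero,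
      or_iff_left hab'.2] at hNN
    exact hNN
  by_cases hall : ∀ k, z ⨯₃ (fun r => N r k) = 0
  · choose c hc using fun k => smul_of_cross_eq_zero hz0 (hall k)
    refine hfin z c (Matrix.ext fun i k => ?_)
    rw [vecMulVec_apply, mul_comm]
    exact congrFun (hc k) i
  · push Not at hall
    obtain ⟨k, hk⟩ := hall
    set y : V3 p := fun r => N r k with hy
    choose a ha using fun i => smul_of_cross_eq_zero hk (b := N i) (by
      rw [← cross_anticomm, cross_cross_eq_smul_sub_smul', h0 i k, dotProduct_comm z (N i), h0 i j]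
      simp)
    have hab : N = vecMulVec a (z ⨯₃ y) := Matrix.ext fun i m => by
      rw [vecMulVec_apply]
      exact congrFun (ha i) m
    refine absurd ?_ hk
    have e1 : z = (z ⨯₃ y) j • a := funext fun r => by
      rw [hz]; simp only [Pi.smul_apply, smul_eq_mul]
      rw [congrFun (congrFun hab r) j, vecMulVec_apply, mul_comm]
    have e2 : y = (z ⨯₃ y) k • a := funext fun r => by
      rw [hy]; simp only [Pi.smul_apply, smul_eq_mul]
      rw [congrFun (congrFun hab r) k, vecMulVec_apply, mul_comm]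
    rw [e1, e2]
    exact cross_smul_eq_zero _ _ _

/-- `w` is the transvection with centre `z` and axis the kernel of `f`. -/
structure Tv (w : GL3 p) (z f : V3 p) : Prop where
  coe : (w : M3 p) = 1 + vecMulVec z f
  hz : z ≠ 0
  hf : f ≠ 0
  hzero : f ⬝ᵥ z = 0

namespace Tv

variable {w x y : GL3 p} {z f zx fx zy fy : V3 p}

theorem mulVec (h : Tv w z f) (v : V3 p) : (w : M3 p) *ᵥ v = v + (f ⬝ᵥ v) • z := by
  rw [h.coe, add_mulVec, one_mulVec, vecMulVec_mulVec]
  simp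

theorem ne_one (h : Tv w z f) : w ≠ 1 := by
  rintro rfl
  have h1 := h.coe
  rw [Units.val_one, left_eq_add, vecMulVec_eq_zero] at h1
  exact h1.elim h.hz h.hf

theorem sq_zero (h : Tv w z f) : ((w : M3 p) - 1) * ((w : M3 p) - 1) = 0 := by
  rw [h.coe, add_sub_cancel_left, vecMulVec_mul_vecMulVec, h.hzero, zero_smul, vecMulVec_zero]

theorem pow_p (h : Tv w z f) (hp3 : 3 ≤ p) : w ^ p = 1 :=
  pow_eq_one_of_cube hp3 (by rw [pow_succ, pow_two, h.sq_zero, zero_mul])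

theorem of_sq_zero (hw : ((w : M3 p) - 1) * ((w : M3 p) - 1) = 0) (hne : w ≠ 1) :
    ∃ z f, Tv w z f := by
  obtain ⟨z, f, he, hz, hf, hzero⟩ := exists_vecMulVec_of_sq_zero hw
    (fun h => hne (Units.ext (sub_eq_zero.1 h)))
  exact ⟨z, f, by rw [← he]; abel, hz, hf, hzero⟩

theorem pow_coe (h : Tv w z f) (n : ℕ) :
    ((w ^ n : GL3 p) : M3 p) = 1 + vecMulVec ((n : ZMod p) • z) f := by
  induction n with
  | zero => simp
  | succ n ih =>
    rw [pow_succ, Units.val_mul, ih, h.coe]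
    simp only [mul_add, add_mul, one_mul, mul_one, vecMulVec_mul_vecMulVec, h.hzero, zero_smul,
      vecMulVec_zero, add_zero]
    rw [Nat.cast_succ, add_smul, one_smul, add_vecMulVec]
    abel

theorem conj (h : Tv w z f) (g : GL3 p) :
    Tv (g * w * g⁻¹) ((g : M3 p) *ᵥ z) (f ᵥ* ((g⁻¹ : GL3 p) : M3 p)) := by
  refine ⟨?_, fun h0 => h.hz ?_, fun h0 => h.hf ?_, ?_⟩
  · rw [Units.val_mul, Units.val_mul, h.coe, mul_add, mul_one, add_mul, mul_vecMulVec,
      vecMulVec_mul, ← Units.val_mul, mul_inv_cancel, Units.val_one]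
  · have h1 := congrArg (((g⁻¹ : GL3 p) : M3 p) *ᵥ ·) h0
    simpa [mulVec_mulVec, ← Units.val_mul] using h1
  · have h1 := congrArg (· ᵥ* (g : M3 p)) h0
    simpa [vecMul_vecMul, ← Units.val_mul] using h1
  · rw [← dotProduct_mulVec, mulVec_mulVec, ← Units.val_mul, inv_mul_cancel, Units.val_one,
      one_mulVec, h.hzero]

theorem val_mul' (hx : Tv x zx fx) (hy : Tv y zy fy) :
    ((x * y : GL3 p) : M3 p) =
      1 + vecMulVec zx fx + vecMulVec zy fy + (fx ⬝ᵥ zy) • vecMulVec zx fy := by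
  rw [Units.val_mul, hx.coe, hy.coe]
  simp only [mul_add, add_mul, one_mul, mul_one, vecMulVec_mul_vecMulVec, vecMulVec_smul]
  abel

theorem commute_of_zero (hx : Tv x zx fx) (hy : Tv y zy fy) (h1 : fx ⬝ᵥ zy = 0)
    (h2 : fy ⬝ᵥ zx = 0) : Commute x y := by
  refine Units.ext ?_
  rw [hx.val_mul' hy, hy.val_mul' hx, h1, h2, zero_smul, zero_smul]
  abel

theorem zero_of_commute (hx : Tv x zx fx) (hy : Tv y zy fy) (h : Commute x y) :
    fx ⬝ᵥ zy = 0 ∧ fy ⬝ᵥ zx = 0 := by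
  have h0 := congrArg (fun a : GL3 p => (a : M3 p)) h.eq
  simp only [hx.val_mul' hy, hy.val_mul' hx] at h0
  have h1 : (fx ⬝ᵥ zy) • vecMulVec zx fy = (fy ⬝ᵥ zx) • vecMulVec zy fx := by
    have h0' : vecMulVec zx fx + vecMulVec zy fy + (fx ⬝ᵥ zy) • vecMulVec zx fy =
        vecMulVec zx fx + vecMulVec zy fy + (fy ⬝ᵥ zx) • vecMulVec zy fx := by
      refine add_left_cancel (a := (1 : M3 p)) ?_
      rw [← add_assoc, ← add_assoc, h0]
      abel
    exact add_left_cancel h0'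
  have h2 := congrArg (· *ᵥ zy) h1
  simp only [smul_mulVec, vecMulVec_mulVec, hy.hzero, MulOpposite.op_zero, zero_smul, smul_zero,
    op_smul_eq_smul] at h2
  rw [eq_comm, smul_eq_zero, smul_eq_zero, or_iff_left hy.hz] at h2
  have hgz : fy ⬝ᵥ zx = 0 ∨ fx ⬝ᵥ zy = 0 := h2
  rcases hgz with h3 | h3
  · rw [h3, zero_smul, smul_eq_zero, vecMulVec_eq_zero] at h1
    exact ⟨h1.resolve_right (not_or.2 ⟨hx.hz, hy.hf⟩), h3⟩
  · rw [h3, zero_smul, eq_comm, smul_eq_zero, vecMulVec_eq_zero] at h1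
    exact ⟨h3, h1.resolve_right (not_or.2 ⟨hy.hz, hx.hf⟩)⟩

/-- The commutator of two transvections related in one direction only. -/
theorem exists_between (hx : Tv x zx fx) (hy : Tv y zy fy) (h0 : fy ⬝ᵥ zx = 0)
    (h1 : fx ⬝ᵥ zy ≠ 0) :
    Tv (x * y * (y * x)⁻¹) zx ((fx ⬝ᵥ zy) • fy) ∧ Commute (x * y * (y * x)⁻¹) x ∧
      Commute (x * y * (y * x)⁻¹) y := by
  have hk : Tv (x * y * (y * x)⁻¹) zx ((fx ⬝ᵥ zy) • fy) := by
    refine ⟨?_, hx.hz, smul_ne_zero h1 hy.hf, by rw [smul_dotProduct, h0, smul_zero]⟩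
    have e : ((x * y : GL3 p) : M3 p) =
        (1 + vecMulVec zx ((fx ⬝ᵥ zy) • fy)) * ((y * x : GL3 p) : M3 p) := by
      rw [hx.val_mul' hy, hy.val_mul' hx, h0, zero_smul, add_zero, vecMulVec_smul]
      simp only [add_mul, mul_add, one_mul, mul_one, smul_mul_assoc, vecMulVec_mul_vecMulVec, h0,
        hy.hzero, zero_smul, vecMulVec_zero, smul_zero, add_zero]
      abel
    rw [Units.val_mul, e, mul_assoc, ← Units.val_mul, mul_inv_cancel, Units.val_one, mul_one]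
  exact ⟨hk, hk.commute_of_zero hx (by rw [smul_dotProduct, h0, smul_zero]) hx.hzero,
    hk.commute_of_zero hy (by rw [smul_dotProduct, hy.hzero, smul_zero]) h0⟩

end Tv

end CfsgLib.FusionRankThree
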